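import Groth.Agent.EtaleDeep.IndEt.Criterion

/-!
# Ind-etale algebras
-/

set_option autoImplicit false
set_option linter.style.haveILetI false

universe u

open CategoryTheory MvPolynomial TensorProduct

namespace Groth.EtaleDeep.IndEt

variable {A B C : Type u} [CommRing A] [CommRing B] [CommRing C] [Algebra A B]

theorem isIndEtale_iff_factors :
    EtPBC.IsIndEtale A B ↔ Factors A B (fun R => Algebra.Etale A R) := by
  refine ⟨fun h => (isIndEtale_iff.mp h).some.factors, fun h => isIndEtale_iff.mpr ?_⟩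
  exact h.nonempty_pres (fun R _ _ hR => hR.finitePresentation)
    fun R S _ _ _ _ e hR => Algebra.Etale.of_equiv e

/-- A finite set of polynomials over the colimit comes from a stage. -/
theorem Pres.exists_coeffs {P : ∀ (R : Type u) [CommRing R] [Algebra A R], Prop} (H : Pres A B P)
    (i₀ : H.J) {σ : Type*} (p : MvPolynomial σ B) :
    ∃ (i : H.J) (_ : i₀ ⟶ i) (p' : MvPolynomial σ (H.G i)),
      MvPolynomial.map (H.g i).toRingHom p' = p := by
  induction p using MvPolynomial.induction_on' with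
  | monomial d b =>
    obtain ⟨i, u, x, hx⟩ := H.surj_fintype i₀ (fun _ : Unit => b)
    exact ⟨i, u, MvPolynomial.monomial d (x ()), by rw [map_monomial]; exact congrArg _ (hx ())⟩
  | add p q hp hq =>
    obtain ⟨i, u, p', rfl⟩ := hp
    obtain ⟨j, v, q', rfl⟩ := hq
    refine ⟨IsFiltered.max i j, u ≫ IsFiltered.leftToMax i j,
      MvPolynomial.map (H.f (IsFiltered.leftToMax i j)).toRingHom p' +
      MvPolynomial.map (H.f (IsFiltered.rightToMax i j)).toRingHom q', ?_⟩
    rw [map_add, MvPolynomial.map_map, MvPolynomial.map_map]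
    congr 2 <;> exact congrArg _ (RingHom.ext fun x => H.g_f _ x)

/-- An etale algebra over a filtered colimit comes from a stage. -/
theorem Pres.exists_etale_model {P : ∀ (R : Type u) [CommRing R] [Algebra A R], Prop}
    (H : Pres A B P) (E : Type u) [CommRing E] [Algebra B E] [Algebra.Etale B E] :
    ∃ (i : H.J) (E₁ : Type u) (_ : CommRing E₁) (_ : Algebra (H.G i) E₁),
      Algebra.Etale (H.G i) E₁ ∧
      (letI := (H.g i).toRingHom.toAlgebra; Nonempty (E ≃ₐ[B] B ⊗[H.G i] E₁)) := by
  obtain ⟨A₀, E₀, _, _, hfg, _, ⟨e⟩⟩ :=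
    Algebra.Etale.exists_subalgebra_fg (R := ℤ) (A := B) (B := E)
  have : Algebra.FiniteType ℤ A₀ := (Subalgebra.fg_iff_finiteType A₀).mp hfg
  have : Algebra.FinitePresentation ℤ A₀ := Algebra.FinitePresentation.of_finiteType.mp inferInstance
  obtain ⟨i, -, ψ, hψ⟩ := H.exists_lift H.nonempty.some
    (Algebra.TensorProduct.lift (Algebra.ofId A B) (A₀.val) (fun _ _ => Commute.all _ _) :
      A ⊗[ℤ] A₀ →ₐ[A] B)
  let ρ : A₀ →+* H.G i :=
    ψ.toRingHom.comp (Algebra.TensorProduct.includeRight : A₀ →ₐ[ℤ] A ⊗[ℤ] A₀).toRingHom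
  letI : Algebra A₀ (H.G i) := ρ.toAlgebra
  letI : Algebra (H.G i) B := (H.g i).toRingHom.toAlgebra
  have : IsScalarTower A₀ (H.G i) B := IsScalarTower.of_algebraMap_eq fun a => by
    have h2 := AlgHom.congr_fun hψ ((1 : A) ⊗ₜ[ℤ] a)
    refine Eq.trans ?_ h2.symm
    simp
  exact ⟨i, H.G i ⊗[A₀] E₀, inferInstance, inferInstance, inferInstance,
    ⟨e.trans (Algebra.TensorProduct.cancelBaseChange A₀ (H.G i) B B E₀).symm⟩⟩

theorem isIndEtale_baseChange (A' : Type u) [CommRing A'] [Algebra A A']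
    (h : EtPBC.IsIndEtale A B) : EtPBC.IsIndEtale A' (A' ⊗[A] B) :=
  isIndEtale_iff.mpr ⟨(isIndEtale_iff.mp h).some.baseChange A' fun j => by
    have := (isIndEtale_iff.mp h).some.prop j
    infer_instance⟩

theorem isIndEtale_of_equiv {B' : Type u} [CommRing B'] [Algebra A B'] (e : B ≃ₐ[A] B')
    (h : EtPBC.IsIndEtale A B) : EtPBC.IsIndEtale A B' :=
  isIndEtale_iff.mpr ⟨(isIndEtale_iff.mp h).some.ofEquiv e⟩

variable [Algebra B C] [Algebra A C] [IsScalarTower A B C]

theorem isIndEtale_trans (hAB : EtPBC.IsIndEtale A B) (hBC : EtPBC.IsIndEtale B C) :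
    EtPBC.IsIndEtale A C := by
  classical
  obtain ⟨H⟩ := isIndEtale_iff.mp hAB
  rw [isIndEtale_iff_factors]
  intro n s b hb
  obtain ⟨E, _, _, hE, ψ, x, hx, hxb⟩ := isIndEtale_iff_factors.mp hBC n
    (s.image (MvPolynomial.map (algebraMap A B))) b (fun r hr => by
      obtain ⟨r, hr', rfl⟩ := Finset.mem_image.mp hr
      rw [aeval_map_algebraMap]; exact hb r hr')
  have hx' : ∀ r ∈ s, aeval (R := B) x (MvPolynomial.map (algebraMap A B) r) = 0 :=
    fun r hr => hx _ (Finset.mem_image_of_mem _ hr)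
  obtain ⟨i, E₁, _, _, hE₁, he⟩ := H.exists_etale_model E
  letI : Algebra (H.G i) B := (H.g i).toRingHom.toAlgebra
  obtain ⟨e⟩ := he
  letI : Algebra A E₁ := ((algebraMap (H.G i) E₁).comp (algebraMap A (H.G i))).toAlgebra
  have : IsScalarTower A (H.G i) E₁ := IsScalarTower.of_algebraMap_eq fun _ => rfl
  have : IsScalarTower A (H.G i) B :=
    IsScalarTower.of_algebraMap_eq fun a => ((H.g i).commutes a).symm
  have hE₁A : Algebra.Etale A E₁ :=
    have := H.prop i
    Algebra.Etale.comp A (H.G i) E₁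
  let K := (H.under i (fun _ => rfl)).baseChange E₁ (Q := fun R _ _ => Algebra.Etale E₁ R)
    fun k => by
      change Under i at k
      letI : Algebra (H.G i) (H.G k.right) := (H.f k.hom).toRingHom.toAlgebra
      have : IsScalarTower A (H.G i) (H.G k.right) :=
        IsScalarTower.of_algebraMap_eq fun a => ((H.f k.hom).commutes a).symm
      have := H.prop i
      have := H.prop k.right
      have : Algebra.Etale (H.G i) (H.G k.right) := Algebra.Etale.of_restrictScalars A _ _
      exact inferInstanceAs (Algebra.Etale E₁ (E₁ ⊗[H.G i] H.G k.right))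
  letI : ∀ k, Algebra A (K.G k) := fun k =>
    ((algebraMap E₁ (K.G k)).comp (algebraMap A E₁)).toAlgebra
  have : ∀ k, IsScalarTower A E₁ (K.G k) := fun k => IsScalarTower.of_algebraMap_eq fun _ => rfl
  let φ : E₁ ⊗[H.G i] B →+* C := ψ.toRingHom.comp (e.symm.toAlgHom.toRingHom.comp
    (Algebra.TensorProduct.comm (H.G i) E₁ B).toAlgHom.toRingHom)
  have hφA : ∀ a : A, φ (algebraMap A (E₁ ⊗[H.G i] B) a) = algebraMap A C a := by
    intro a
    rw [Algebra.TensorProduct.algebraMap_apply, IsScalarTower.algebraMap_apply A (H.G i) E₁]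
    change ψ (e.symm (Algebra.TensorProduct.comm (H.G i) E₁ B
      (algebraMap (H.G i) E₁ (algebraMap A (H.G i) a) ⊗ₜ 1))) = _
    rw [Algebra.TensorProduct.comm_tmul, Algebra.algebraMap_eq_smul_one (A := E₁), tmul_smul,
      smul_tmul', ← Algebra.algebraMap_eq_smul_one, ← IsScalarTower.algebraMap_apply A (H.G i) B,
      show (algebraMap A B a) ⊗ₜ[H.G i] (1 : E₁) = algebraMap B _ (algebraMap A B a) from rfl,
      AlgEquiv.commutes, AlgHom.commutes, ← IsScalarTower.algebraMap_apply A B C]
  obtain ⟨k, -, z, hz⟩ := K.surj_fintype K.nonempty.some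
    (fun l => Algebra.TensorProduct.comm (H.G i) B E₁ (e (x l)))
  let gA : K.G k →ₐ[A] E₁ ⊗[H.G i] B := AlgHom.mk (K.g k).toRingHom fun a => by
    change K.g k (algebraMap A (K.G k) a) = _
    rw [IsScalarTower.algebraMap_apply A E₁ (K.G k), AlgHom.commutes,
      ← IsScalarTower.algebraMap_apply A E₁ (E₁ ⊗[H.G i] B)]
  have hzero : ∀ r ∈ s, gA (aeval z r) = 0 := by
    intro r hr
    rw [← AlgHom.comp_apply, comp_aeval]
    let θ : E →+* E₁ ⊗[H.G i] B :=
      (Algebra.TensorProduct.comm (H.G i) B E₁).toAlgHom.toRingHom.comp e.toAlgHom.toRingHom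
    have hθA : θ.comp ((algebraMap B E).comp (algebraMap A B)) = algebraMap A (E₁ ⊗[H.G i] B) := by
      refine RingHom.ext fun a => ?_
      change Algebra.TensorProduct.comm (H.G i) B E₁ (e (algebraMap B E (algebraMap A B a))) = _
      rw [AlgEquiv.commutes]
      change Algebra.TensorProduct.comm (H.G i) B E₁ (algebraMap A B a ⊗ₜ 1) = _
      rw [Algebra.TensorProduct.comm_tmul, IsScalarTower.algebraMap_apply A (H.G i) B,
        Algebra.algebraMap_eq_smul_one (A := B), tmul_smul, smul_tmul',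
        ← Algebra.algebraMap_eq_smul_one, Algebra.TensorProduct.algebraMap_apply,
        ← IsScalarTower.algebraMap_apply A (H.G i) E₁]
    have h3 := congrArg θ (hx' r hr)
    rw [map_zero, aeval_def, eval₂_map, hom_eval₂, hθA] at h3
    rw [aeval_def]
    refine Eq.trans ?_ h3
    congr 1
    exact funext hz
  obtain ⟨k', u, hu⟩ := K.zero_finset k (s.image fun r => aeval z r) (by
    intro y hy
    obtain ⟨r, hr, rfl⟩ := Finset.mem_image.mp hy
    exact hzero r hr)
  refine ⟨K.G k', inferInstance, inferInstance, ?_, ?_⟩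
  · have := K.prop k'
    exact Algebra.Etale.comp A E₁ _
  · refine ⟨AlgHom.mk (φ.comp (K.g k').toRingHom) fun a => ?_, fun l => K.f u (z l), fun r hr => ?_,
      fun l => ?_⟩
    · change φ (K.g k' (algebraMap A (K.G k') a)) = _
      rw [IsScalarTower.algebraMap_apply A E₁ (K.G k'), AlgHom.commutes,
        ← IsScalarTower.algebraMap_apply A E₁ (E₁ ⊗[H.G i] B)]
      exact hφA a
    · let uA : K.G k →ₐ[A] K.G k' := AlgHom.mk (K.f u).toRingHom fun a => by
        change K.f u (algebraMap A (K.G k) a) = _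
        rw [IsScalarTower.algebraMap_apply A E₁ (K.G k), AlgHom.commutes,
          ← IsScalarTower.algebraMap_apply A E₁ (K.G k')]
      change aeval (fun l => uA (z l)) r = 0
      rw [← comp_aeval, AlgHom.comp_apply]
      exact hu _ (Finset.mem_image_of_mem _ hr)
    · change φ (K.g k' (K.f u (z l))) = b l
      rw [K.g_f, hz]
      change ψ (e.symm (Algebra.TensorProduct.comm (H.G i) E₁ B
        (Algebra.TensorProduct.comm (H.G i) B E₁ (e (x l))))) = b l
      rw [show Algebra.TensorProduct.comm (H.G i) E₁ B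
        (Algebra.TensorProduct.comm (H.G i) B E₁ (e (x l))) = e (x l) from
          (Algebra.TensorProduct.comm (H.G i) B E₁).symm_apply_apply _, AlgEquiv.symm_apply_apply,
        hxb]

theorem isIndEtale_of_isIndEtale (hB : EtPBC.IsIndEtale A B) (hC : EtPBC.IsIndEtale A C) :
    EtPBC.IsIndEtale B C := by
  classical
  obtain ⟨H⟩ := isIndEtale_iff.mp hB
  obtain ⟨H'⟩ := isIndEtale_iff.mp hC
  rw [isIndEtale_iff_factors]
  intro n s b hb
  have key : ∀ t : Finset (MvPolynomial (Fin n) B), ∃ (i : H.J) (r' : MvPolynomial (Fin n) B →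
      MvPolynomial (Fin n) (H.G i)), ∀ r ∈ t, MvPolynomial.map (H.g i).toRingHom (r' r) = r := by
    intro t
    induction t using Finset.induction_on with
    | empty => exact ⟨H.nonempty.some, fun _ => 0, by simp⟩
    | insert a t _ ih =>
      obtain ⟨i, r', hr'⟩ := ih
      obtain ⟨i', u, a', ha'⟩ := H.exists_coeffs i a
      refine ⟨i', fun r => if r = a then a' else MvPolynomial.map (H.f u).toRingHom (r' r),
        fun r hr => ?_⟩
      beta_reduce
      split_ifs with h
      · rw [ha', h]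
      · rw [MvPolynomial.map_map, show (H.g i').toRingHom.comp (H.f u).toRingHom = (H.g i).toRingHom from
          RingHom.ext fun x => H.g_f u x, hr' r ((Finset.mem_insert.mp hr).resolve_left h)]
  obtain ⟨i, r', hr'⟩ := key s
  have := H.prop i
  obtain ⟨j₀, -, θ₀, hθ₀⟩ := H'.exists_lift H'.nonempty.some
    ((IsScalarTower.toAlgHom A B C).comp (H.g i))
  obtain ⟨j, v, z, hz⟩ := H'.surj_fintype j₀ b
  let θ : H.G i →ₐ[A] H'.G j := (H'.f v).comp θ₀
  have hθ : ∀ x, H'.g j (θ x) = algebraMap B C (H.g i x) := fun x => by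
    change H'.g j (H'.f v (θ₀ x)) = _
    rw [H'.g_f]
    exact AlgHom.congr_fun hθ₀ x
  obtain ⟨k, w, hw⟩ := H'.zero_finset j (s.image fun r => eval₂Hom θ.toRingHom z (r' r)) (by
    intro y hy
    obtain ⟨r, hr, rfl⟩ := Finset.mem_image.mp hy
    have h1 := hb r hr
    rw [← hr' r hr, aeval_def, eval₂_map] at h1
    rw [coe_eval₂Hom]
    change (H'.g j).toRingHom (eval₂ θ.toRingHom z (r' r)) = 0
    rw [hom_eval₂]
    refine Eq.trans ?_ h1
    congr 1
    · exact RingHom.ext hθ
    · exact funext hz)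
  letI : Algebra (H.G i) B := (H.g i).toRingHom.toAlgebra
  letI : Algebra (H.G i) (H'.G k) := ((H'.f w).comp θ).toRingHom.toAlgebra
  letI : Algebra (H.G i) C := ((algebraMap B C).comp (algebraMap (H.G i) B)).toAlgebra
  have : IsScalarTower (H.G i) B C := IsScalarTower.of_algebraMap_eq fun _ => rfl
  have : IsScalarTower A (H.G i) (H'.G k) :=
    IsScalarTower.of_algebraMap_eq fun a => (((H'.f w).comp θ).commutes a).symm
  have := H'.prop k
  have : Algebra.Etale (H.G i) (H'.G k) := Algebra.Etale.of_restrictScalars A _ _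
  let g' : H'.G k →ₐ[H.G i] C := AlgHom.mk (H'.g k).toRingHom fun x => by
    change H'.g k (H'.f w (θ x)) = _
    rw [H'.g_f, hθ]
    rfl
  refine ⟨B ⊗[H.G i] H'.G k, inferInstance, inferInstance, inferInstance,
    Algebra.TensorProduct.lift (Algebra.ofId B C) g' (fun _ _ => Commute.all _ _),
    fun l => 1 ⊗ₜ H'.f w (z l), fun r hr => ?_, fun l => ?_⟩
  · have h1 := hw _ (Finset.mem_image_of_mem _ hr)
    rw [coe_eval₂Hom] at h1
    change (H'.f w).toRingHom (eval₂ θ.toRingHom z (r' r)) = 0 at h1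
    rw [hom_eval₂] at h1
    have h2 := congrArg (Algebra.TensorProduct.includeRight :
      H'.G k →ₐ[H.G i] B ⊗[H.G i] H'.G k).toRingHom h1
    rw [hom_eval₂, map_zero] at h2
    rw [← hr' r hr, aeval_def, eval₂_map]
    refine Eq.trans ?_ h2
    congr 1
    exact RingHom.ext fun x =>
      (Algebra.TensorProduct.includeRight : H'.G k →ₐ[H.G i] B ⊗[H.G i] H'.G k).commutes x |>.symm
  · simp only [Algebra.TensorProduct.lift_tmul, map_one, one_mul]
    change H'.g k (H'.f w (z l)) = b l
    rw [H'.g_f, hz]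

omit [Algebra B C] [Algebra A C] [IsScalarTower A B C] in
theorem flat_of_pres {P : ∀ (R : Type u) [CommRing R] [Algebra A R], Prop} (H : Pres A B P)
    (h : ∀ j, Module.Flat A (H.G j)) : Module.Flat A B := by
  refine Module.Flat.of_forall_isTrivialRelation fun {l f x} hfx => ?_
  obtain ⟨i, -, y, hy⟩ := H.surj_fintype H.nonempty.some x
  obtain ⟨k, u, hu⟩ := H.zero i (∑ m, f m • y m) (by simp [map_sum, map_smul, hy, hfx])
  have := h k
  obtain ⟨κ, a, w, hyw, ha⟩ := Module.Flat.isTrivialRelation_of_sum_smul_eq_zero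
    (f := f) (x := fun m => H.f u (y m)) (by simpa [map_sum, map_smul] using hu)
  refine ⟨κ, a, fun j => H.g k (w j), fun m => ?_, ha⟩
  rw [← hy m, ← H.g_f u]
  refine (congrArg (H.g k) (hyw m)).trans ?_
  simp [map_smul]

omit [Algebra B C] [Algebra A C] [IsScalarTower A B C] in
theorem weaklyEtale (h : EtPBC.IsIndEtale A B) : Algebra.WeaklyEtale A B := by
  obtain ⟨H⟩ := isIndEtale_iff.mp h
  refine ⟨flat_of_pres H fun j => ?_, ?_⟩
  · have := H.prop j
    infer_instance
  · algebraize [(Algebra.TensorProduct.lmul' A (S := B)).toRingHom]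
    change Module.Flat (B ⊗[A] B) B
    classical
    refine Module.Flat.of_forall_isTrivialRelation fun {l f x} hfx => ?_
    -- lift the coefficients
    choose i₁ w₁ hw₁ using fun m => H.tensor_surj B (f m)
    obtain ⟨j₁, hj₁⟩ := IsFiltered.sup_objs_exists (Finset.univ.image i₁)
    let u₁ : ∀ m, i₁ m ⟶ j₁ := fun m =>
      (hj₁ (Finset.mem_image_of_mem i₁ (Finset.mem_univ m))).some
    have hm : ∀ z : B ⊗[A] H.G j₁, ∃ (j : H.J) (v : j₁ ⟶ j) (z' : H.G j ⊗[A] H.G j),
        Algebra.TensorProduct.map (H.g j) (H.g j) z' = H.tg B j₁ z := by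
      intro z
      induction z using TensorProduct.induction_on with
      | zero => exact ⟨j₁, 𝟙 _, 0, by simp⟩
      | tmul c d =>
        obtain ⟨j, v, c', hc'⟩ := H.surj_fintype j₁ (fun _ : Unit => c)
        refine ⟨j, v, c' () ⊗ₜ H.f v d, ?_⟩
        rw [Algebra.TensorProduct.map_tmul, hc', H.g_f]
        rfl
      | add a b ha hb =>
        obtain ⟨j, v, a', ha'⟩ := ha
        obtain ⟨j', v', b', hb'⟩ := hb
        let p := IsFiltered.leftToMax j j'
        let q := IsFiltered.rightToMax j j'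
        refine ⟨_, v ≫ p, Algebra.TensorProduct.map (H.f p) (H.f p) a' +
          Algebra.TensorProduct.map (H.f q) (H.f q) b', ?_⟩
        rw [map_add, map_add, ← AlgHom.comp_apply, ← AlgHom.comp_apply,
          ← Algebra.TensorProduct.map_comp, ← Algebra.TensorProduct.map_comp, H.g_comp_f,
          H.g_comp_f, ha', hb']
    choose j v z hz using fun m => hm (H.tmap B (u₁ m) (w₁ m))
    obtain ⟨j₂, hj₂⟩ := IsFiltered.sup_objs_exists (insert j₁ (Finset.univ.image j))
    let u₂ : ∀ m, j m ⟶ j₂ := fun m =>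
      (hj₂ (Finset.mem_insert_of_mem (Finset.mem_image_of_mem j (Finset.mem_univ m)))).some
    obtain ⟨j₃, u₃, y, hy⟩ := H.surj_fintype j₂ x
    let F : Fin l → H.G j₃ ⊗[A] H.G j₃ := fun m =>
      Algebra.TensorProduct.map (H.f (u₂ m ≫ u₃)) (H.f (u₂ m ≫ u₃)) (z m)
    have hF : ∀ m, Algebra.TensorProduct.map (H.g j₃) (H.g j₃) (F m) = f m := by
      intro m
      rw [← AlgHom.comp_apply, ← Algebra.TensorProduct.map_comp, H.g_comp_f, hz, H.tg_tmap, hw₁]
    have hmul : ∀ (k : H.J) (t : H.G k ⊗[A] H.G k),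
        H.g k (Algebra.TensorProduct.lmul' A t) =
          Algebra.TensorProduct.lmul' A (Algebra.TensorProduct.map (H.g k) (H.g k) t) := by
      intro k t
      induction t using TensorProduct.induction_on with
      | zero => simp
      | tmul a b => simp
      | add a b ha hb => simp only [map_add, ha, hb]
    obtain ⟨k, u, hu⟩ := H.zero j₃ (∑ m, Algebra.TensorProduct.lmul' A (F m) * y m) (by
      simp only [map_sum, map_mul, hmul, hF, hy]
      exact hfx)
    have := H.prop k
    have hk : Algebra.WeaklyEtale A (H.G k) := inferInstance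
    let fk : Fin l → H.G k ⊗[A] H.G k := fun m =>
      Algebra.TensorProduct.map (H.f u) (H.f u) (F m)
    have hmap : ∀ t : H.G j₃ ⊗[A] H.G j₃, Algebra.TensorProduct.lmul' A
        (Algebra.TensorProduct.map (H.f u) (H.f u) t) = H.f u (Algebra.TensorProduct.lmul' A t) := by
      intro t
      induction t using TensorProduct.induction_on with
      | zero => simp
      | tmul a b => simp
      | add a b ha hb => simp only [map_add, ha, hb]
    obtain ⟨κ, a, w, hyw, ha⟩ : ∃ (κ : ℕ) (a : Fin l → Fin κ → H.G k ⊗[A] H.G k)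
        (w : Fin κ → H.G k),
        (∀ m, H.f u (y m) = ∑ q, Algebra.TensorProduct.lmul' A (a m q) * w q) ∧
        ∀ q, ∑ m, fk m * a m q = 0 := by
      letI : Algebra (H.G k ⊗[A] H.G k) (H.G k) :=
        (Algebra.TensorProduct.lmul' A (S := H.G k)).toRingHom.toAlgebra
      have : Module.Flat (H.G k ⊗[A] H.G k) (H.G k) := hk.flat_lmul'
      exact Module.Flat.isTrivialRelation_of_sum_smul_eq_zero
        (f := fk) (x := fun m => H.f u (y m)) (by
          change ∑ m, Algebra.TensorProduct.lmul' A (fk m) * H.f u (y m) = 0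
          simp only [fk, hmap, ← map_mul, ← map_sum, hu])
    refine ⟨κ, fun m q => Algebra.TensorProduct.map (H.g k) (H.g k) (a m q),
      fun q => H.g k (w q), fun m => ?_, fun q => ?_⟩
    · rw [← hy m, ← H.g_f u, hyw m, map_sum]
      refine Finset.sum_congr rfl fun q _ => ?_
      rw [map_mul, hmul]
      rfl
    · rw [← map_zero (Algebra.TensorProduct.map (H.g k) (H.g k)), ← ha q, map_sum]
      refine Finset.sum_congr rfl fun m _ => ?_
      rw [map_mul]
      congr 1
      change f m = Algebra.TensorProduct.map (H.g k) (H.g k)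
        (Algebra.TensorProduct.map (H.f u) (H.f u) (F m))
      rw [← AlgHom.comp_apply, ← Algebra.TensorProduct.map_comp, H.g_comp_f, hF]

end Groth.EtaleDeep.IndEt
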