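import Groth.Agent.EtaleDeep.IndEt.Pres

/-!
# Tensor products and filtered presentations
-/

set_option autoImplicit false
set_option linter.style.haveILetI false

universe u

open CategoryTheory TensorProduct

namespace Groth.EtaleDeep.IndEt.Pres

variable {A B : Type u} [CommRing A] [CommRing B] [Algebra A B]
  {P : ∀ (R : Type u) [CommRing R] [Algebra A R], Prop}

theorem lTensor_rTensor_comm {N N' M M' : Type*} [AddCommGroup N] [Module A N] [AddCommGroup N']
    [Module A N'] [AddCommGroup M] [Module A M] [AddCommGroup M'] [Module A M']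
    (h : N →ₗ[A] N') (k : M →ₗ[A] M') (x : M ⊗[A] N) :
    h.lTensor M' (k.rTensor N x) = k.rTensor N' (h.lTensor M x) := by
  rw [← LinearMap.comp_apply, LinearMap.lTensor_comp_rTensor, ← LinearMap.rTensor_comp_lTensor,
    LinearMap.comp_apply]

section

variable (H : Pres A B P) (M : Type u) [AddCommGroup M] [Module A M]

/-- Transition map on `M ⊗ G`. -/
noncomputable def tmap {i j : H.J} (u : i ⟶ j) : M ⊗[A] H.G i →ₗ[A] M ⊗[A] H.G j :=
  (H.f u).toLinearMap.lTensor M

/-- Cocone map on `M ⊗ G`. -/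
noncomputable def tg (i : H.J) : M ⊗[A] H.G i →ₗ[A] M ⊗[A] B :=
  (H.g i).toLinearMap.lTensor M

theorem tg_tmap {i j : H.J} (u : i ⟶ j) (w : M ⊗[A] H.G i) :
    H.tg M j (H.tmap M u w) = H.tg M i w := by
  rw [tg, tmap, tg, ← LinearMap.comp_apply, ← LinearMap.lTensor_comp, ← AlgHom.comp_toLinearMap,
    H.g_comp_f]

theorem tmap_tmap {i j k : H.J} (u : i ⟶ j) (v : j ⟶ k) (w : M ⊗[A] H.G i) :
    H.tmap M v (H.tmap M u w) = H.tmap M (u ≫ v) w := by
  rw [tmap, tmap, tmap, ← LinearMap.comp_apply, ← LinearMap.lTensor_comp,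
    ← AlgHom.comp_toLinearMap, show (H.f v).comp (H.f u) = H.f (u ≫ v) from
      AlgHom.ext fun x => (H.f_comp u v x).symm]

theorem tensor_surj (z : M ⊗[A] B) : ∃ (i : H.J) (w : M ⊗[A] H.G i), H.tg M i w = z := by
  induction z using TensorProduct.induction_on with
  | zero => exact ⟨H.nonempty.some, 0, map_zero _⟩
  | tmul m b =>
    obtain ⟨i, x, rfl⟩ := H.surj b
    exact ⟨i, m ⊗ₜ x, rfl⟩
  | add y z hy hz =>
    obtain ⟨i, v, rfl⟩ := hy
    obtain ⟨j, w, rfl⟩ := hz
    exact ⟨IsFiltered.max i j, H.tmap M (IsFiltered.leftToMax i j) v +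
      H.tmap M (IsFiltered.rightToMax i j) w, by rw [map_add, H.tg_tmap, H.tg_tmap]⟩

theorem tensor_kill_free (σ : Type u) (i : H.J) (w : (σ →₀ A) ⊗[A] H.G i)
    (hw : H.tg (σ →₀ A) i w = 0) : ∃ (j : H.J) (u : i ⟶ j), H.tmap (σ →₀ A) u w = 0 := by
  classical
  have nat : ∀ {N : Type u} [AddCommGroup N] [Module A N] (h : H.G i →ₗ[A] N) (s : σ),
      finsuppScalarLeft A N σ (h.lTensor (σ →₀ A) w) s =
        h (finsuppScalarLeft A (H.G i) σ w s) := by
    intro N _ _ h s
    clear hw
    induction w using TensorProduct.induction_on with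
    | zero => simp
    | tmul p n => simp [finsuppScalarLeft_apply_tmul_apply]
    | add a b ha hb => simp [map_add, ha, hb]
  let c := finsuppScalarLeft A (H.G i) σ w
  obtain ⟨j, u, hu⟩ := H.zero_finset i (c.support.image c) (by
    intro x hx
    obtain ⟨s, -, rfl⟩ := Finset.mem_image.mp hx
    rw [← AlgHom.toLinearMap_apply, ← nat, show (H.g i).toLinearMap.lTensor (σ →₀ A) w = 0 from hw,
      map_zero]
    rfl)
  refine ⟨j, u, (finsuppScalarLeft A (H.G j) σ).injective ?_⟩
  ext s
  rw [map_zero, tmap, nat, AlgHom.toLinearMap_apply, Finsupp.coe_zero, Pi.zero_apply]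
  by_cases hs : c s = 0
  · rw [show finsuppScalarLeft A (H.G i) σ w s = 0 from hs, map_zero]
  · exact hu _ (Finset.mem_image_of_mem _ (Finsupp.mem_support_iff.mpr hs))

theorem tensor_kill (i : H.J) (w : M ⊗[A] H.G i) (hw : H.tg M i w = 0) :
    ∃ (j : H.J) (u : i ⟶ j), H.tmap M u w = 0 := by
  let π : (M →₀ A) →ₗ[A] M := Finsupp.linearCombination A id
  have hπ : Function.Surjective π :=
    Finsupp.linearCombination_surjective _ Function.surjective_id
  obtain ⟨K, hK₁, hK₂, κ, hex⟩ : ∃ (K : Type u) (_ : AddCommGroup K) (_ : Module A K)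
      (κ : K →ₗ[A] (M →₀ A)), Function.Exact κ π :=
    ⟨LinearMap.ker π, inferInstance, inferInstance, (LinearMap.ker π).subtype,
      fun y => LinearMap.exact_subtype_ker_map π y⟩
  obtain ⟨v, rfl⟩ := LinearMap.rTensor_surjective (H.G i) hπ w
  rw [tg, lTensor_rTensor_comm] at hw
  obtain ⟨y, hy⟩ := (rTensor_exact (Q := B) (f := κ) (g := π) hex hπ _).mp hw
  obtain ⟨j, y', rfl⟩ := H.tensor_surj K y
  have hd : H.tg (M →₀ A) (IsFiltered.max i j) (H.tmap _ (IsFiltered.leftToMax i j) v -
      κ.rTensor _ (H.tmap _ (IsFiltered.rightToMax i j) y')) = 0 := by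
    rw [map_sub, H.tg_tmap]
    conv_lhs => arg 2; rw [tg, lTensor_rTensor_comm, ← tg, H.tg_tmap]
    rw [hy, tg, sub_self]
  obtain ⟨l, χ, hχ⟩ := H.tensor_kill_free M _ _ hd
  refine ⟨l, IsFiltered.leftToMax i j ≫ χ, ?_⟩
  rw [map_sub, sub_eq_zero, H.tmap_tmap] at hχ
  rw [tmap, lTensor_rTensor_comm, ← tmap, hχ, tmap, lTensor_rTensor_comm, ← LinearMap.comp_apply,
    ← LinearMap.rTensor_comp, hex.linearMap_comp_eq_zero, LinearMap.rTensor_zero,
    LinearMap.zero_apply]

end

/-- Base change of a presentation. -/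
noncomputable def baseChange (H : Pres A B P) (A' : Type u) [CommRing A'] [Algebra A A']
    {Q : ∀ (R : Type u) [CommRing R] [Algebra A' R], Prop}
    (hQ : ∀ j, Q (A' ⊗[A] H.G j)) : Pres A' (A' ⊗[A] B) Q where
  J := H.J
  G j := A' ⊗[A] H.G j
  f u := Algebra.TensorProduct.map (AlgHom.id A' A') (H.f u)
  f_id i x := by
    induction x using TensorProduct.induction_on with
    | zero => simp
    | tmul a b => simp [H.f_id]
    | add a b ha hb => rw [map_add, ha, hb]
  f_comp u v x := by
    induction x using TensorProduct.induction_on with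
    | zero => simp
    | tmul a b => simp [H.f_comp]
    | add a b ha hb => simp only [map_add, ha, hb]
  g j := Algebra.TensorProduct.map (AlgHom.id A' A') (H.g j)
  g_f u x := by
    induction x using TensorProduct.induction_on with
    | zero => simp
    | tmul a b => simp [H.g_f]
    | add a b ha hb => simp only [map_add, ha, hb]
  surj z := by
    obtain ⟨i, w, hw⟩ := H.tensor_surj A' z
    exact ⟨i, w, hw⟩
  eq i x y h := by
    obtain ⟨k, u, hu⟩ := H.tensor_kill A' i (x - y) (by
      rw [map_sub, sub_eq_zero]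
      exact h)
    rw [map_sub, sub_eq_zero] at hu
    exact ⟨k, u, hu⟩
  prop := hQ

/-- A presentation seen from one of its stages. -/
noncomputable def under (H : Pres A B P) (i : H.J) [Algebra (H.G i) B]
    (hB : ∀ x, algebraMap (H.G i) B x = H.g i x) :
    Pres (H.G i) B (fun _ => True) :=
  letI : ∀ j : Under i, Algebra (H.G i) (H.G j.right) := fun j => (H.f j.hom).toRingHom.toAlgebra
  { J := Under i
    G := fun j => H.G j.right
    f := fun {j k} u => AlgHom.mk (H.f (Under.Hom.right u)).toRingHom fun x => by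
      change H.f (Under.Hom.right u) (H.f j.hom x) = H.f k.hom x
      rw [← H.f_comp, Under.w]
    f_id := fun j x => H.f_id _ x
    f_comp := fun u v x => H.f_comp _ _ x
    g := fun j => AlgHom.mk (H.g j.right).toRingHom fun x => by
      rw [hB]
      exact H.g_f j.hom x
    g_f := fun u x => H.g_f (Under.Hom.right u) x
    surj := fun b => by
      obtain ⟨j, x, hx⟩ := H.surj b
      exact ⟨Under.mk (IsFiltered.leftToMax i j), H.f (IsFiltered.rightToMax i j) x,
        (H.g_f _ x).trans hx⟩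
    eq := fun j x y h => by
      obtain ⟨k, u, hu⟩ := H.eq j.right x y h
      exact ⟨Under.mk (j.hom ≫ u), Under.homMk u, hu⟩
    prop := fun _ => trivial }

end Groth.EtaleDeep.IndEt.Pres
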