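import Mathlib
import Groth.Prelude.Def_PBC

/-!
# Filtered presentations of algebras

`Pres A B P` is a presentation of the `A`-algebra `B` as a filtered colimit of `A`-algebras
satisfying `P`, in element form, together with the translation from and to the categorical
definition used by `EtPBC.IsIndEtale` and `EtPBC.IsIndZariski`.
-/

set_option autoImplicit false
set_option linter.style.haveILetI false

universe u

open CategoryTheory CategoryTheory.Limits

namespace Groth.EtaleDeep.IndEt

/-- `B` as a filtered colimit of `A`-algebras with property `P`. -/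
structure Pres (A B : Type u) [CommRing A] [CommRing B] [Algebra A B]
    (P : ∀ (R : Type u) [CommRing R] [Algebra A R], Prop) : Type (u + 1) where
  /-- index category -/
  J : Type u
  [cat : SmallCategory J]
  [filt : IsFiltered J]
  /-- stages -/
  G : J → Type u
  [ring : ∀ j, CommRing (G j)]
  [alg : ∀ j, Algebra A (G j)]
  /-- transition maps -/
  f : ∀ {i j : J}, (i ⟶ j) → (G i →ₐ[A] G j)
  f_id : ∀ (i : J) (x : G i), f (𝟙 i) x = x
  f_comp : ∀ {i j k : J} (u : i ⟶ j) (v : j ⟶ k) (x : G i), f (u ≫ v) x = f v (f u x)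
  /-- cocone maps -/
  g : ∀ j : J, G j →ₐ[A] B
  g_f : ∀ {i j : J} (u : i ⟶ j) (x : G i), g j (f u x) = g i x
  surj : ∀ b : B, ∃ (j : J) (x : G j), g j x = b
  eq : ∀ (i : J) (x y : G i), g i x = g i y → ∃ (k : J) (u : i ⟶ k), f u x = f u y
  prop : ∀ j : J, P (G j)

attribute [instance] Pres.cat Pres.filt Pres.ring Pres.alg

namespace Pres

variable {A B : Type u} [CommRing A] [CommRing B] [Algebra A B]
  {P : ∀ (R : Type u) [CommRing R] [Algebra A R], Prop}

theorem nonempty (H : Pres A B P) : Nonempty H.J := IsFiltered.nonempty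

theorem g_comp_f (H : Pres A B P) {i j : H.J} (u : i ⟶ j) : (H.g j).comp (H.f u) = H.g i :=
  AlgHom.ext fun x => H.g_f u x

theorem zero (H : Pres A B P) (i : H.J) (x : H.G i) (h : H.g i x = 0) :
    ∃ (k : H.J) (u : i ⟶ k), H.f u x = 0 := by
  obtain ⟨k, u, hu⟩ := H.eq i x 0 (by rw [h, map_zero])
  exact ⟨k, u, by rw [hu, map_zero]⟩

theorem zero_finset (H : Pres A B P) (i : H.J) (s : Finset (H.G i)) (h : ∀ x ∈ s, H.g i x = 0) :
    ∃ (k : H.J) (u : i ⟶ k), ∀ x ∈ s, H.f u x = 0 := by
  classical
  induction s using Finset.induction_on with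
  | empty => exact ⟨i, 𝟙 i, by simp⟩
  | insert a s _ ih =>
    obtain ⟨k, u, hu⟩ := ih fun x hx => h x (Finset.mem_insert_of_mem hx)
    obtain ⟨l, v, hv⟩ := H.zero k (H.f u a)
      (by rw [H.g_f]; exact h a (Finset.mem_insert_self a s))
    refine ⟨l, u ≫ v, fun x hx => ?_⟩
    rw [H.f_comp]
    rcases Finset.mem_insert.mp hx with rfl | hx
    · exact hv
    · rw [hu x hx, map_zero]

theorem zero_fintype (H : Pres A B P) (i : H.J) {ι : Type*} [Finite ι] (x : ι → H.G i)
    (h : ∀ l, H.g i (x l) = 0) : ∃ (k : H.J) (u : i ⟶ k), ∀ l, H.f u (x l) = 0 := by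
  classical
  have := Fintype.ofFinite ι
  obtain ⟨k, u, hu⟩ := H.zero_finset i (Finset.univ.image x) (by simp [h])
  exact ⟨k, u, fun l => hu _ (Finset.mem_image_of_mem _ (Finset.mem_univ l))⟩

theorem eq_fintype (H : Pres A B P) (i : H.J) {ι : Type*} [Finite ι] (x y : ι → H.G i)
    (h : ∀ l, H.g i (x l) = H.g i (y l)) :
    ∃ (k : H.J) (u : i ⟶ k), ∀ l, H.f u (x l) = H.f u (y l) := by
  obtain ⟨k, u, hu⟩ := H.zero_fintype i (x - y) (by simp [h])
  exact ⟨k, u, fun l => sub_eq_zero.mp (by simpa using hu l)⟩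

/-- Finitely many elements of the colimit come from one stage after any given one. -/
theorem surj_fintype (H : Pres A B P) (i₀ : H.J) {ι : Type*} [Finite ι] (b : ι → B) :
    ∃ (k : H.J) (_ : i₀ ⟶ k) (x : ι → H.G k), ∀ l, H.g k (x l) = b l := by
  classical
  have := Fintype.ofFinite ι
  choose j x hx using fun l => H.surj (b l)
  obtain ⟨k, hk⟩ := IsFiltered.sup_objs_exists (insert i₀ (Finset.univ.image j))
  let v : ∀ l, j l ⟶ k := fun l =>
    (hk (Finset.mem_insert_of_mem (Finset.mem_image_of_mem j (Finset.mem_univ l)))).some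
  exact ⟨k, (hk (Finset.mem_insert_self i₀ _)).some, fun l => H.f (v l) (x l),
    fun l => by rw [H.g_f, hx]⟩

/-- A finitely presented algebra mapping to the colimit maps to some stage. -/
theorem exists_lift (H : Pres A B P) (i₀ : H.J) {C : Type u} [CommRing C] [Algebra A C]
    [Algebra.FinitePresentation A C] (φ : C →ₐ[A] B) :
    ∃ (k : H.J) (_ : i₀ ⟶ k) (ψ : C →ₐ[A] H.G k), (H.g k).comp ψ = φ := by
  obtain ⟨n, π, hπ, hfg⟩ := (‹Algebra.FinitePresentation A C›).out
  obtain ⟨s, hs⟩ := hfg
  obtain ⟨j, u₀, x, hx⟩ := H.surj_fintype i₀ (fun l => φ (π (MvPolynomial.X l)))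
  have hcomp : (H.g j).comp (MvPolynomial.aeval x) = φ.comp π :=
    MvPolynomial.algHom_ext fun l => by simp [hx]
  obtain ⟨k, u, hu⟩ := H.zero_fintype j (fun r : s => MvPolynomial.aeval x r.1) fun r => by
    have : π r.1 = 0 := hs.le (Ideal.subset_span r.2)
    have h2 := AlgHom.congr_fun hcomp r.1
    rw [AlgHom.comp_apply, AlgHom.comp_apply, this, map_zero] at h2
    exact h2
  let ψ₀ : MvPolynomial (Fin n) A →ₐ[A] H.G k := (H.f u).comp (MvPolynomial.aeval x)
  have hker : ∀ p, π p = 0 → ψ₀ p = 0 := by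
    intro p hp
    have hp' : p ∈ Ideal.span (s : Set (MvPolynomial (Fin n) A)) := hs.ge hp
    have hle : Ideal.span (s : Set (MvPolynomial (Fin n) A)) ≤ RingHom.ker ψ₀ :=
      Ideal.span_le.mpr fun r hr => hu ⟨r, hr⟩
    exact hle hp'
  refine ⟨k, u₀ ≫ u, (Ideal.Quotient.liftₐ (RingHom.ker π) ψ₀ fun p hp => hker p hp).comp
    (Ideal.quotientKerAlgEquivOfSurjective hπ).symm.toAlgHom, ?_⟩
  refine AlgHom.ext fun c => ?_
  obtain ⟨p, rfl⟩ := hπ c
  have h1 : (Ideal.quotientKerAlgEquivOfSurjective hπ).symm (π p) =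
      Ideal.Quotient.mk (RingHom.ker π) p := by
    apply (Ideal.quotientKerAlgEquivOfSurjective hπ).injective
    rw [AlgEquiv.apply_symm_apply]
    rfl
  change H.g k (Ideal.Quotient.liftₐ (RingHom.ker π) ψ₀ (fun p hp => hker p hp)
    ((Ideal.quotientKerAlgEquivOfSurjective hπ).symm (π p))) = φ (π p)
  rw [h1]
  change H.g k (H.f u (MvPolynomial.aeval x p)) = φ (π p)
  rw [H.g_f]
  exact AlgHom.congr_fun hcomp p

/-- Change of the property. -/
def mono (H : Pres A B P) {Q : ∀ (R : Type u) [CommRing R] [Algebra A R], Prop}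
    (h : ∀ (R : Type u) [CommRing R] [Algebra A R], P R → Q R) : Pres A B Q :=
  { H with prop := fun j => h _ (H.prop j) }

/-- Transport along an isomorphism of the colimit. -/
def ofEquiv (H : Pres A B P) {B' : Type u} [CommRing B'] [Algebra A B'] (e : B ≃ₐ[A] B') :
    Pres A B' P :=
  { H with
    g := fun j => e.toAlgHom.comp (H.g j)
    g_f := fun u x => congrArg e (H.g_f u x)
    surj := fun b => by
      obtain ⟨j, x, hx⟩ := H.surj (e.symm b)
      exact ⟨j, x, by simp [hx]⟩
    eq := fun i x y h => H.eq i x y (e.injective h) }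

/-- The diagram under `A` of a presentation. -/
def diagram (H : Pres A B P) : H.J ⥤ Under (CommRingCat.of A) where
  obj j := Under.mk (CommRingCat.ofHom (algebraMap A (H.G j)))
  map u := Under.homMk (CommRingCat.ofHom (H.f u).toRingHom)
    (CommRingCat.hom_ext (H.f u).comp_algebraMap)
  map_id j := Under.UnderMorphism.ext (CommRingCat.hom_ext (RingHom.ext (H.f_id j)))
  map_comp u v := Under.UnderMorphism.ext (CommRingCat.hom_ext (RingHom.ext (H.f_comp u v)))

/-- The cocone under `A` of a presentation. -/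
def cocone (H : Pres A B P) : Cocone H.diagram where
  pt := Under.mk (CommRingCat.ofHom (algebraMap A B))
  ι :=
    { app := fun j => Under.homMk (CommRingCat.ofHom (H.g j).toRingHom)
        (CommRingCat.hom_ext (H.g j).comp_algebraMap)
      naturality := fun i j u =>
        Under.UnderMorphism.ext (CommRingCat.hom_ext (RingHom.ext (H.g_f u))) }

/-- The cocone of a presentation is a colimit. -/
noncomputable def isColimit (H : Pres A B P) : IsColimit H.cocone := by
  haveI : IsConnected H.J := IsFiltered.isConnected H.J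
  haveI : ReflectsColimitsOfShape H.J (CategoryTheory.forget CommRingCat.{u}) :=
    reflectsColimitsOfShape_of_reflectsIsomorphisms
  refine isColimitOfReflects
    (Under.forget (CommRingCat.of A) ⋙ CategoryTheory.forget CommRingCat.{u}) ?_
  refine Types.FilteredColimit.isColimitOf' _ _ (fun b => ?_) (fun i x y h => ?_)
  · obtain ⟨j, x, hx⟩ := H.surj b
    exact ⟨j, x, hx.symm⟩
  · exact H.eq i x y h

end Pres

/-- The categorical colimit gives a presentation. -/
theorem nonempty_pres {A B : Type u} [CommRing A] [CommRing B] [Algebra A B]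
    {J : Type u} [SmallCategory J] [IsFiltered J] (D : J ⥤ Under (CommRingCat.of A))
    (c : Cocone D) (hc : IsColimit c) (e : c.pt ≅ Under.mk (CommRingCat.ofHom (algebraMap A B)))
    (P : ∀ (R : Type u) [CommRing R] [Algebra A R], Prop)
    (hP : ∀ j, letI := (D.obj j).hom.hom.toAlgebra; P (D.obj j).right) :
    Nonempty (Pres A B P) := by
  have : IsConnected J := IsFiltered.isConnected J
  letI : ∀ j, Algebra A (D.obj j).right := fun j => (D.obj j).hom.hom.toAlgebra
  let c' : Cocone D := ⟨Under.mk (CommRingCat.ofHom (algebraMap A B)),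
    c.ι ≫ (Functor.const J).map e.hom⟩
  have hc' : IsColimit c' := IsColimit.ofIsoColimit hc (Cocone.ext e fun j => rfl)
  have hT := isColimitOfPreserves
    (Under.forget (CommRingCat.of A) ⋙ CategoryTheory.forget CommRingCat.{u}) hc'
  exact ⟨
    { J := J
      G := fun j => (D.obj j).right
      f := fun u => AlgHom.mk (D.map u).right.hom fun a =>
        RingHom.congr_fun (congrArg CommRingCat.Hom.hom (Under.w (D.map u))) a
      f_id := fun i x => by
        change (D.map (𝟙 i)).right.hom x = x
        rw [D.map_id]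
        rfl
      f_comp := fun u v x => by
        change (D.map (u ≫ v)).right.hom x = (D.map v).right.hom ((D.map u).right.hom x)
        rw [D.map_comp]
        rfl
      g := fun j => AlgHom.mk (c'.ι.app j).right.hom fun a =>
        RingHom.congr_fun (congrArg CommRingCat.Hom.hom (Under.w (c'.ι.app j))) a
      g_f := fun {i j} u x => by
        have h2 := congrArg (fun m : D.obj i ⟶ c'.pt => m.right.hom x) (c'.w u)
        exact h2
      surj := fun b => by
        obtain ⟨j, x, hx⟩ := Types.jointly_surjective_of_isColimit hT b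
        exact ⟨j, x, hx⟩
      eq := fun i x y h => (Types.FilteredColimit.isColimit_eq_iff' hT x y).mp h
      prop := hP }⟩

theorem isIndEtale_iff {A B : Type u} [CommRing A] [CommRing B] [Algebra A B] :
    EtPBC.IsIndEtale A B ↔ Nonempty (Pres A B (fun R => Algebra.Etale A R)) := by
  constructor
  · rintro ⟨J, _, _, D, c, hc, hD, ⟨e⟩⟩
    exact nonempty_pres D c hc e _ hD
  · rintro ⟨H⟩
    refine ⟨H.J, inferInstance, inferInstance, H.diagram, H.cocone, H.isColimit, fun j => ?_,
      ⟨Iso.refl _⟩⟩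
    have h : H.alg j = (H.diagram.obj j).hom.hom.toAlgebra := Algebra.algebra_ext _ _ fun r => rfl
    exact h ▸ H.prop j

theorem isIndZariski_iff {A B : Type u} [CommRing A] [CommRing B] [Algebra A B] :
    EtPBC.IsIndZariski A B ↔ Nonempty (Pres A B (fun R => Algebra.IsLocalIso A R)) := by
  constructor
  · rintro ⟨J, _, _, D, c, hc, hD, ⟨e⟩⟩
    exact nonempty_pres D c hc e _ hD
  · rintro ⟨H⟩
    refine ⟨H.J, inferInstance, inferInstance, H.diagram, H.cocone, H.isColimit, fun j => ?_,
      ⟨Iso.refl _⟩⟩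
    have h : H.alg j = (H.diagram.obj j).hom.hom.toAlgebra := Algebra.algebra_ext _ _ fun r => rfl
    exact h ▸ H.prop j

end Groth.EtaleDeep.IndEt
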