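import Groth.Agent.EtaleDeep.IndEt.WContractible

/-!
# Enlarging weakly etale maps to ind-etale ones; w-contractible covers
-/

set_option autoImplicit false
set_option linter.style.haveILetI false

universe u

open CategoryTheory TensorProduct PrimeSpectrum Topology

namespace Groth.EtaleDeep.IndEt

/-- A map identifying local rings becomes ind-Zariski on a w-localization. -/
theorem exists_indZariski_enlarge (A B : Type u) [CommRing A] [CommRing B] [Algebra A B]
    (h : EtPBC.IdentifiesLocalRings A B) :
    ∃ (B' : Type u) (_ : CommRing B') (_ : Algebra B B') (_ : Algebra A B') (_ : IsScalarTower A B B'),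
      Module.FaithfullyFlat B B' ∧ EtPBC.IsIndZariski B B' ∧ EtPBC.IsIndZariski A B' := by
  have hw : ProEtW.IsWLocal (PrimeSpectrum (WLoc B)) := isWLocal_wLoc
  have : IsScalarTower A B (WLoc B) := ⟨fun a b x => by
    have h1 : a • b = algebraMap A B a * b := Algebra.smul_def a b
    have h2 : ∀ z : WLoc B, a • z = algebraMap A (WLoc B) a * z := fun z => Algebra.smul_def a z
    have h3 : algebraMap A (WLoc B) a = algebraMap B (WLoc B) (algebraMap A B a) := rfl
    have h4 : ∀ (r : B) (z : WLoc B), r • z = algebraMap B (WLoc B) r * z := fun r z => Algebra.smul_def r z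
    rw [h1, h4, h4, h2, map_mul, h3, mul_assoc]⟩
  have hAB' : EtPBC.IdentifiesLocalRings A (WLoc B) :=
    identifiesLocalRings_trans h (identifiesLocalRings_of_isIndZariski isIndZariski_wLoc)
  obtain ⟨φ, hφ⟩ := exists_wMap (A := A) hw
  letI : Algebra (WLoc A) (WLoc B) := φ.toRingHom.toAlgebra
  have : IsScalarTower A (WLoc A) (WLoc B) := ⟨fun a x y => by
    have h1 : a • x = algebraMap A (WLoc A) a * x := Algebra.smul_def a x
    have h2 : ∀ z : WLoc B, a • z = algebraMap A (WLoc B) a * z := fun z => Algebra.smul_def a z
    rw [Algebra.smul_def, Algebra.smul_def, h1, map_mul, h2]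
    change φ (algebraMap A (WLoc A) a) * φ x * y = _
    rw [φ.commutes, mul_assoc]
    rfl⟩
  have hid : EtPBC.IdentifiesLocalRings (WLoc A) (WLoc B) :=
    identifiesLocalRings_cancel (identifiesLocalRings_of_isIndZariski isIndZariski_wLoc) hAB'
  obtain ⟨_, _, _, g, ⟨e⟩⟩ := exists_realize_equiv hid isWLocal_wLoc hw hφ
  have key := isIndZariski_realize (A := A) g isIndZariski_wLoc
  exact ⟨WLoc B, inferInstance, inferInstance, inferInstance, inferInstance, faithfullyFlat_wLoc,
    isIndZariski_wLoc, isIndZariski_of_equiv (AlgEquiv.ofRingEquiv (f := e.toRingEquiv) fun a => by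
      refine Eq.trans ?_ (φ.commutes a)
      refine Eq.trans ?_ (e.commutes (algebraMap A (WLoc A) a))
      change e _ = e _
      refine congrArg e (congrArg (Ideal.Quotient.mk _) ?_)
      exact LocallyConstant.ext fun t => rfl) key⟩

/-- Every ring has a faithfully flat ind-etale w-contractible extension. -/
theorem exists_wContractible_cover (A : Type u) [CommRing A] :
    ∃ (D : Type u) (_ : CommRing D) (_ : Algebra A D),
      Module.FaithfullyFlat A D ∧ EtPBC.IsIndEtale A D ∧ EtPBC.IsWContractible D := by
  obtain ⟨C, _, _, I, hffC, hindC, hwC, -, -, hshC⟩ := exists_wLocal_strictHens_single A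
  have := hwC.1
  let P := _root_.ConnectedComponents (PrimeSpectrum C)
  letI : TopologicalSpace P := inferInstanceAs (TopologicalSpace (_root_.ConnectedComponents _))
  obtain ⟨_, _, _⟩ := PiZero.isProfinite_pi0 (X := PrimeSpectrum C)
  let T := StoneCech (WithTopology P ⊥)
  have : DiscreteTopology (WithTopology P ⊥) := ⟨by
    rw [eq_bot_iff]
    intro s _
    exact (WithTopology.isOpen_iff _).2 trivial⟩
  have : ExtremallyDisconnected T := CompactT2.Projective.extremallyDisconnected StoneCech.projective
  have hcont : Continuous fun p : WithTopology P ⊥ => p.ofTopology := continuous_of_discreteTopology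
  let g : C(T, P) := ⟨stoneCechExtend hcont, continuous_stoneCechExtend hcont⟩
  obtain ⟨e, h, hh⟩ := exists_realize_components g
  have hZ : EtPBC.IsIndZariski C (Realize g) := isIndZariski_realize g isIndZariski_self
  have hw := isWLocal_of_homeomorph h (PiZero.isWLocal_pullback g hwC).1
  have : ExtremallyDisconnected (_root_.ConnectedComponents (PrimeSpectrum (Realize g))) :=
    extremallyDisconnected_of_homeomorph e.symm
  have hffD : Module.FaithfullyFlat C (Realize g) := by
    have := (weaklyEtale_of_isIndZariski hZ).flat
    refine Module.FaithfullyFlat.of_comap_surjective fun p => ?_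
    let pq : WithTopology P ⊥ := WithTopology.toTopology _ (_root_.ConnectedComponents.mk p)
    have hg : g (stoneCechUnit pq) = _root_.ConnectedComponents.mk p :=
      congrFun (stoneCechExtend_extends hcont) pq
    refine ⟨h.symm ⟨(p, stoneCechUnit pq), hg.symm⟩, ?_⟩
    have h2 := (hh (h.symm ⟨(p, stoneCechUnit pq), hg.symm⟩)).1
    rw [h.apply_symm_apply] at h2
    exact (congrArg Prod.fst h2).symm
  have hsh : ∀ (n : Ideal (Realize g)) [n.IsMaximal],
      EtCoh.IsStrictlyHenselianLocalRing (Localization.AtPrime n) := by
    intro n hn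
    let y : PrimeSpectrum (Realize g) := ⟨n, hn.isPrime⟩
    have hy : IsClosed ({y} : Set (PrimeSpectrum (Realize g))) :=
      (PrimeSpectrum.isClosed_singleton_iff_isMaximal y).2 hn
    have h1 : IsClosed ({h y} : Set _) := by
      have := h.isClosedMap _ hy
      rwa [Set.image_singleton] at this
    have h2 := (PiZero.isClosed_singleton_pullback_iff g).1 h1
    rw [(hh y).1] at h2
    have : (y.asIdeal.comap (algebraMap C (Realize g))).IsMaximal :=
      (PrimeSpectrum.isClosed_singleton_iff_isMaximal _).1 h2
    exact isStrictlyHenselianLocalRing_of_ringEquiv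
      (RingEquiv.ofBijective _ (identifiesLocalRings_of_isIndZariski hZ y)) (hshC _)
  have : IsScalarTower A C (Realize g) := ⟨fun a c x => by
    have h1 : a • c = algebraMap A C a * c := Algebra.smul_def a c
    have h2 : ∀ z : Realize g, a • z = algebraMap A (Realize g) a * z := fun z => Algebra.smul_def a z
    have h3 : algebraMap A (Realize g) a = algebraMap C (Realize g) (algebraMap A C a) := rfl
    have h4 : ∀ (r : C) (z : Realize g), r • z = algebraMap C (Realize g) r * z := fun r z => Algebra.smul_def r z
    rw [h1, h4, h4, h2, map_mul, h3, mul_assoc]⟩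
  exact ⟨Realize g, inferInstance, inferInstance, Module.FaithfullyFlat.trans A C (Realize g),
    isIndEtale_trans hindC (isIndEtale_of_isIndZariski hZ), isWContractible_of_wLocal hw hsh⟩

/-- A weakly etale algebra becomes ind-etale on an ind-etale cover. -/
theorem exists_indEtale_enlarge (A B : Type u) [CommRing A] [CommRing B] [Algebra A B]
    [Algebra.WeaklyEtale A B] :
    ∃ (B' : Type u) (_ : CommRing B') (_ : Algebra B B') (_ : Algebra A B') (_ : IsScalarTower A B B'),
      Module.FaithfullyFlat B B' ∧ EtPBC.IsIndEtale B B' ∧ EtPBC.IsIndEtale A B' := by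
  obtain ⟨C, D, _, _, _, _, _, _, _, _, hffC, hindC, hffD, hindD, hwC, hwD, hmap, -, -, -, hsh⟩ :=
    exists_wLocal_strictHens A B (Olivier.algebraicResidueExtensions_of_weaklyEtale A B)
  have := weaklyEtale hindC
  have := weaklyEtale hindD
  have : Algebra.WeaklyEtale A D := Algebra.WeaklyEtale.trans A B D
  have : Algebra.WeaklyEtale C D := Groth.EtaleAlgebra.weaklyEtale_of_tower A C D
  have hid : EtPBC.IdentifiesLocalRings C D := identifiesLocalRings_of_forall_maximal fun n hn => by
    have : (n.comap (algebraMap C D)).IsMaximal := (PrimeSpectrum.isClosed_singleton_iff_isMaximal _).1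
      (hmap.2 ⟨n, hn.isPrime⟩ ((PrimeSpectrum.isClosed_singleton_iff_isMaximal _).2 hn))
    exact idAt_of_weaklyEtale ⟨n, hn.isPrime⟩ (hsh _)
  obtain ⟨D', _, _, _, _, hffD', hZD, hZC⟩ := exists_indZariski_enlarge C D hid
  letI : Algebra B D' := ((algebraMap D D').comp (algebraMap B D)).toAlgebra
  letI : Algebra A D' := ((algebraMap D D').comp (algebraMap A D)).toAlgebra
  have : IsScalarTower B D D' := IsScalarTower.of_algebraMap_eq fun _ => rfl
  have : IsScalarTower A B D' := IsScalarTower.of_algebraMap_eq fun a => by
    change algebraMap D D' (algebraMap A D a) = algebraMap D D' (algebraMap B D (algebraMap A B a))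
    rw [← IsScalarTower.algebraMap_apply A B D]
  have : IsScalarTower A C D' := IsScalarTower.of_algebraMap_eq fun a => by
    change algebraMap D D' (algebraMap A D a) = algebraMap C D' (algebraMap A C a)
    rw [IsScalarTower.algebraMap_apply C D D', ← IsScalarTower.algebraMap_apply A C D]
  exact ⟨D', inferInstance, inferInstance, inferInstance, inferInstance,
    Module.FaithfullyFlat.trans B D D',
    isIndEtale_trans hindD (isIndEtale_of_isIndZariski hZD),
    isIndEtale_trans hindC (isIndEtale_of_isIndZariski hZC)⟩

end Groth.EtaleDeep.IndEt
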