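import Groth.Agent.EtaleDeep.IndEt.WContrFinite

/-!
# Closed subschemes with retrocompact complement of w-contractible affine schemes
-/

set_option autoImplicit false
set_option linter.style.haveILetI false

universe u

open PrimeSpectrum Topology

namespace Groth.EtaleDeep.IndEt

/-- Homeomorphic spaces have homeomorphic spaces of connected components. -/
def componentsCongr {X Y : Type*} [TopologicalSpace X] [TopologicalSpace Y] (e : X ≃ₜ Y) :
    _root_.ConnectedComponents X ≃ₜ _root_.ConnectedComponents Y where
  toFun := e.continuous.connectedComponentsMap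
  invFun := e.symm.continuous.connectedComponentsMap
  left_inv c := by
    obtain ⟨x, rfl⟩ := ConnectedComponents.surjective_coe c
    exact congrArg _root_.ConnectedComponents.mk (e.symm_apply_apply x)
  right_inv c := by
    obtain ⟨x, rfl⟩ := ConnectedComponents.surjective_coe c
    exact congrArg _root_.ConnectedComponents.mk (e.apply_symm_apply x)
  continuous_toFun := Continuous.connectedComponentsMap_continuous _
  continuous_invFun := Continuous.connectedComponentsMap_continuous _

theorem isWContractible_of_surjective_of_isCompact {A B : Type u} [CommRing A] [CommRing B]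
    [Algebra A B] (hs : Function.Surjective (algebraMap A B))
    (hc : IsCompact (Set.range (PrimeSpectrum.comap (algebraMap A B)))ᶜ)
    (h : EtPBC.IsWContractible A) : EtPBC.IsWContractible B := by
  have he := isClosedEmbedding_comap_of_surjective _ _ hs
  obtain ⟨J, hJ, hJ'⟩ := isCompact_isOpen_iff_ideal.1 ⟨hc, he.isClosed_range.isOpen_compl⟩
  rw [compl_inj_iff] at hJ'
  have : Algebra.FinitePresentation A (A ⧸ J) := Algebra.FinitePresentation.quotient hJ
  have hC := isWContractible_of_finite (B := A ⧸ J) h
  obtain ⟨hw, hed, -⟩ := isWContractible_iff_indEtale.2 (isWContractible_iff_indEtale.1 hC)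
  have hJc := isClosedEmbedding_comap_of_surjective _ (Ideal.Quotient.mk J) Ideal.Quotient.mk_surjective
  have hr : Set.range (PrimeSpectrum.comap (algebraMap A B)) =
      Set.range (PrimeSpectrum.comap (Ideal.Quotient.mk J)) := by
    rw [range_comap_of_surjective _ (Ideal.Quotient.mk J) Ideal.Quotient.mk_surjective,
      Ideal.mk_ker]
    exact hJ'.symm
  let e : PrimeSpectrum B ≃ₜ PrimeSpectrum (A ⧸ J) :=
    he.isEmbedding.toHomeomorph.trans ((Homeomorph.setCongr hr).trans
      hJc.isEmbedding.toHomeomorph.symm)
  have : ExtremallyDisconnected (_root_.ConnectedComponents (PrimeSpectrum B)) := by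
    have := hed
    exact extremallyDisconnected_of_homeomorph
      (componentsCongr e.symm)
  refine isWContractible_of_wLocal (isWLocal_of_homeomorph e hw) fun n hn => ?_
  obtain ⟨-, -, hsh⟩ := isWContractible_iff_indEtale.2 (isWContractible_iff_indEtale.1 h)
  have : Module.Finite A B := Module.Finite.of_surjective (Algebra.linearMap A B) hs
  have : Algebra.IsIntegral A B := Algebra.IsIntegral.of_finite A B
  have : (n.comap (algebraMap A B)).IsMaximal :=
    Ideal.isMaximal_comap_of_isIntegral_of_isMaximal (R := A) n
  exact isStrictlyHenselian_of_finite _ n rfl (hsh _)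

end Groth.EtaleDeep.IndEt
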