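import Groth.Agent.EtaleDeep.IndEt.Over
import Mathlib.FieldTheory.PurelyInseparable.Basic
import Mathlib.RingTheory.Spectrum.Prime.Chevalley
import Mathlib.Topology.ExtremallyDisconnected

/-!
# Quasi-finite algebras over profinite spectra with separably closed residue fields
-/

set_option autoImplicit false
set_option linter.style.haveILetI false

universe u

open TensorProduct PrimeSpectrum Topology

namespace Groth.EtaleDeep.IndEt

theorem isClopen_of_isConstructible {X : Type*} [TopologicalSpace X] [CompactSpace X] [T2Space X]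
    {s : Set X} (hs : IsConstructible s) : IsClopen s := by
  induction hs using IsConstructible.empty_union_induction with
  | open_retrocompact U hU hUc =>
    refine ⟨?_, hU⟩
    have := hUc isCompact_univ isOpen_univ
    rw [Set.inter_univ] at this
    exact this.isClosed
  | union s _ t _ hs ht => exact hs.union ht
  | compl s _ hs => exact hs.compl

variable {A B : Type u} [CommRing A] [CommRing B] [Algebra A B]

theorem mem_zeroLocus_ker_lmul [Algebra.QuasiFinite A B]
    (hres : ∀ p : PrimeSpectrum A, IsSepClosed p.asIdeal.ResidueField)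
    (P : PrimeSpectrum (B ⊗[A] B))
    (h : PrimeSpectrum.comap (Algebra.TensorProduct.includeLeftRingHom : B →+* B ⊗[A] B) P =
      PrimeSpectrum.comap (Algebra.TensorProduct.includeRight : B →ₐ[A] B ⊗[A] B).toRingHom P) :
    P ∈ zeroLocus (RingHom.ker (Algebra.TensorProduct.lmul' A (S := B)) : Set (B ⊗[A] B)) := by
  set q := PrimeSpectrum.comap (Algebra.TensorProduct.includeLeftRingHom : B →+* B ⊗[A] B) P
  let p := q.asIdeal.comap (algebraMap A B)
  have hsc : IsSepClosed p.ResidueField := hres ⟨p, q.2.comap _⟩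
  letI : Algebra p.ResidueField q.asIdeal.ResidueField :=
    (Ideal.ResidueField.mapₐ p q.asIdeal (Algebra.ofId A B) rfl).toRingHom.toAlgebra
  have : IsScalarTower A p.ResidueField q.asIdeal.ResidueField := IsScalarTower.of_algebraMap_eq
    fun a => ((Ideal.ResidueField.mapₐ p q.asIdeal (Algebra.ofId A B) rfl).commutes a).symm
  have : Algebra.QuasiFinite p.ResidueField q.asIdeal.ResidueField :=
    .of_restrictScalars A _ _
  have : Module.Finite p.ResidueField q.asIdeal.ResidueField := .of_quasiFinite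
  have : Algebra.IsAlgebraic p.ResidueField q.asIdeal.ResidueField := Algebra.IsAlgebraic.of_finite _ _
  let L := P.asIdeal.ResidueField
  let g₁ : q.asIdeal.ResidueField →ₐ[A] L :=
    Ideal.ResidueField.mapₐ q.asIdeal P.asIdeal Algebra.TensorProduct.includeLeft rfl
  let g₂ : q.asIdeal.ResidueField →ₐ[A] L :=
    Ideal.ResidueField.mapₐ q.asIdeal P.asIdeal Algebra.TensorProduct.includeRight
      (congrArg PrimeSpectrum.asIdeal h)
  letI : Algebra p.ResidueField L :=
    (g₁.toRingHom.comp (algebraMap p.ResidueField q.asIdeal.ResidueField)).toAlgebra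
  have hagree : g₂.toRingHom.comp (algebraMap p.ResidueField q.asIdeal.ResidueField) =
      g₁.toRingHom.comp (algebraMap p.ResidueField q.asIdeal.ResidueField) := by
    refine Ideal.ResidueField.ringHom_ext (RingHom.ext fun a => ?_)
    change g₂ (algebraMap p.ResidueField q.asIdeal.ResidueField (algebraMap A p.ResidueField a)) =
      g₁ (algebraMap p.ResidueField q.asIdeal.ResidueField (algebraMap A p.ResidueField a))
    rw [← IsScalarTower.algebraMap_apply A p.ResidueField q.asIdeal.ResidueField, AlgHom.commutes,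
      AlgHom.commutes]
  let G₁ : q.asIdeal.ResidueField →ₐ[p.ResidueField] L := AlgHom.mk g₁.toRingHom fun _ => rfl
  let G₂ : q.asIdeal.ResidueField →ₐ[p.ResidueField] L :=
    AlgHom.mk g₂.toRingHom fun x => RingHom.congr_fun hagree x
  have hG : G₁ = G₂ := Subsingleton.elim _ _
  let π : B ⊗[A] B →ₐ[A] L := IsScalarTower.toAlgHom A (B ⊗[A] B) L
  have hlr : ∀ b : B, π (b ⊗ₜ 1) = π ((1 : B) ⊗ₜ b) := by
    intro b
    have h1 := AlgHom.congr_fun hG (algebraMap B q.asIdeal.ResidueField b)
    change g₁ (algebraMap B q.asIdeal.ResidueField b) = g₂ (algebraMap B q.asIdeal.ResidueField b) at h1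
    rw [Ideal.ResidueField.mapₐ_apply, Ideal.ResidueField.mapₐ_apply,
      Ideal.ResidueField.map_algebraMap, Ideal.ResidueField.map_algebraMap] at h1
    exact h1
  intro x hx
  have hfac : π = (π.comp Algebra.TensorProduct.includeLeft).comp (Algebra.TensorProduct.lmul' A) := by
    refine Algebra.TensorProduct.ext' fun a b => ?_
    rw [AlgHom.comp_apply, Algebra.TensorProduct.lmul'_apply_tmul, map_mul, AlgHom.comp_apply,
      AlgHom.comp_apply]
    change π _ = π (a ⊗ₜ 1) * π (b ⊗ₜ 1)
    rw [hlr b, ← map_mul, Algebra.TensorProduct.tmul_mul_tmul, mul_one, one_mul]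
  have h0 : π x = 0 := by
    rw [hfac, AlgHom.comp_apply, show Algebra.TensorProduct.lmul' A x = 0 from hx, map_zero]
  exact Ideal.algebraMap_residueField_eq_zero.1 h0

/-- Over a profinite spectrum with separably closed residue fields, a quasi-finite algebra of
finite type is locally injective on spectra. -/
theorem exists_isClopen_injOn [Algebra.QuasiFinite A B] [Algebra.FiniteType A B]
    [T2Space (PrimeSpectrum A)] (hres : ∀ p : PrimeSpectrum A, IsSepClosed p.asIdeal.ResidueField)
    (q : PrimeSpectrum B) :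
    ∃ U : Set (PrimeSpectrum B), IsClopen U ∧ q ∈ U ∧
      Set.InjOn (PrimeSpectrum.comap (algebraMap A B)) U := by
  have : Algebra.QuasiFinite A (B ⊗[A] B) := Algebra.QuasiFinite.trans A B _
  obtain ⟨_, _, _⟩ := isProfinite_of_incomparable (A := A) (B := B) fun a b he hle =>
    PrimeSpectrum.ext (Algebra.QuasiFinite.eq_of_le_of_under_eq (R := A) _ _ hle he)
  obtain ⟨_, _, _⟩ := isProfinite_of_incomparable (A := A) (B := B ⊗[A] B) fun a b he hle =>
    PrimeSpectrum.ext (Algebra.QuasiFinite.eq_of_le_of_under_eq (R := A) _ _ hle he)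
  let I : Ideal (B ⊗[A] B) := RingHom.ker (Algebra.TensorProduct.lmul' A (S := B))
  let F : Set (PrimeSpectrum (B ⊗[A] B)) := (zeroLocus (I : Set (B ⊗[A] B)))ᶜ
  have hF : IsClosed F := by
    have hfg : I.FG := KaehlerDifferential.ideal_fg A B
    have := isRetrocompact_zeroLocus_compl_of_fg hfg isCompact_univ isOpen_univ
    rw [Set.inter_univ] at this
    exact this.isClosed
  let p₁ := PrimeSpectrum.comap (Algebra.TensorProduct.includeLeftRingHom : B →+* B ⊗[A] B)
  let p₂ := PrimeSpectrum.comap (Algebra.TensorProduct.includeRight : B →ₐ[A] B ⊗[A] B).toRingHom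
  let ι := {U : Set (PrimeSpectrum B) // IsClopen U ∧ q ∈ U}
  let t : ι → Set (PrimeSpectrum (B ⊗[A] B)) := fun U => F ∩ (p₁ ⁻¹' U.1 ∩ p₂ ⁻¹' U.1)
  have htcl : ∀ U, IsClosed (t U) := fun U => hF.inter
    ((U.2.1.1.preimage (PrimeSpectrum.continuous_comap _)).inter
      (U.2.1.1.preimage (PrimeSpectrum.continuous_comap _)))
  by_contra! hno
  have htn : ∀ U, (t U).Nonempty := by
    intro U
    have := hno U.1 U.2.1 U.2.2
    simp only [Set.InjOn, not_forall] at this
    obtain ⟨x, hx, y, hy, hxy, hne⟩ := this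
    obtain ⟨P, hP₁, hP₂⟩ := exists_prime_over_tensor (A := A) x y (congrArg PrimeSpectrum.asIdeal hxy)
    refine ⟨P, fun hP => hne ?_, ?_, ?_⟩
    · rw [← hP₁, ← hP₂]
      refine PrimeSpectrum.ext (Ideal.ext fun b => ?_)
      change b ⊗ₜ (1 : B) ∈ P.asIdeal ↔ (1 : B) ⊗ₜ b ∈ P.asIdeal
      have hd : b ⊗ₜ[A] (1 : B) - (1 : B) ⊗ₜ[A] b ∈ P.asIdeal :=
        hP (show b ⊗ₜ (1 : B) - (1 : B) ⊗ₜ b ∈ I from by simp [I, RingHom.mem_ker])
      exact ⟨fun h => by simpa using P.asIdeal.sub_mem h hd,
        fun h => by simpa using P.asIdeal.add_mem hd h⟩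
    · change p₁ P ∈ U.1
      rw [show p₁ P = x from hP₁]; exact hx
    · change p₂ P ∈ U.1
      rw [show p₂ P = y from hP₂]; exact hy
  have : Nonempty ι := ⟨⟨Set.univ, isClopen_univ, trivial⟩⟩
  obtain ⟨P, hP⟩ := IsCompact.nonempty_iInter_of_directed_nonempty_isCompact_isClosed t
    (fun U V => ⟨⟨U.1 ∩ V.1, U.2.1.inter V.2.1, U.2.2, V.2.2⟩,
      fun P h => ⟨h.1, h.2.1.1, h.2.2.1⟩, fun P h => ⟨h.1, h.2.1.2, h.2.2.2⟩⟩)
    htn (fun U => (htcl U).isCompact) htcl
  rw [Set.mem_iInter] at hP
  have heq : ∀ x : PrimeSpectrum B, (∀ U : ι, x ∈ U.1) → x = q := fun x hx => by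
    by_contra hne
    obtain ⟨U, hU, hqU, hxU⟩ := exists_isClopen_of_totally_separated (Ne.symm hne)
    exact hxU (hx ⟨U, hU, hqU⟩)
  exact (hP ⟨Set.univ, isClopen_univ, trivial⟩).1 (mem_zeroLocus_ker_lmul hres P
    ((heq _ fun U => (hP U).2.1).trans (heq _ fun U => (hP U).2.2).symm))

theorem extremallyDisconnected_of_quasiFinite [Algebra.QuasiFinite A B]
    [Algebra.FinitePresentation A B] [T2Space (PrimeSpectrum A)]
    [ExtremallyDisconnected (PrimeSpectrum A)]
    (hres : ∀ p : PrimeSpectrum A, IsSepClosed p.asIdeal.ResidueField) :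
    ExtremallyDisconnected (PrimeSpectrum B) := by
  obtain ⟨_, _, _⟩ := isProfinite_of_incomparable (A := A) (B := B) fun a b he hle =>
    PrimeSpectrum.ext (Algebra.QuasiFinite.eq_of_le_of_under_eq (R := A) _ _ hle he)
  let π := PrimeSpectrum.comap (algebraMap A B)
  have hπ : Continuous π := PrimeSpectrum.continuous_comap _
  have hopen : IsOpenMap π := by
    refine PrimeSpectrum.isTopologicalBasis_basic_opens.isOpenMap_iff.2 ?_
    rintro _ ⟨b, rfl⟩
    exact (isClopen_of_isConstructible (isConstructible_comap_image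
      (RingHom.finitePresentation_algebraMap.mpr ‹_›) isConstructible_basicOpen)).2
  refine ⟨fun W hW => isOpen_iff_forall_mem_open.2 fun x hx => ?_⟩
  obtain ⟨U, hU, hxU, hinj⟩ := exists_isClopen_injOn hres x
  have hcl : π '' closure (W ∩ U) = closure (π '' (W ∩ U)) :=
    (hπ.isClosedMap.closure_image_eq_of_continuous hπ _).symm
  have hsub : closure (W ∩ U) ⊆ U :=
    closure_minimal Set.inter_subset_right hU.1
  have hopen' : IsOpen (U ∩ π ⁻¹' closure (π '' (W ∩ U))) :=
    hU.2.inter ((ExtremallyDisconnected.open_closure _ (hopen _ (hW.inter hU.2))).preimage hπ)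
  refine ⟨_, fun y hy => ?_, hopen', hxU, ?_⟩
  · obtain ⟨z, hz, hzy⟩ := hcl.ge hy.2
    rw [← hinj (hsub hz) hy.1 hzy]
    exact closure_mono Set.inter_subset_left hz
  · refine hcl.le ⟨x, ?_, rfl⟩
    rw [Set.inter_comm]
    exact hU.2.inter_closure ⟨hxU, hx⟩

end Groth.EtaleDeep.IndEt
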