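import Groth.Agent.EtaleDeep.IndEt.WContractible
import Groth.Agent.EtaleDeep.IndEt.QuasiFiniteED
import Groth.Agent.Hensel1.Finite
import Groth.Agent.Hensel1.StrictBaseChange
import Groth.Agent.S14620

/-!
# Finite algebras over w-contractible rings
-/

set_option autoImplicit false
set_option linter.style.haveILetI false

universe u

open CategoryTheory TensorProduct PrimeSpectrum Topology

namespace Groth.EtaleDeep.IndEt

/-- The local rings of a finite algebra over a strictly henselian point are strictly henselian. -/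
theorem isStrictlyHenselian_of_finite {A B : Type u} [CommRing A] [CommRing B] [Algebra A B]
    [Module.Finite A B] (m : Ideal A) [m.IsMaximal] (n : Ideal B) [n.IsMaximal]
    (hnm : n.comap (algebraMap A B) = m)
    (h : EtCoh.IsStrictlyHenselianLocalRing (Localization.AtPrime m)) :
    EtCoh.IsStrictlyHenselianLocalRing (Localization.AtPrime n) := by
  obtain ⟨hhens, hk⟩ := h
  let M := Algebra.algebraMapSubmonoid B m.primeCompl
  let S := Localization M
  let Bn := Localization.AtPrime n
  have hMn : ∀ y : M, IsUnit (algebraMap B Bn y) := by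
    rintro ⟨_, s, hs, rfl⟩
    exact IsLocalization.map_units Bn (⟨algebraMap A B s, fun h' => hs (hnm.le h')⟩ : n.primeCompl)
  let χ : S →+* Bn := IsLocalization.lift hMn
  have hχ : ∀ b, χ (algebraMap B S b) = algebraMap B Bn b := IsLocalization.lift_eq hMn
  obtain ⟨ι, _, e, he, hloc⟩ := Groth.Hensel1.exists_completeOrthogonalIdempotents_local
    (Localization.AtPrime m) S
  obtain ⟨i, hi⟩ : ∃ i, χ (e i) ∉ IsLocalRing.maximalIdeal Bn := by
    by_contra! hall
    refine (IsLocalRing.maximalIdeal.isMaximal Bn).ne_top ((Ideal.eq_top_iff_one _).2 ?_)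
    rw [← map_one χ, ← he.complete, map_sum]
    exact Ideal.sum_mem _ fun i _ => hall i
  have hi1 : χ (e i) = 1 := (IsLocalRing.notMem_maximalIdeal.1 hi).mul_left_cancel
    ((((he.idem i).map χ)).trans (mul_one _).symm)
  let T := S ⧸ Ideal.span {1 - e i}
  have : IsLocalRing T := hloc i
  let χT : T →+* Bn := Ideal.Quotient.lift _ χ fun x hx => by
    obtain ⟨c, rfl⟩ := Ideal.mem_span_singleton'.1 hx
    rw [map_mul, map_sub, map_one, hi1, sub_self, mul_zero]
  have hloc' : ∀ b : n.primeCompl, IsUnit ((Ideal.Quotient.mk _).comp (algebraMap B S) (b : B) : T) := by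
    intro b
    by_contra hnu
    have h1 : algebraMap B Bn b ∈ IsLocalRing.maximalIdeal Bn := by
      rw [← hχ]
      have hle : (IsLocalRing.maximalIdeal Bn).comap χT ≤ IsLocalRing.maximalIdeal T :=
        IsLocalRing.le_maximalIdeal (Ideal.comap_ne_top _ (IsLocalRing.maximalIdeal.isMaximal Bn).ne_top)
      have hge : IsLocalRing.maximalIdeal T ≤ (IsLocalRing.maximalIdeal Bn).comap χT := by
        have hmax : ((IsLocalRing.maximalIdeal Bn).comap χT).IsMaximal := by
          have : ((IsLocalRing.maximalIdeal Bn).comap χT).IsPrime := Ideal.IsPrime.comap _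
          refine Ideal.isMaximal_of_isIntegral_of_isMaximal_comap (R := Localization.AtPrime m) _ ?_
          have hp : (((IsLocalRing.maximalIdeal Bn).comap χT).comap
              (algebraMap (Localization.AtPrime m) T)).IsPrime := Ideal.IsPrime.comap _
          have : IsLocalRing.maximalIdeal (Localization.AtPrime m) ≤
              ((IsLocalRing.maximalIdeal Bn).comap χT).comap (algebraMap (Localization.AtPrime m) T) := by
            rw [← Localization.AtPrime.map_eq_maximalIdeal, Ideal.map_le_iff_le_comap]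
            intro a ha
            rw [Ideal.mem_comap, Ideal.mem_comap, Ideal.mem_comap]
            rw [IsScalarTower.algebraMap_apply (Localization.AtPrime m) S T,
              ← IsScalarTower.algebraMap_apply A (Localization.AtPrime m) S,
              IsScalarTower.algebraMap_apply A B S]
            change χ (algebraMap B S (algebraMap A B a)) ∈ _
            rw [hχ, IsLocalization.AtPrime.to_map_mem_maximal_iff Bn n]
            exact hnm.ge ha
          exact ((IsLocalRing.maximalIdeal.isMaximal _).eq_of_le hp.ne_top this) ▸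
            IsLocalRing.maximalIdeal.isMaximal _
        exact (IsLocalRing.eq_maximalIdeal hmax).ge
      exact hge ((IsLocalRing.mem_maximalIdeal _).2 hnu)
    exact (IsLocalization.AtPrime.to_map_mem_maximal_iff Bn n (b : B)).1 h1 |> b.2
  let ψ : Bn →+* T := IsLocalization.lift hloc'
  have h1 : χT.comp ψ = RingHom.id _ := IsLocalization.ringHom_ext n.primeCompl (RingHom.ext fun b => by
    change χT (ψ (algebraMap B Bn b)) = algebraMap B Bn b
    rw [IsLocalization.lift_eq]
    exact hχ b)
  have h2 : ψ.comp χT = RingHom.id _ := Ideal.Quotient.ringHom_ext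
    (IsLocalization.ringHom_ext M (RingHom.ext fun b => by
      change ψ (χ (algebraMap B S b)) = Ideal.Quotient.mk _ (algebraMap B S b)
      rw [hχ, IsLocalization.lift_eq]
      rfl))
  refine isStrictlyHenselianLocalRing_of_ringEquiv (RingEquiv.ofRingHom χT ψ h1 h2) ?_
  have hint : (algebraMap (Localization.AtPrime m) T).IsIntegral :=
    algebraMap_isIntegral_iff.2 inferInstance
  have : IsLocalHom (algebraMap (Localization.AtPrime m) T) :=
    ((IsLocalRing.local_hom_TFAE _).out 0 4).2 (IsLocalRing.eq_maximalIdeal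
      (Ideal.isMaximal_comap_of_isIntegral_of_isMaximal' _ hint (IsLocalRing.maximalIdeal T)))
  exact Groth.Agent.S14620.result (algebraMap (Localization.AtPrime m) T)
    (RingHom.finite_algebraMap.2 inferInstance) ⟨hhens, hk⟩

/-- Above a henselian point, a prime of a finite algebra has one closed specialization. -/
theorem eq_of_finite_henselian {A B : Type u} [CommRing A] [CommRing B] [Algebra A B]
    [Module.Finite A B] (m : Ideal A) [m.IsMaximal]
    [HenselianLocalRing (Localization.AtPrime m)] (x n₁ n₂ : Ideal B) [x.IsPrime] [n₁.IsMaximal]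
    [n₂.IsMaximal] (h₁ : x ≤ n₁) (h₂ : x ≤ n₂) (hm₁ : n₁.comap (algebraMap A B) = m)
    (hm₂ : n₂.comap (algebraMap A B) = m) : n₁ = n₂ := by
  let B' := B ⧸ x
  let M := Algebra.algebraMapSubmonoid B' m.primeCompl
  let S := Localization M
  have hM : M ≤ nonZeroDivisors B' := by
    rintro _ ⟨s, hs, rfl⟩
    refine mem_nonZeroDivisors_of_ne_zero fun h0 => hs (hm₁.le (h₁ ?_))
    exact Ideal.Quotient.eq_zero_iff_mem.1 h0
  have : IsDomain S := IsLocalization.isDomain_of_le_nonZeroDivisors _ hM
  have hloc := Groth.Hensel1.isLocalRing_of_finite_of_idempotent (Localization.AtPrime m) S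
    fun _ he => IsIdempotentElem.iff_eq_zero_or_one.1 he
  have key : ∀ n : Ideal B, n.IsMaximal → x ≤ n → n.comap (algebraMap A B) = m →
      ∀ b : B, b ∈ n ↔ algebraMap B' S (Ideal.Quotient.mk x b) ∈ IsLocalRing.maximalIdeal S := by
    intro n hn hxn hnm b
    let n' : Ideal B' := n.map (Ideal.Quotient.mk x)
    have hcomap : n'.comap (Ideal.Quotient.mk x) = n := Ideal.comap_map_mk hxn
    have hn' : n'.IsMaximal := Ideal.IsMaximal.map_of_surjective_of_ker_le
      Ideal.Quotient.mk_surjective (by rwa [Ideal.mk_ker])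
    have hdisj : Disjoint (M : Set B') n' := by
      refine Set.disjoint_left.2 ?_
      rintro _ ⟨s, hs, rfl⟩ hmem
      exact hs (hnm.le (hcomap.le hmem))
    let N : Ideal S := n'.map (algebraMap B' S)
    have hN : N.comap (algebraMap B' S) = n' :=
      IsLocalization.comap_map_of_isPrime_disjoint M S hn'.isPrime hdisj
    have hNmax : N.IsMaximal := by
      have hNp : N.IsPrime := IsLocalization.isPrime_of_isPrime_disjoint M _ n' hn'.isPrime hdisj
      refine ⟨⟨hNp.ne_top, fun J hJ => ?_⟩⟩
      by_contra hJtop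
      obtain ⟨P, hP, hJP⟩ := Ideal.exists_le_maximal J hJtop
      have hPc : P.comap (algebraMap B' S) = n' := ((hn'.eq_of_le (Ideal.comap_ne_top _ hP.ne_top))
        (hN ▸ Ideal.comap_mono (hJ.le.trans hJP))).symm
      have hPN : P = N :=
        (IsLocalization.map_comap M S P).symm.trans (congrArg (Ideal.map (algebraMap B' S)) hPc)
      exact hJ.not_ge (hPN ▸ hJP)
    rw [← IsLocalRing.eq_maximalIdeal hNmax]
    change b ∈ n ↔ Ideal.Quotient.mk x b ∈ N.comap (algebraMap B' S)
    rw [hN]
    change b ∈ n ↔ b ∈ n'.comap (Ideal.Quotient.mk x)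
    rw [hcomap]
  ext b
  rw [key n₁ ‹_› h₁ hm₁, key n₂ ‹_› h₂ hm₂]

theorem isWContractible_of_finite {A B : Type u} [CommRing A] [CommRing B] [Algebra A B]
    [Module.Finite A B] [Algebra.FinitePresentation A B] (h : EtPBC.IsWContractible A) :
    EtPBC.IsWContractible B := by
  obtain ⟨hw, hed, hsh⟩ :=
    isWContractible_iff_indEtale.2 (isWContractible_iff_indEtale.1 h)
  have : Algebra.IsIntegral A B := Algebra.IsIntegral.of_finite A B
  obtain ⟨I, hI⟩ := (PrimeSpectrum.isClosed_iff_zeroLocus_ideal _).1 hw.2.1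
  let π := PrimeSpectrum.comap (algebraMap A B)
  have hclB : ∀ y : PrimeSpectrum B, IsClosed ({y} : Set (PrimeSpectrum B)) ↔
      IsClosed ({π y} : Set (PrimeSpectrum A)) := by
    intro y
    rw [PrimeSpectrum.isClosed_singleton_iff_isMaximal, PrimeSpectrum.isClosed_singleton_iff_isMaximal]
    exact ⟨fun hy => Ideal.isMaximal_comap_of_isIntegral_of_isMaximal (R := A) y.asIdeal,
      fun hy => Ideal.isMaximal_of_isIntegral_of_isMaximal_comap (R := A) y.asIdeal hy⟩
  have hwB : ProEtW.IsWLocal (PrimeSpectrum B) := by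
    refine ⟨inferInstance, ?_, fun x => ?_⟩
    · have : ProEtW.closedPoints (PrimeSpectrum B) = π ⁻¹' ProEtW.closedPoints (PrimeSpectrum A) :=
        Set.ext hclB
      change IsClosed (ProEtW.closedPoints (PrimeSpectrum B))
      rw [this]
      exact hw.2.1.preimage (PrimeSpectrum.continuous_comap _)
    · obtain ⟨N, hN, hxN⟩ := x.asIdeal.exists_le_maximal x.2.ne_top
      refine ⟨⟨N, hN.isPrime⟩, ⟨(PrimeSpectrum.isClosed_singleton_iff_isMaximal _).2 hN,
        (le_iff_specializes _ _).1 hxN⟩, ?_⟩
      rintro z ⟨hz, hxz⟩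
      let m := π ⟨N, hN.isPrime⟩
      have hm : IsClosed ({m} : Set (PrimeSpectrum A)) :=
        (hclB _).1 ((PrimeSpectrum.isClosed_singleton_iff_isMaximal _).2 hN)
      have hzm : π z = m := (PiZero.eq_retr hw ((hclB z).1 hz) (hxz.map
        (PrimeSpectrum.continuous_comap _))).trans (PiZero.eq_retr hw hm
          (((le_iff_specializes x ⟨N, hN.isPrime⟩).1 hxN).map (PrimeSpectrum.continuous_comap _))).symm
      have hmax : m.asIdeal.IsMaximal := (PrimeSpectrum.isClosed_singleton_iff_isMaximal _).1 hm
      obtain ⟨_, -⟩ := hsh m.asIdeal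
      have : z.asIdeal.IsMaximal := (PrimeSpectrum.isClosed_singleton_iff_isMaximal _).1 hz
      exact PrimeSpectrum.ext (eq_of_finite_henselian m.asIdeal x.asIdeal z.asIdeal N
        ((le_iff_specializes _ _).2 hxz) hxN (congrArg PrimeSpectrum.asIdeal hzm) rfl)
  have hshB : ∀ (n : Ideal B) [n.IsMaximal],
      EtCoh.IsStrictlyHenselianLocalRing (Localization.AtPrime n) := fun n hn => by
    have : (n.comap (algebraMap A B)).IsMaximal :=
      Ideal.isMaximal_comap_of_isIntegral_of_isMaximal (R := A) n
    exact isStrictlyHenselian_of_finite _ n rfl (hsh _)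
  let B₀ := (A ⧸ I) ⊗[A] B
  let c : PrimeSpectrum (A ⧸ I) → PrimeSpectrum A := PrimeSpectrum.comap (Ideal.Quotient.mk I)
  have hc : IsClosedEmbedding c :=
    isClosedEmbedding_comap_of_surjective _ _ Ideal.Quotient.mk_surjective
  have hcr : Set.range c = ProEtW.closedPoints (PrimeSpectrum A) :=
    (range_comap_of_surjective _ _ Ideal.Quotient.mk_surjective).trans (by rw [Ideal.mk_ker, ← hI]; rfl)
  obtain ⟨eA, -⟩ := PiZero.exists_homeomorph_closedPoints hw
  let e₀ : PrimeSpectrum (A ⧸ I) ≃ₜ ProEtW.closedPoints (PrimeSpectrum A) :=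
    hc.isEmbedding.toHomeomorph.trans (Homeomorph.setCongr hcr)
  obtain ⟨_, _, _⟩ := PiZero.isProfinite_closedPoints hw
  have : T2Space (PrimeSpectrum (A ⧸ I)) := e₀.isEmbedding.t2Space
  have : ExtremallyDisconnected (PrimeSpectrum (A ⧸ I)) :=
    extremallyDisconnected_of_homeomorph (eA.symm.trans e₀.symm)
  have hres : ∀ p : PrimeSpectrum (A ⧸ I), IsSepClosed p.asIdeal.ResidueField := by
    intro p
    have hm : IsClosed ({c p} : Set (PrimeSpectrum A)) := hcr.le ⟨p, rfl⟩
    have : (c p).asIdeal.IsMaximal := (PrimeSpectrum.isClosed_singleton_iff_isMaximal _).1 hm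
    obtain ⟨_, hk⟩ := hsh (c p).asIdeal
    have : IsSepClosed (c p).asIdeal.ResidueField := hk
    let φ : (c p).asIdeal.ResidueField →+* p.asIdeal.ResidueField :=
      Ideal.ResidueField.map (c p).asIdeal p.asIdeal (Ideal.Quotient.mk I) rfl
    have hφ : Function.Surjective φ := by
      intro y
      obtain ⟨a, s, hs, rfl⟩ := IsFractionRing.div_surjective ((A ⧸ I) ⧸ p.asIdeal) y
      obtain ⟨a, rfl⟩ := Ideal.Quotient.mk_surjective a
      obtain ⟨a, rfl⟩ := Ideal.Quotient.mk_surjective a
      obtain ⟨s, rfl⟩ := Ideal.Quotient.mk_surjective s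
      obtain ⟨s, rfl⟩ := Ideal.Quotient.mk_surjective s
      refine ⟨algebraMap A _ a / algebraMap A _ s, ?_⟩
      rw [map_div₀, Ideal.ResidueField.map_algebraMap, Ideal.ResidueField.map_algebraMap]
      rfl
    letI := φ.toAlgebra
    have : Module.Finite (c p).asIdeal.ResidueField p.asIdeal.ResidueField :=
      Module.Finite.of_surjective (Algebra.linearMap _ _) hφ
    have : Algebra.IsAlgebraic (c p).asIdeal.ResidueField p.asIdeal.ResidueField :=
      Algebra.IsAlgebraic.of_finite _ _
    exact Algebra.IsAlgebraic.isSepClosed (F := (c p).asIdeal.ResidueField)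
  have := extremallyDisconnected_of_quasiFinite (A := A ⧸ I) (B := B₀) hres
  let ιB : B →+* B₀ := (Algebra.TensorProduct.includeRight : B →ₐ[A] B₀).toRingHom
  have hιB : Function.Surjective ιB := fun t => by
    induction t using TensorProduct.induction_on with
    | zero => exact ⟨0, map_zero _⟩
    | tmul a b =>
      obtain ⟨a, rfl⟩ := Ideal.Quotient.mk_surjective a
      refine ⟨a • b, ?_⟩
      change (1 : A ⧸ I) ⊗ₜ[A] (a • b) = _
      rw [← smul_tmul, ← Algebra.algebraMap_eq_smul_one]
      rfl
    | add s t hs ht =>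
      obtain ⟨s, rfl⟩ := hs
      obtain ⟨t, rfl⟩ := ht
      exact ⟨s + t, map_add _ _ _⟩
  have hcB : IsClosedEmbedding (PrimeSpectrum.comap ιB) :=
    isClosedEmbedding_comap_of_surjective _ _ hιB
  have hcBr : Set.range (PrimeSpectrum.comap ιB) = ProEtW.closedPoints (PrimeSpectrum B) := by
    refine Set.Subset.antisymm ?_ fun y hy => ?_
    · rintro _ ⟨z, rfl⟩
      refine (hclB _).2 (hI.ge fun a ha => ?_)
      change ιB (algebraMap A B a) ∈ z.asIdeal
      rw [show ιB (algebraMap A B a) = algebraMap A B₀ a from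
        (Algebra.TensorProduct.includeRight : B →ₐ[A] B₀).commutes a,
        IsScalarTower.algebraMap_apply A (A ⧸ I) B₀,
        show algebraMap A (A ⧸ I) a = 0 from Ideal.Quotient.eq_zero_iff_mem.2 ha, map_zero]
      exact zero_mem _
    · obtain ⟨p, hp⟩ := hcr.ge ((hclB y).1 hy)
      obtain ⟨Q, -, hQ⟩ := exists_prime_over_tensor (A := A) p y (congrArg PrimeSpectrum.asIdeal hp)
      exact ⟨Q, hQ⟩
  obtain ⟨eB, -⟩ := PiZero.exists_homeomorph_closedPoints hwB
  have : ExtremallyDisconnected (_root_.ConnectedComponents (PrimeSpectrum B)) :=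
    extremallyDisconnected_of_homeomorph
      ((hcB.isEmbedding.toHomeomorph.trans (Homeomorph.setCongr hcBr)).trans eB)
  exact isWContractible_of_wLocal hwB hshB

end Groth.EtaleDeep.IndEt
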