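import Groth.Agent.EtaleDeep.IndEt.WLocalization

/-!
# w-localization along a profinite closed set
-/

set_option autoImplicit false
set_option linter.style.haveILetI false

universe u

open Topology TopologicalSpace Set PrimeSpectrum
open Groth.EtaleDeep

namespace Groth.EtaleDeep.IndEt

theorem isWLocal_of_isClosedEmbedding {X Y : Type u} [TopologicalSpace X] [TopologicalSpace Y]
    {f : X → Y} (hf : IsClosedEmbedding f) (hY : ProEtW.IsWLocal Y) :
    ProEtW.IsWLocal X ∧ (∀ x, IsClosed ({x} : Set X) ↔ IsClosed ({f x} : Set Y)) := by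
  have := hY.1
  have hpt : ∀ x, IsClosed ({x} : Set X) ↔ IsClosed ({f x} : Set Y) := fun x => by
    rw [hf.isClosed_iff_image_isClosed, Set.image_singleton]
  refine ⟨⟨Groth.EtaleDeep.spectralSpace_of_isClosedEmbedding hf, ?_, fun x => ?_⟩, hpt⟩
  · rw [show {x : X | IsClosed ({x} : Set X)} = f ⁻¹' {y | IsClosed ({y} : Set Y)} from Set.ext hpt]
    exact hY.2.1.preimage hf.continuous
  · obtain ⟨y, ⟨hy, hxy⟩, huniq⟩ := hY.2.2 (f x)
    obtain ⟨z, rfl⟩ : y ∈ Set.range f := hxy.mem_closed hf.isClosed_range ⟨x, rfl⟩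
    exact ⟨z, ⟨(hpt z).2 hy, hf.isInducing.specializes_iff.1 hxy⟩, fun w hw =>
      hf.injective (huniq _ ⟨(hpt w).1 hw.1, hf.isInducing.specializes_iff.2 hw.2⟩)⟩

variable {A : Type u} [CommRing A] {B : Type u} [CommRing B] [Algebra A B]

theorem IdAt.exists_mem_of_mem_map {q : PrimeSpectrum B} (h : IdAt A q.asIdeal) (I : Ideal A) {x : B}
    (hx : x ∈ I.map (algebraMap A B)) :
    ∃ a ∈ I, ∃ s ∉ q.asIdeal.comap (algebraMap A B), ∃ c ∉ q.asIdeal,
      c * (algebraMap A B s * x - algebraMap A B a) = 0 := by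
  induction hx using Submodule.span_induction with
  | mem y hy =>
    obtain ⟨a, ha, rfl⟩ := hy
    exact ⟨a, ha, 1, (q.2.comap _).one_notMem, 1, q.2.one_notMem, by simp⟩
  | zero => exact ⟨0, zero_mem _, 1, (q.2.comap _).one_notMem, 1, q.2.one_notMem, by simp⟩
  | add x y _ _ hx hy =>
    obtain ⟨a, ha, s, hs, c, hc, e⟩ := hx
    obtain ⟨a', ha', s', hs', c', hc', e'⟩ := hy
    refine ⟨a * s' + a' * s, add_mem (I.mul_mem_right _ ha) (I.mul_mem_right _ ha'), s * s',
      fun hh => ((q.2.comap _).mem_or_mem hh).elim hs hs', c * c',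
      fun hh => (q.2.mem_or_mem hh).elim hc hc', ?_⟩
    simp only [map_mul, map_add]
    linear_combination (c' * algebraMap A B s') * e + (c * algebraMap A B s) * e'
  | smul r x _ hx =>
    obtain ⟨a, ha, s, hs, c, hc, e⟩ := hx
    obtain ⟨a', s', hs', c', hc', e'⟩ := h.2 r
    refine ⟨a * a', I.mul_mem_right _ ha, s * s',
      fun hh => ((q.2.comap _).mem_or_mem hh).elim hs hs', c * c',
      fun hh => (q.2.mem_or_mem hh).elim hc hc', ?_⟩
    simp only [map_mul, smul_eq_mul]
    linear_combination (c' * algebraMap A B s' * r) * e + (c * algebraMap A B a) * e'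

theorem mem_zeroLocus_map_iff {I : Ideal A} {q : PrimeSpectrum B} :
    q ∈ zeroLocus (I.map (algebraMap A B) : Set B) ↔
      PrimeSpectrum.comap (algebraMap A B) q ∈ zeroLocus (I : Set A) := by
  rw [mem_zeroLocus, SetLike.coe_subset_coe, Ideal.map_le_iff_le_comap]
  exact Iff.rfl

theorem eq_of_specializes_of_profinite {I : Ideal A}
    (hI : ProEtW.IsProfinite (PrimeSpectrum.zeroLocus (R := A) I)) {p p' : PrimeSpectrum A}
    (hp : p ∈ zeroLocus (I : Set A)) (hp' : p' ∈ zeroLocus (I : Set A)) (h : p ⤳ p') : p = p' := by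
  obtain ⟨_, _, _⟩ := hI
  have h2 : (⟨p, hp⟩ : PrimeSpectrum.zeroLocus (R := A) I) ⤳ ⟨p', hp'⟩ :=
    (subtype_specializes_iff _ _).2 h
  exact congrArg Subtype.val h2.eq

/-- `A ⧸ I → B ⧸ IB` is bijective when `B` identifies local rings and `V(IB) → V(I)` is bijective. -/
theorem bijective_quotientMap {I : Ideal A} (hid : EtPBC.IdentifiesLocalRings A B)
    (hI : ProEtW.IsProfinite (PrimeSpectrum.zeroLocus (R := A) I))
    (hbij : Set.BijOn (PrimeSpectrum.comap (algebraMap A B))
      (zeroLocus (I.map (algebraMap A B) : Set B)) (zeroLocus (I : Set A))) :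
    Function.Bijective (Ideal.quotientMap (I.map (algebraMap A B)) (algebraMap A B)
      Ideal.le_comap_map) := by
  have hid' := identifiesLocalRings_iff.1 hid
  constructor
  · refine (injective_iff_map_eq_zero _).2 fun x hx => ?_
    obtain ⟨a, rfl⟩ := Ideal.Quotient.mk_surjective x
    rw [Ideal.quotientMap_mk, Ideal.Quotient.eq_zero_iff_mem] at hx
    rw [Ideal.Quotient.eq_zero_iff_mem]
    by_contra ha
    let J : Ideal A := Submodule.comap (LinearMap.toSpanSingleton A A a) I
    have hJ : ∀ s, s ∈ J ↔ s * a ∈ I := fun s => Iff.rfl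
    obtain ⟨M, hM, hJM⟩ := Ideal.exists_le_maximal J (fun h => ha (by
      simpa using (hJ 1).1 (h ▸ Submodule.mem_top)))
    obtain ⟨q, -, hqM⟩ := hbij.surjOn (show (⟨M, hM.isPrime⟩ : PrimeSpectrum A) ∈ zeroLocus (I : Set A) from
      fun i hi => hJM ((hJ i).2 (I.mul_mem_right _ hi)))
    have hqM' : q.asIdeal.comap (algebraMap A B) = M := congrArg PrimeSpectrum.asIdeal hqM
    obtain ⟨a', ha', s, hs, c, hc, e⟩ := (hid' q).exists_mem_of_mem_map I hx
    obtain ⟨t, ht, hta⟩ := (hid' q).1 (s * a - a') c hc (by rw [map_sub, map_mul]; exact e)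
    have h1 : t * s ∈ J := by
      rw [hJ, show t * s * a = t * a' by linear_combination hta]
      exact I.mul_mem_left _ ha'
    rw [hqM'] at hs ht
    exact (hM.isPrime.mem_or_mem (hJM h1)).elim ht hs
  · intro x
    obtain ⟨b, rfl⟩ := Ideal.Quotient.mk_surjective x
    let J : Ideal A :=
      { carrier := {s | ∃ a, algebraMap A B s * b - algebraMap A B a ∈ I.map (algebraMap A B)}
        zero_mem' := ⟨0, by simp⟩
        add_mem' := by
          rintro s t ⟨a, ha⟩ ⟨a', ha'⟩
          refine ⟨a + a', ?_⟩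
          have := add_mem ha ha'
          rwa [show algebraMap A B (s + t) * b - algebraMap A B (a + a') =
            algebraMap A B s * b - algebraMap A B a + (algebraMap A B t * b - algebraMap A B a') by
              rw [map_add, map_add]; ring]
        smul_mem' := by
          rintro r s ⟨a, ha⟩
          refine ⟨r * a, ?_⟩
          rw [smul_eq_mul, map_mul, map_mul, mul_assoc, ← mul_sub]
          exact Ideal.mul_mem_left _ _ ha }
    by_contra hcon
    obtain ⟨M, hM, hJM⟩ := Ideal.exists_le_maximal J (fun h => hcon (by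
      obtain ⟨a, ha⟩ := (h ▸ Submodule.mem_top : (1 : A) ∈ J)
      refine ⟨Ideal.Quotient.mk I a, ?_⟩
      rw [Ideal.quotientMap_mk, eq_comm, Ideal.Quotient.eq]
      simpa using ha))
    have hMI : (⟨M, hM.isPrime⟩ : PrimeSpectrum A) ∈ zeroLocus (I : Set A) := fun i hi =>
      hJM ⟨0, by simpa using Ideal.mul_mem_right b _ (Ideal.mem_map_of_mem (algebraMap A B) hi)⟩
    obtain ⟨q, hq, hqM⟩ := hbij.surjOn hMI
    have hqM' : q.asIdeal.comap (algebraMap A B) = M := congrArg PrimeSpectrum.asIdeal hqM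
    obtain ⟨a, s, hs, c, hc, hca⟩ := (hid' q).2 b
    let S : Submonoid B := M.primeCompl.map (algebraMap A B).toMonoidHom
    obtain ⟨t, ht, d, hd⟩ : ∃ t, t ∉ M ∧ ∃ d, algebraMap A B t - c * d ∈ I.map (algebraMap A B) := by
      by_contra hne
      push Not at hne
      obtain ⟨P, hP, hle, hPS⟩ := Ideal.exists_le_prime_disjoint
        (Ideal.span {c} ⊔ I.map (algebraMap A B)) S
        (Set.disjoint_left.2 fun x hx ⟨t, ht, htx⟩ => by
          obtain ⟨y, hy, z, hz, hyz⟩ := Submodule.mem_sup.1 hx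
          obtain ⟨d, rfl⟩ := Ideal.mem_span_singleton.1 hy
          refine hne t ht d ?_
          rw [show algebraMap A B t = x from htx, ← hyz]
          simpa using hz)
      have hPV : (⟨P, hP⟩ : PrimeSpectrum B) ∈ zeroLocus (I.map (algebraMap A B) : Set B) :=
        le_sup_right.trans hle
      have hsp : PrimeSpectrum.comap (algebraMap A B) ⟨P, hP⟩ ⤳ ⟨M, hM.isPrime⟩ :=
        (le_iff_specializes _ _).1 fun x hx => by
          by_contra hxm
          exact Set.disjoint_left.1 hPS hx ⟨x, hxm, rfl⟩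
      have hPq : (⟨P, hP⟩ : PrimeSpectrum B) = q := hbij.injOn hPV hq
        ((eq_of_specializes_of_profinite hI (mem_zeroLocus_map_iff.1 hPV) hMI hsp).trans hqM.symm)
      exact hc (hPq ▸ hle (Ideal.mem_sup_left (Ideal.mem_span_singleton_self c)))
    have h1 : t * s ∈ J := ⟨t * a, by
      have h2 := Ideal.mul_mem_right (algebraMap A B s * b - algebraMap A B a) _ hd
      rwa [show (algebraMap A B t - c * d) * (algebraMap A B s * b - algebraMap A B a) =
        algebraMap A B (t * s) * b - algebraMap A B (t * a) from by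
          rw [map_mul, map_mul]; linear_combination -d * hca] at h2⟩
    rw [hqM'] at hs
    exact (hM.isPrime.mem_or_mem (hJM h1)).elim ht hs

variable (A)

theorem exists_wLocal_along (I : Ideal A)
    (hI : ProEtW.IsProfinite (PrimeSpectrum.zeroLocus (R := A) I)) :
    ∃ (B : Type u) (_ : CommRing B) (_ : Algebra A B),
      EtPBC.IsIndZariski A B ∧ ProEtW.IsWLocal (PrimeSpectrum B) ∧
      ProEtW.closedPoints (PrimeSpectrum B) = PrimeSpectrum.zeroLocus (I.map (algebraMap A B)) ∧
      Function.Bijective (Ideal.quotientMap (I.map (algebraMap A B)) (algebraMap A B)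
        Ideal.le_comap_map) ∧
      Set.BijOn (PrimeSpectrum.comap (algebraMap A B)) (ProEtW.closedPoints (PrimeSpectrum B))
        (zeroLocus (I : Set A)) := by
  set C := ProEtW.closedPoints (PrimeSpectrum (WLoc A)) ∩
    PrimeSpectrum.comap (algebraMap A (WLoc A)) ⁻¹' zeroLocus (I : Set A)
  have hC : IsClosed C := (isWLocal_wLoc (A := A)).2.1.inter
    ((isClosed_zeroLocus _).preimage (PrimeSpectrum.continuous_comap _))
  obtain ⟨J, hZ, -, hemb, hrange⟩ := exists_indZariski_quotient (A := A)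
    (_root_.ConnectedComponents.mk '' C)
    (hC.isCompact.image ConnectedComponents.continuous_coe).isClosed isIndZariski_wLoc
  set c := PrimeSpectrum.comap (algebraMap (WLoc A) (WLoc A ⧸ J))
  obtain ⟨hw, hpt⟩ := isWLocal_of_isClosedEmbedding hemb isWLocal_wLoc
  have hA : algebraMap A (WLoc A ⧸ J) = (algebraMap (WLoc A) (WLoc A ⧸ J)).comp (algebraMap A (WLoc A)) :=
    IsScalarTower.algebraMap_eq A (WLoc A) (WLoc A ⧸ J)
  have hcomap : ∀ y, PrimeSpectrum.comap (algebraMap A (WLoc A ⧸ J)) y =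
      PrimeSpectrum.comap (algebraMap A (WLoc A)) (c y) := fun y => by
    rw [hA, PrimeSpectrum.comap_comp_apply]
  have hcl : ∀ y, IsClosed ({y} : Set (PrimeSpectrum (WLoc A ⧸ J))) →
      PrimeSpectrum.comap (algebraMap A (WLoc A ⧸ J)) y ∈ zeroLocus (I : Set A) := by
    intro y hy
    obtain ⟨z, ⟨hz, hzI⟩, hzy⟩ := hrange.le ⟨y, rfl⟩
    rw [hcomap, ← PiZero.eq_of_mk_eq isWLocal_wLoc hz ((hpt y).1 hy) hzy]
    exact hzI
  have hid := identifiesLocalRings_iff.1 (identifiesLocalRings_of_isIndZariski hZ)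
  have hclosed : ProEtW.closedPoints (PrimeSpectrum (WLoc A ⧸ J)) =
      PrimeSpectrum.zeroLocus (I.map (algebraMap A (WLoc A ⧸ J))) := by
    ext y
    refine ⟨fun hy => mem_zeroLocus_map_iff.2 (hcl y hy), fun hy => ?_⟩
    have hsp := PiZero.specializes_retr hw y
    have he := eq_of_specializes_of_profinite hI (mem_zeroLocus_map_iff.1 hy)
      (hcl _ (PiZero.isClosed_retr hw y)) (hsp.map (PrimeSpectrum.continuous_comap _))
    rw [(hid (PiZero.retr hw y)).eq_of_le ((le_iff_specializes _ _).2 hsp) le_rfl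
      (congrArg PrimeSpectrum.asIdeal he)]
    exact PiZero.isClosed_retr hw y
  have hbij : Set.BijOn (PrimeSpectrum.comap (algebraMap A (WLoc A ⧸ J)))
      (ProEtW.closedPoints (PrimeSpectrum (WLoc A ⧸ J))) (zeroLocus (I : Set A)) := by
    refine ⟨fun y hy => hcl y hy, fun y hy y' hy' h => ?_, fun p hp => ?_⟩
    · rw [hcomap, hcomap] at h
      exact hemb.injective (bijOn_closedPoints_wLoc.injOn ((hpt y).1 hy) ((hpt y').1 hy') h)
    · obtain ⟨z, hz, hzp⟩ := bijOn_closedPoints_wLoc.surjOn (Set.mem_univ p)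
      obtain ⟨y, hy⟩ := hrange.ge ⟨z, ⟨hz, by rw [Set.mem_preimage, hzp]; exact hp⟩, rfl⟩
      refine ⟨y, (hpt y).2 ?_, by rw [hcomap, hy, hzp]⟩
      rw [hy]
      exact hz
  exact ⟨WLoc A ⧸ J, inferInstance, inferInstance, hZ, hw, hclosed,
    bijective_quotientMap (identifiesLocalRings_of_isIndZariski hZ) hI (hclosed ▸ hbij), hbij⟩

end Groth.EtaleDeep.IndEt
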