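import Groth.Agent.EtaleDeep.IndEt.BaseChange

/-!
# The factorization criterion for filtered presentations
-/

set_option autoImplicit false
set_option linter.style.haveILetI false

universe u

open CategoryTheory MvPolynomial

namespace Groth.EtaleDeep.IndEt

variable (A B : Type u) [CommRing A] [CommRing B] [Algebra A B]

/-- Every finite system of polynomial equations solved in `B` is solved compatibly in an algebra
with property `P` over `B`. -/
def Factors (P : ∀ (R : Type u) [CommRing R] [Algebra A R], Prop) : Prop :=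
  ∀ (n : ℕ) (s : Finset (MvPolynomial (Fin n) A)) (b : Fin n → B), (∀ r ∈ s, aeval b r = 0) →
    ∃ (E : Type u) (_ : CommRing E) (_ : Algebra A E), P E ∧
      ∃ (ψ : E →ₐ[A] B) (x : Fin n → E), (∀ r ∈ s, aeval x r = 0) ∧ ∀ l, ψ (x l) = b l

variable {A B} {P : ∀ (R : Type u) [CommRing R] [Algebra A R], Prop}

theorem Pres.factors (H : Pres A B P) : Factors A B P := by
  intro n s b hb
  obtain ⟨i, -, x, hx⟩ := H.surj_fintype H.nonempty.some b
  have h : ∀ p, H.g i (aeval x p) = aeval b p := fun p => by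
    rw [← AlgHom.comp_apply, comp_aeval, show (fun l => H.g i (x l)) = b from funext hx]
  obtain ⟨k, u, hu⟩ := H.zero_fintype i (fun r : s => aeval x r.1) fun r => by
    rw [h]; exact hb r.1 r.2
  refine ⟨H.G k, inferInstance, inferInstance, H.prop k, H.g k, fun l => H.f u (x l),
    fun r hr => ?_, fun l => by rw [H.g_f, hx]⟩
  have h2 := hu ⟨r, hr⟩
  rwa [← AlgHom.comp_apply, comp_aeval] at h2

theorem exists_model (E : Type u) [CommRing E] [Algebra A E] [Algebra.FinitePresentation A E] :
    ∃ (n : ℕ) (s : Finset (MvPolynomial (Fin n) A)),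
      Nonempty ((MvPolynomial (Fin n) A ⧸ Ideal.span (s : Set (MvPolynomial (Fin n) A))) ≃ₐ[A] E) := by
  obtain ⟨n, π, hπ, s, hs⟩ := (‹Algebra.FinitePresentation A E›).out
  exact ⟨n, s, ⟨(Ideal.quotientEquivAlgOfEq A (hs.trans rfl)).trans
    (Ideal.quotientKerAlgEquivOfSurjective hπ)⟩⟩

variable (A B P) in
/-- Index objects: presented algebras with property `P` over `B`. -/
structure Obj : Type u where
  n : ℕ
  s : Finset (MvPolynomial (Fin n) A)
  prop : P (MvPolynomial (Fin n) A ⧸ Ideal.span (s : Set (MvPolynomial (Fin n) A)))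
  hom : (MvPolynomial (Fin n) A ⧸ Ideal.span (s : Set (MvPolynomial (Fin n) A))) →ₐ[A] B

/-- The ring of an index object. -/
abbrev Obj.Ring (i : Obj A B P) : Type u :=
  MvPolynomial (Fin i.n) A ⧸ Ideal.span (i.s : Set (MvPolynomial (Fin i.n) A))

/-- Morphisms of index objects. -/
def Obj.Hom (i j : Obj A B P) : Type u :=
  {φ : i.Ring →ₐ[A] j.Ring // j.hom.comp φ = i.hom}

noncomputable instance : SmallCategory (Obj A B P) where
  Hom := Obj.Hom
  id i := ⟨AlgHom.id A _, AlgHom.comp_id _⟩
  comp u v := ⟨v.1.comp u.1, by rw [← AlgHom.comp_assoc, v.2, u.2]⟩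
  id_comp u := Subtype.ext (AlgHom.comp_id _)
  comp_id u := Subtype.ext (AlgHom.id_comp _)
  assoc u v w := Subtype.ext (AlgHom.comp_assoc _ _ _).symm

/-- The generators of an index object. -/
noncomputable def Obj.gen (i : Obj A B P) (l : Fin i.n) : i.Ring := Ideal.Quotient.mk _ (X l)

theorem Obj.aeval_gen (i : Obj A B P) (p : MvPolynomial (Fin i.n) A) :
    aeval i.gen p = Ideal.Quotient.mk (Ideal.span (i.s : Set (MvPolynomial (Fin i.n) A))) p := by
  have : aeval i.gen = Ideal.Quotient.mkₐ A (Ideal.span (i.s : Set (MvPolynomial (Fin i.n) A))) :=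
    algHom_ext fun l => by simp [Obj.gen]
  exact AlgHom.congr_fun this p

theorem Obj.aeval_gen_rel (i : Obj A B P) {r : MvPolynomial (Fin i.n) A} (hr : r ∈ i.s) :
    aeval i.gen r = 0 := by
  rw [i.aeval_gen]; exact Ideal.Quotient.eq_zero_iff_mem.mpr (Ideal.subset_span hr)

theorem Obj.aeval_hom_gen (i : Obj A B P) (p : MvPolynomial (Fin i.n) A) :
    aeval (fun l => i.hom (i.gen l)) p = i.hom (aeval i.gen p) := by
  rw [← AlgHom.comp_apply, comp_aeval]

theorem Obj.ext_gen (i : Obj A B P) {R : Type u} [CommRing R] [Algebra A R]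
    {φ φ' : i.Ring →ₐ[A] R} (h : ∀ l, φ (i.gen l) = φ' (i.gen l)) : φ = φ' :=
  Ideal.Quotient.algHom_ext _ (algHom_ext h)

/-- Maps out of an index object. -/
theorem Obj.exists_lift (i : Obj A B P) {R : Type u} [CommRing R] [Algebra A R] (x : Fin i.n → R)
    (hx : ∀ r ∈ i.s, aeval x r = 0) : ∃ φ : i.Ring →ₐ[A] R, ∀ l, φ (i.gen l) = x l := by
  refine ⟨Ideal.Quotient.liftₐ _ (aeval x) fun p hp =>
    (Ideal.span_le.mpr (fun r hr => hx r hr) hp : p ∈ RingHom.ker (aeval x)), fun l => ?_⟩
  exact aeval_X x l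

theorem Obj.exists_of (hF : Factors A B P)
    (hfp : ∀ (R : Type u) [CommRing R] [Algebra A R], P R → Algebra.FinitePresentation A R)
    (hiso : ∀ (R S : Type u) [CommRing R] [Algebra A R] [CommRing S] [Algebra A S],
      (R ≃ₐ[A] S) → P R → P S)
    {n : ℕ} (s : Finset (MvPolynomial (Fin n) A)) (b : Fin n → B)
    (hb : ∀ r ∈ s, aeval b r = 0) :
    ∃ (k : Obj A B P) (x : Fin n → k.Ring), (∀ r ∈ s, aeval x r = 0) ∧
      ∀ l, k.hom (x l) = b l := by
  obtain ⟨E, _, _, hE, ψ, x, hx, hxb⟩ := hF n s b hb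
  have := hfp E hE
  obtain ⟨m, t, ⟨e⟩⟩ := exists_model (A := A) E
  refine ⟨⟨m, t, hiso _ _ e.symm hE, ψ.comp e.toAlgHom⟩, fun l => e.symm (x l), fun r hr => ?_,
    fun l => ?_⟩
  · change aeval (fun l => e.symm.toAlgHom (x l)) r = 0
    rw [← comp_aeval, AlgHom.comp_apply, hx r hr, map_zero]
  · change ψ (e (e.symm (x l))) = b l
    rw [AlgEquiv.apply_symm_apply, hxb]

/-- The factorization criterion. -/
theorem Factors.nonempty_pres (hF : Factors A B P)
    (hfp : ∀ (R : Type u) [CommRing R] [Algebra A R], P R → Algebra.FinitePresentation A R)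
    (hiso : ∀ (R S : Type u) [CommRing R] [Algebra A R] [CommRing S] [Algebra A S],
      (R ≃ₐ[A] S) → P R → P S) : Nonempty (Pres A B P) := by
  classical
  have mk := @Obj.exists_of A B _ _ _ P hF hfp hiso
  have : IsFiltered (Obj A B P) := by
    refine { cocone_objs := fun i j => ?_, cocone_maps := fun i j u v => ?_, nonempty := ?_ }
    · obtain ⟨k, x, hx, hxb⟩ := mk (i.s.image (rename (Fin.castAdd j.n)) ∪
          j.s.image (rename (Fin.natAdd i.n)))
        (Fin.append (fun l => i.hom (i.gen l)) (fun l => j.hom (j.gen l))) (by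
          intro r hr
          rcases Finset.mem_union.mp hr with h | h
          · obtain ⟨r, hr', rfl⟩ := Finset.mem_image.mp h
            rw [aeval_rename]
            simp only [Function.comp_def, Fin.append_left]
            rw [i.aeval_hom_gen, i.aeval_gen_rel hr', map_zero]
          · obtain ⟨r, hr', rfl⟩ := Finset.mem_image.mp h
            rw [aeval_rename]
            simp only [Function.comp_def, Fin.append_right]
            rw [j.aeval_hom_gen, j.aeval_gen_rel hr', map_zero])
      obtain ⟨φ, hφ⟩ := i.exists_lift (fun l => x (Fin.castAdd j.n l)) fun r hr => by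
        have := hx _ (Finset.mem_union_left _ (Finset.mem_image_of_mem _ hr))
        rwa [aeval_rename] at this
      obtain ⟨φ', hφ'⟩ := j.exists_lift (fun l => x (Fin.natAdd i.n l)) fun r hr => by
        have := hx _ (Finset.mem_union_right _ (Finset.mem_image_of_mem _ hr))
        rwa [aeval_rename] at this
      refine ⟨k, ⟨φ, i.ext_gen fun l => ?_⟩, ⟨φ', j.ext_gen fun l => ?_⟩, trivial⟩
      · rw [AlgHom.comp_apply, hφ, hxb, Fin.append_left]
      · rw [AlgHom.comp_apply, hφ', hxb, Fin.append_right]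
    · choose p hp using fun l => Ideal.Quotient.mk_surjective (u.1 (i.gen l))
      choose q hq using fun l => Ideal.Quotient.mk_surjective (v.1 (i.gen l))
      obtain ⟨k, x, hx, hxb⟩ := mk (j.s ∪ Finset.univ.image (fun l => p l - q l))
        (fun l => j.hom (j.gen l)) (by
          intro r hr
          rcases Finset.mem_union.mp hr with h | h
          · rw [j.aeval_hom_gen, j.aeval_gen_rel h, map_zero]
          · obtain ⟨l, -, rfl⟩ := Finset.mem_image.mp h
            rw [j.aeval_hom_gen, j.aeval_gen, map_sub, hp, hq, map_sub, ← AlgHom.comp_apply,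
              u.2, ← AlgHom.comp_apply, v.2, sub_self])
      obtain ⟨φ, hφ⟩ := j.exists_lift x fun r hr => hx r (Finset.mem_union_left _ hr)
      have hmk : ∀ p, φ (Ideal.Quotient.mk _ p) = aeval x p := fun p => by
        rw [← j.aeval_gen, ← AlgHom.comp_apply, comp_aeval,
          show (fun l => φ (j.gen l)) = x from funext hφ]
      refine ⟨k, ⟨φ, j.ext_gen fun l => ?_⟩, Subtype.ext (i.ext_gen fun l => ?_)⟩
      · rw [AlgHom.comp_apply, hφ, hxb]
      · change φ (u.1 (i.gen l)) = φ (v.1 (i.gen l))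
        rw [← hp, ← hq, hmk, hmk, ← sub_eq_zero, ← map_sub]
        exact hx _ (Finset.mem_union_right _ (Finset.mem_image_of_mem _ (Finset.mem_univ l)))
    · obtain ⟨k, -, -, -⟩ := mk (n := 0) ∅ Fin.elim0 (by simp)
      exact ⟨k⟩
  refine ⟨
    { J := Obj A B P
      G := Obj.Ring
      f := fun {i j} (u : Obj.Hom i j) => u.1
      f_id := fun i x => rfl
      f_comp := fun u v x => rfl
      g := Obj.hom
      g_f := fun {i j} (u : Obj.Hom i j) x => AlgHom.congr_fun u.2 x
      surj := fun b => by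
        obtain ⟨k, x, -, hxb⟩ := mk (n := 1) ∅ (fun _ => b) (by simp)
        exact ⟨k, x 0, hxb 0⟩
      eq := fun i x y h => ?_
      prop := fun i => i.prop }⟩
  obtain ⟨p, rfl⟩ := Ideal.Quotient.mk_surjective x
  obtain ⟨q, rfl⟩ := Ideal.Quotient.mk_surjective y
  obtain ⟨k, z, hz, hzb⟩ := mk (insert (p - q) i.s) (fun l => i.hom (i.gen l)) (by
    intro r hr
    rcases Finset.mem_insert.mp hr with rfl | hr
    · rw [i.aeval_hom_gen, map_sub, i.aeval_gen, i.aeval_gen, map_sub, h, sub_self]
    · rw [i.aeval_hom_gen, i.aeval_gen_rel hr, map_zero])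
  obtain ⟨φ, hφ⟩ := i.exists_lift z fun r hr => hz r (Finset.mem_insert_of_mem hr)
  have hmk : ∀ p, φ (Ideal.Quotient.mk _ p) = aeval z p := fun p => by
    rw [← i.aeval_gen, ← AlgHom.comp_apply, comp_aeval,
      show (fun l => φ (i.gen l)) = z from funext hφ]
  refine ⟨k, ⟨φ, i.ext_gen fun l => ?_⟩, ?_⟩
  · rw [AlgHom.comp_apply, hφ, hzb]
  · change φ _ = φ _
    rw [hmk, hmk, ← sub_eq_zero, ← map_sub]
    exact hz _ (Finset.mem_insert_self _ _)

end Groth.EtaleDeep.IndEt
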