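import Groth.Agent.EtaleDeep.IndEt.EtaleHull
import Groth.Prelude.Def_ProEtW

/-!
# An ind-etale extension over which etale covers split
-/

set_option autoImplicit false
set_option linter.style.haveILetI false

universe u

open CategoryTheory TensorProduct

namespace Groth.EtaleDeep.IndEt

/-- A faithfully flat ind-etale algebra. -/
structure HullStage (A : Type u) [CommRing A] : Type (u + 1) where
  C : Type u
  [ring : CommRing C]
  [alg : Algebra A C]
  ind : EtPBC.IsIndEtale A C
  ff : Module.FaithfullyFlat A C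

attribute [instance] HullStage.ring HullStage.alg

variable {A : Type u} [CommRing A]

theorem exists_succ (S : HullStage A) : ∃ (S' : HullStage A) (f : S.C →ₐ[A] S'.C),
    (letI := f.toRingHom.toAlgebra; Module.FaithfullyFlat S.C S'.C) ∧
    ∀ (E : Type u) [CommRing E] [Algebra S.C E], Algebra.Etale S.C E →
      Module.FaithfullyFlat S.C E → ∃ ψ : E →+* S'.C, ψ.comp (algebraMap S.C E) = f.toRingHom := by
  obtain ⟨T, _, _, hind, hff, hT⟩ := exists_hull S.C
  letI : Algebra A T := ((algebraMap S.C T).comp (algebraMap A S.C)).toAlgebra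
  have : IsScalarTower A S.C T := IsScalarTower.of_algebraMap_eq fun _ => rfl
  have := S.ff
  refine ⟨⟨T, isIndEtale_trans S.ind hind, Module.FaithfullyFlat.trans A S.C T⟩,
    IsScalarTower.toAlgHom A S.C T, ?_, fun E _ _ h h' => ?_⟩
  · change @Module.FaithfullyFlat S.C T _ _
      (IsScalarTower.toAlgHom A S.C T).toRingHom.toAlgebra.toModule
    convert hff using 2
    exact Algebra.algebra_ext _ _ fun _ => rfl
  · obtain ⟨e⟩ := hT E h h'
    exact ⟨e.toRingHom, e.comp_algebraMap⟩

theorem exists_closure (A : Type u) [CommRing A] :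
    ∃ (C : Type u) (_ : CommRing C) (_ : Algebra A C),
      Module.FaithfullyFlat A C ∧ EtPBC.IsIndEtale A C ∧ ProEtW.HasEtaleRetractions C := by
  classical
  choose nx step hstep hnx using exists_succ (A := A)
  let S : ℕ → HullStage A := fun n => Nat.rec (motive := fun _ => HullStage A)
    ⟨A, isIndEtale_iff_factors.2 fun n s b hb =>
      ⟨A, inferInstance, inferInstance, inferInstance, AlgHom.id A A, b, hb, fun _ => rfl⟩,
      inferInstance⟩ (fun _ S => nx S) n
  let φ : ∀ {i j : ℕ}, i ≤ j → ((S i).C →ₐ[A] (S j).C) := fun {i j} h =>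
    @Nat.leRec i (fun j _ => (S i).C →ₐ[A] (S j).C) (AlgHom.id A (S i).C)
      (fun k _ acc => (step (S k)).comp acc) j h
  have φ_self : ∀ i, φ (le_refl i) = AlgHom.id A _ := fun i => Nat.leRec_self _ _
  have φ_succ : ∀ {i j : ℕ} (h : i ≤ j), φ (h.trans j.le_succ) = (step (S j)).comp (φ h) :=
    fun h => Nat.leRec_succ _ _ h
  have φ_comp : ∀ {i j k : ℕ} (h : i ≤ j) (h' : j ≤ k), φ (h.trans h') = (φ h').comp (φ h) := by
    intro i j k h h'
    induction h' with
    | refl => rw [φ_self]; rfl
    | step h'' ih => rw [φ_succ (h.trans h''), φ_succ h'', ih]; rfl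
  have φ_ff : ∀ {i j : ℕ} (h : i ≤ j),
      letI := (φ h).toRingHom.toAlgebra; Module.FaithfullyFlat (S i).C (S j).C := by
    intro i j h
    induction h with
    | refl =>
      rw [φ_self]
      exact inferInstanceAs (Module.FaithfullyFlat (S i).C (S i).C)
    | step h ih =>
      rename_i j
      letI := (φ h).toRingHom.toAlgebra
      letI : Algebra (S j).C (S (j + 1)).C := (step (S j)).toRingHom.toAlgebra
      letI : Algebra (S i).C (S (j + 1)).C := (φ (Nat.le_trans h j.le_succ)).toRingHom.toAlgebra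
      have : IsScalarTower (S i).C (S j).C (S (j + 1)).C :=
        IsScalarTower.of_algebraMap_eq fun x => AlgHom.congr_fun (φ_succ h) x
      have : Module.FaithfullyFlat (S i).C (S j).C := ih
      have : Module.FaithfullyFlat (S j).C (S (j + 1)).C := hstep (S j)
      exact Module.FaithfullyFlat.trans (S i).C (S j).C (S (j + 1)).C
  have down : ∀ {i j : ULift.{u} ℕ}, (i ⟶ j) → i.down ≤ j.down := fun {i j} u =>
    (leOfHom u : i ≤ j)
  obtain ⟨C, _, _, g, hg, hsurj, heq, -⟩ := exists_colim (A := A) (J := ULift.{u} ℕ)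
    (P := fun _ _ _ => True) (fun j => (S j.down).C) (fun {i j} u => φ (down u))
    (fun i x => AlgHom.congr_fun (φ_self _) x)
    (fun {i j k} u v x => AlgHom.congr_fun (φ_comp (down u) (down v)) x) (fun _ => trivial)
  let H : Pres A C (fun R _ _ => EtPBC.IsIndEtale A R ∧ Module.FaithfullyFlat A R) :=
    { J := ULift.{u} ℕ, G := fun j => (S j.down).C, f := fun {i j} u => φ (down u)
      f_id := fun i x => AlgHom.congr_fun (φ_self _) x
      f_comp := fun {i j k} u v x => AlgHom.congr_fun (φ_comp (down u) (down v)) x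
      g := g, g_f := hg, surj := hsurj, eq := heq
      prop := fun j => ⟨(S j.down).ind, (S j.down).ff⟩ }
  refine ⟨C, inferInstance, inferInstance, faithfullyFlat_of_pres H fun j => (H.prop j).2,
    isIndEtale_iff_factors.2 fun n s b hb => ?_, fun E _ _ hE hEt => ?_⟩
  · obtain ⟨j, -, x, hx⟩ := H.surj_fintype H.nonempty.some b
    obtain ⟨k, v, hv⟩ := H.zero_fintype j (fun r : s => MvPolynomial.aeval x r.1) fun r => by
      rw [← AlgHom.comp_apply, MvPolynomial.comp_aeval,
        show (fun l => H.g j (x l)) = b from funext hx]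
      exact hb r.1 r.2
    obtain ⟨R, _, _, hR, χ, y, hy, hyx⟩ := isIndEtale_iff_factors.1 (H.prop k).1 n s
      (fun l => H.f v (x l)) fun r hr => by
        rw [← MvPolynomial.comp_aeval_apply]
        exact hv ⟨r, hr⟩
    exact ⟨R, _, _, hR, (H.g k).comp χ, y, hy, fun l => by
      rw [AlgHom.comp_apply, hyx, H.g_f, hx]⟩
  obtain ⟨i, E₁, _, _, hE₁, he⟩ := H.exists_etale_model E
  letI : Algebra (H.G i) C := (H.g i).toRingHom.toAlgebra
  obtain ⟨e⟩ := he
  have hCi : Module.FaithfullyFlat (H.G i) C := by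
    refine faithfullyFlat_of_pres
      (P := fun R _ _ => Module.FaithfullyFlat (H.G i) R)
      { H.under i (fun _ => rfl) with prop := fun k => φ_ff (down k.hom) } fun k => ?_
    exact φ_ff (down k.hom)
  have : Module.FaithfullyFlat (H.G i) E₁ := by
    have := hE₁
    have : Module.Flat (H.G i) E₁ := Algebra.Smooth.flat _ _
    refine Module.FaithfullyFlat.of_comap_surjective fun p => ?_
    obtain ⟨q, hq⟩ := PrimeSpectrum.comap_surjective_of_faithfullyFlat (A := H.G i) (B := C) p
    obtain ⟨r, hr⟩ := PrimeSpectrum.comap_surjective_of_faithfullyFlat (A := C) (B := E) q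
    let θ : E₁ →+* E := e.symm.toRingEquiv.toRingHom.comp
      (Algebra.TensorProduct.includeRight : E₁ →ₐ[H.G i] C ⊗[H.G i] E₁).toRingHom
    have hθ : θ.comp (algebraMap (H.G i) E₁) = (algebraMap C E).comp (algebraMap (H.G i) C) := by
      refine RingHom.ext fun x => ?_
      change e.symm ((Algebra.TensorProduct.includeRight :
        E₁ →ₐ[H.G i] C ⊗[H.G i] E₁) (algebraMap (H.G i) E₁ x)) = _
      rw [AlgHom.commutes]
      exact e.symm.commutes (algebraMap (H.G i) C x)
    refine ⟨PrimeSpectrum.comap θ r, ?_⟩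
    rw [← hq, ← hr, ← PrimeSpectrum.comap_comp_apply, ← PrimeSpectrum.comap_comp_apply, hθ]
  obtain ⟨ψ, hψ⟩ := hnx (S i.down) E₁ hE₁ this
  let i' : ULift.{u} ℕ := ⟨i.down + 1⟩
  let χ : E₁ →ₐ[H.G i] C :=
    { toRingHom := (g i').toRingHom.comp ψ
      commutes' := fun x => by
        change g i' (ψ (algebraMap (H.G i) E₁ x)) = g i x
        rw [← hg (homOfLE (show i ≤ i' from Nat.le_succ _)) x]
        refine congrArg (g i') ?_
        rw [show ψ (algebraMap (H.G i) E₁ x) = step (S i.down) x from RingHom.congr_fun hψ x]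
        change _ = φ ((le_refl i.down).trans (Nat.le_succ _)) x
        rw [φ_succ (le_refl i.down), φ_self]
        rfl }
  exact ⟨(Algebra.TensorProduct.lift (AlgHom.id C C) χ fun _ _ => Commute.all _ _).comp e.toAlgHom⟩

end Groth.EtaleDeep.IndEt
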