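import Groth.Agent.EtaleDeep.IndEt.Lift

/-!
# An ind-etale extension with retractions of etale covers
-/

set_option autoImplicit false
set_option linter.style.haveILetI false

universe u

open CategoryTheory MvPolynomial TensorProduct

namespace Groth.EtaleDeep.IndEt

variable {A : Type u} [CommRing A]

theorem faithfullyFlat_of_pres {B : Type u} [CommRing B] [Algebra A B]
    {P : ∀ (R : Type u) [CommRing R] [Algebra A R], Prop} (H : Pres A B P)
    (h : ∀ j, Module.FaithfullyFlat A (H.G j)) : Module.FaithfullyFlat A B := by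
  have := flat_of_pres H fun j => have := h j; inferInstance
  refine ⟨fun {m} hm htop => ?_⟩
  have htop' : m.map (algebraMap A B) = ⊤ := by
    rwa [Ideal.smul_top_eq_map, Submodule.restrictScalars_eq_top_iff] at htop
  have key : ∀ x ∈ m.map (algebraMap A B), ∃ (j : H.J) (y : H.G j),
      y ∈ m.map (algebraMap A (H.G j)) ∧ H.g j y = x := by
    intro x hx
    induction hx using Submodule.span_induction with
    | mem y hy =>
      obtain ⟨a, ha, rfl⟩ := hy
      exact ⟨H.nonempty.some, algebraMap A _ a, Ideal.mem_map_of_mem _ ha, AlgHom.commutes _ a⟩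
    | zero => exact ⟨H.nonempty.some, 0, zero_mem _, map_zero _⟩
    | add x y _ _ hx hy =>
      obtain ⟨i, x', hx', rfl⟩ := hx
      obtain ⟨j, y', hy', rfl⟩ := hy
      refine ⟨IsFiltered.max i j, H.f (IsFiltered.leftToMax i j) x' +
        H.f (IsFiltered.rightToMax i j) y', add_mem ?_ ?_, by rw [map_add, H.g_f, H.g_f]⟩
      · have h2 := Ideal.mem_map_of_mem (H.f (IsFiltered.leftToMax i j)).toRingHom hx'
        rw [Ideal.map_map] at h2
        exact (congrArg (fun r => m.map r) (H.f (IsFiltered.leftToMax i j)).comp_algebraMap) ▸ h2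
      · have h2 := Ideal.mem_map_of_mem (H.f (IsFiltered.rightToMax i j)).toRingHom hy'
        rw [Ideal.map_map] at h2
        exact (congrArg (fun r => m.map r) (H.f (IsFiltered.rightToMax i j)).comp_algebraMap) ▸ h2
    | smul r x _ hx =>
      obtain ⟨i, x', hx', rfl⟩ := hx
      obtain ⟨j, r', rfl⟩ := H.surj r
      refine ⟨IsFiltered.max i j, H.f (IsFiltered.rightToMax i j) r' *
        H.f (IsFiltered.leftToMax i j) x', Ideal.mul_mem_left _ _ ?_, by
          rw [map_mul, H.g_f, H.g_f]; rfl⟩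
      have h2 := Ideal.mem_map_of_mem (H.f (IsFiltered.leftToMax i j)).toRingHom hx'
      rw [Ideal.map_map] at h2
      exact (congrArg (fun r => m.map r) (H.f (IsFiltered.leftToMax i j)).comp_algebraMap) ▸ h2
  obtain ⟨j, y, hy, hy1⟩ := key 1 (htop' ▸ Submodule.mem_top)
  obtain ⟨k, u, hu⟩ := H.eq j y 1 (by rw [hy1, map_one])
  have h2 := Ideal.mem_map_of_mem (H.f u).toRingHom hy
  rw [Ideal.map_map] at h2
  have h3 : (1 : H.G k) ∈ m.map (algebraMap A (H.G k)) := by
    have h4 := (congrArg (fun r => m.map r) (H.f u).comp_algebraMap) ▸ h2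
    change H.f u y ∈ m.map (algebraMap A (H.G k)) at h4
    rwa [hu, map_one] at h4
  have := h k
  refine hm.ne_top ?_
  rw [← Ideal.comap_map_eq_self_of_faithfullyFlat (B := H.G k) m, (Ideal.eq_top_iff_one _).2 h3,
    Ideal.comap_top]

/-- Finitely presented faithfully flat etale algebras. -/
structure Cover (A : Type u) [CommRing A] : Type u where
  n : ℕ
  s : Finset (MvPolynomial (Fin n) A)
  etale : Algebra.Etale A (MvPolynomial (Fin n) A ⧸ Ideal.span (s : Set (MvPolynomial (Fin n) A)))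
  ff : Module.FaithfullyFlat A (MvPolynomial (Fin n) A ⧸ Ideal.span (s : Set (MvPolynomial (Fin n) A)))

/-- The ring of a cover. -/
abbrev Cover.Ring (l : Cover A) : Type u :=
  MvPolynomial (Fin l.n) A ⧸ Ideal.span (l.s : Set (MvPolynomial (Fin l.n) A))

/-- The variables of finitely many covers. -/
abbrev Vars (F : Finset (Cover A)) : Type u := Σ l : F, Fin l.1.n

/-- The relations of finitely many covers. -/
def relsOf (F : Finset (Cover A)) : Set (MvPolynomial (Vars F) A) :=
  ⋃ l : F, rename (fun k => (⟨l, k⟩ : Vars F)) '' (l.1.s : Set (MvPolynomial (Fin l.1.n) A))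

/-- The tensor product of finitely many covers. -/
abbrev Prod' (F : Finset (Cover A)) : Type u := MvPolynomial (Vars F) A ⧸ Ideal.span (relsOf F)

/-- The map from one of the covers. -/
theorem exists_toProd (F : Finset (Cover A)) (l : F) :
    ∃ φ : l.1.Ring →ₐ[A] Prod' F, ∀ k, φ (Ideal.Quotient.mk _ (X k)) = Ideal.Quotient.mk _ (X ⟨l, k⟩) := by
  refine ⟨Ideal.Quotient.liftₐ _ ((Ideal.Quotient.mkₐ A _).comp (rename fun k => (⟨l, k⟩ : Vars F)))
    fun x hx => ?_, fun k => ?_⟩
  · refine (Ideal.span_le.2 ?_ hx : x ∈ RingHom.ker ((Ideal.Quotient.mkₐ A (Ideal.span (relsOf F))).comp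
      (rename fun k => (⟨l, k⟩ : Vars F))))
    intro r hr
    exact Ideal.Quotient.eq_zero_iff_mem.2 (Ideal.subset_span (Set.mem_iUnion.2 ⟨l, r, hr, rfl⟩))
  · change Ideal.Quotient.mk _ (rename (fun k => (⟨l, k⟩ : Vars F)) (X k)) = _
    rw [rename_X]

theorem exists_fromProd (F : Finset (Cover A)) {R : Type u} [CommRing R] [Algebra A R]
    (ψ : ∀ l : F, l.1.Ring →ₐ[A] R) :
    ∃ φ : Prod' F →ₐ[A] R, ∀ x : Vars F, φ (Ideal.Quotient.mk _ (X x)) =
      ψ x.1 (Ideal.Quotient.mk _ (X x.2)) := by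
  refine ⟨Ideal.Quotient.liftₐ _ (aeval fun x : Vars F => ψ x.1 (Ideal.Quotient.mk _ (X x.2)))
    fun x hx => ?_, fun x => aeval_X _ x⟩
  refine (Ideal.span_le.2 ?_ hx : x ∈ RingHom.ker
    (aeval fun x : Vars F => ψ x.1 (Ideal.Quotient.mk _ (X x.2))))
  intro r hr
  obtain ⟨l, r, hr', rfl⟩ := Set.mem_iUnion.1 hr
  change aeval _ (rename _ r) = 0
  rw [aeval_rename]
  have : (aeval fun k => ψ l (Ideal.Quotient.mk _ (X k))) =
      (ψ l).comp (Ideal.Quotient.mkₐ A (Ideal.span (l.1.s : Set (MvPolynomial (Fin l.1.n) A)))) :=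
    algHom_ext fun k => by simp
  refine (AlgHom.congr_fun this r).trans ?_
  change ψ l (Ideal.Quotient.mk _ r) = 0
  rw [Ideal.Quotient.eq_zero_iff_mem.2 (Ideal.subset_span hr'), map_zero]

theorem prod_hom_ext (F : Finset (Cover A)) {R : Type u} [CommRing R] [Algebra A R]
    {φ φ' : Prod' F →ₐ[A] R} (h : ∀ x, φ (Ideal.Quotient.mk _ (X x)) = φ' (Ideal.Quotient.mk _ (X x))) :
    φ = φ' :=
  Ideal.Quotient.algHom_ext _ (algHom_ext h)

theorem formallyEtale_prod (F : Finset (Cover A)) : Algebra.FormallyEtale A (Prod' F) := by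
  rw [Algebra.FormallyEtale.iff_comp_bijective]
  intro R _ _ I hI
  choose t ht using exists_toProd F
  constructor
  · intro φ φ' h
    refine prod_hom_ext F fun x => ?_
    have := x.1.1.etale
    have h2 := (Algebra.FormallyEtale.comp_bijective (R := A) (A := x.1.1.Ring) I hI).1
      (a₁ := φ.comp (t x.1)) (a₂ := φ'.comp (t x.1)) (by
        rw [← AlgHom.comp_assoc, h, AlgHom.comp_assoc])
    have h3 := AlgHom.congr_fun h2 (Ideal.Quotient.mk _ (X x.2))
    rwa [AlgHom.comp_apply, AlgHom.comp_apply, ht] at h3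
  · intro φ
    have hl : ∀ l : F, ∃ ψ : l.1.Ring →ₐ[A] R, (Ideal.Quotient.mkₐ A I).comp ψ = φ.comp (t l) :=
      fun l => by
        have := l.1.etale
        exact (Algebra.FormallyEtale.comp_bijective (R := A) (A := l.1.Ring) I hI).2 (φ.comp (t l))
    choose ψ hψ using hl
    obtain ⟨φ', hφ'⟩ := exists_fromProd F ψ
    refine ⟨φ', prod_hom_ext F fun x => ?_⟩
    have h3 := AlgHom.congr_fun (hψ x.1) (Ideal.Quotient.mk _ (X x.2))
    rw [AlgHom.comp_apply, AlgHom.comp_apply, ht] at h3
    rw [AlgHom.comp_apply, hφ']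
    exact h3

theorem etale_prod' (F : Finset (Cover A)) : Algebra.Etale A (Prod' F) := by
  classical
  have := formallyEtale_prod F
  have hfin : (relsOf F).Finite := Set.finite_iUnion fun l => l.1.s.finite_toSet.image _
  have : Algebra.FinitePresentation A (Prod' F) :=
    Algebra.FinitePresentation.quotient (Submodule.fg_span hfin)
  exact ⟨inferInstance, inferInstance⟩

theorem exists_algHom_algClosed (κ : Type u) [Field κ] (K : Type u) [Field K] [Algebra κ K]
    [IsAlgClosed K] (T : Type u) [CommRing T] [Algebra κ T] [Algebra.FiniteType κ T] [Nontrivial T] :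
    Nonempty (T →ₐ[κ] K) := by
  obtain ⟨M, hM⟩ := Ideal.exists_maximal T
  letI := Ideal.Quotient.field M
  have : Module.Finite κ (T ⧸ M) := finite_of_finite_type_of_isJacobsonRing κ _
  have : Algebra.IsAlgebraic κ (T ⧸ M) := Algebra.IsAlgebraic.of_finite _ _
  let j : T ⧸ M →ₐ[κ] K := IsAlgClosed.lift
  exact ⟨j.comp (Ideal.Quotient.mkₐ κ M)⟩

theorem faithfullyFlat_prod' (F : Finset (Cover A)) : Module.FaithfullyFlat A (Prod' F) := by
  have := etale_prod' F
  have : Module.Flat A (Prod' F) := Algebra.Smooth.flat A (Prod' F)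
  refine Module.FaithfullyFlat.of_comap_surjective fun p => ?_
  let κ := p.asIdeal.ResidueField
  let K := AlgebraicClosure κ
  have hψ : ∀ l : F, ∃ ψ : l.1.Ring →ₐ[A] K, True := by
    intro l
    have := l.1.ff
    obtain ⟨q, hq⟩ := PrimeSpectrum.comap_surjective_of_faithfullyFlat (A := A) (B := l.1.Ring) p
    have hq' : q.asIdeal.comap (algebraMap A l.1.Ring) = p.asIdeal := congrArg PrimeSpectrum.asIdeal hq
    have : Nontrivial (κ ⊗[A] l.1.Ring) := by
      exact (Algebra.TensorProduct.lift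
        (Ideal.ResidueField.mapₐ p.asIdeal q.asIdeal (Algebra.ofId A l.1.Ring) hq'.symm)
        (IsScalarTower.toAlgHom A l.1.Ring q.asIdeal.ResidueField)
        fun _ _ => Commute.all _ _).toRingHom.domain_nontrivial
    have := l.1.etale
    obtain ⟨j⟩ := exists_algHom_algClosed κ K (κ ⊗[A] l.1.Ring)
    exact ⟨(j.restrictScalars A).comp Algebra.TensorProduct.includeRight, trivial⟩
  choose ψ hψ using hψ
  obtain ⟨φ, -⟩ := exists_fromProd F ψ
  refine ⟨⟨RingHom.ker φ, RingHom.ker_isPrime φ.toRingHom⟩, PrimeSpectrum.ext ?_⟩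
  change (RingHom.ker φ).comap (algebraMap A (Prod' F)) = p.asIdeal
  rw [show (RingHom.ker φ).comap (algebraMap A (Prod' F)) = RingHom.ker (algebraMap A K) from
    Ideal.ext fun a => by simp [RingHom.mem_ker],
    IsScalarTower.algebraMap_eq A κ K, RingHom.ker_comp_of_injective _ (RingHom.injective _)]
  exact Ideal.ker_algebraMap_residueField _

theorem exists_hull (A : Type u) [CommRing A] :
    ∃ (T : Type u) (_ : CommRing T) (_ : Algebra A T), EtPBC.IsIndEtale A T ∧
      Module.FaithfullyFlat A T ∧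
      ∀ (E : Type u) [CommRing E] [Algebra A E], Algebra.Etale A E → Module.FaithfullyFlat A E →
        Nonempty (E →ₐ[A] T) := by
  classical
  have hmap : ∀ {F F' : Finset (Cover A)} (h : F ⊆ F'), ∃ φ : Prod' F →ₐ[A] Prod' F',
      ∀ x : Vars F, φ (Ideal.Quotient.mk _ (X x)) = Ideal.Quotient.mk _ (X ⟨⟨x.1.1, h x.1.2⟩, x.2⟩) := by
    intro F F' h
    choose t ht using exists_toProd F'
    obtain ⟨φ, hφ⟩ := exists_fromProd F (R := Prod' F') fun l => t ⟨l.1, h l.2⟩
    exact ⟨φ, fun x => by rw [hφ, ht]⟩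
  choose f hf using @hmap
  obtain ⟨T, _, _, g, hg, hsurj, heq, ⟨H⟩⟩ := exists_colim (A := A) (J := Finset (Cover A))
    (P := fun R _ _ => Algebra.Etale A R ∧ Module.FaithfullyFlat A R) (fun F => Prod' F)
    (fun {F F'} u => f (leOfHom u))
    (fun F x => by
      rw [show f (leOfHom (𝟙 F)) = AlgHom.id A _ from prod_hom_ext F fun y => by rw [hf]; rfl]
      rfl)
    (fun {F F' F''} u v x => by
      refine AlgHom.congr_fun (φ₂ := (f (leOfHom v)).comp (f (leOfHom u))) (prod_hom_ext F fun y => ?_) x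
      rw [AlgHom.comp_apply, hf, hf, hf])
    (fun F => ⟨etale_prod' F, faithfullyFlat_prod' F⟩)
  refine ⟨T, inferInstance, inferInstance, isIndEtale_iff.2 ⟨H.mono fun R _ _ h => h.1⟩,
    faithfullyFlat_of_pres H fun j => (H.prop j).2, fun E _ _ hE hff => ?_⟩
  have := hE
  obtain ⟨n, s, ⟨e⟩⟩ := exists_model (A := A) E
  have := hff
  let l : Cover A := ⟨n, s, Algebra.Etale.of_equiv e.symm,
    Module.FaithfullyFlat.of_linearEquiv A E e.toLinearEquiv⟩
  obtain ⟨t, -⟩ := exists_toProd ({l} : Finset (Cover A)) ⟨l, Finset.mem_singleton_self l⟩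
  exact ⟨((g {l}).comp t).comp e.symm.toAlgHom⟩

end Groth.EtaleDeep.IndEt
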