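import Groth.Agent.EtaleDeep.IndEt.Enlarge

/-!
# Lifting weakly etale w-contractible algebras along closed immersions
-/

set_option autoImplicit false
set_option linter.style.haveILetI false

universe u

open CategoryTheory TensorProduct

namespace Groth.EtaleDeep.IndEt

/-- Maps from etale algebras to `B` lift uniquely along `φ`. -/
def Lifts (A : Type u) {C B : Type u} [CommRing A] [CommRing C] [CommRing B] [Algebra A C]
    [Algebra A B] (φ : C →ₐ[A] B) : Prop :=
  ∀ (E : Type u) [CommRing E] [Algebra A E], Algebra.Etale A E →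
    Function.Bijective (fun s : E →ₐ[A] C => φ.comp s)

variable {A C B : Type u} [CommRing A] [CommRing C] [CommRing B] [Algebra A C] [Algebra A B]

/-- Maps from ind-etale algebras lift uniquely. -/
theorem Lifts.bijective_indEtale {φ : C →ₐ[A] B} (hφ : Lifts A φ) {D : Type u} [CommRing D]
    [Algebra A D] (hD : EtPBC.IsIndEtale A D) :
    Function.Bijective (fun s : D →ₐ[A] C => φ.comp s) := by
  obtain ⟨H⟩ := isIndEtale_iff.mp hD
  constructor
  · intro s t hst
    refine AlgHom.ext fun d => ?_
    obtain ⟨j, x, rfl⟩ := H.surj d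
    have := H.prop j
    exact AlgHom.congr_fun ((hφ (H.G j) inferInstance).1 (a₁ := s.comp (H.g j))
      (a₂ := t.comp (H.g j)) (AlgHom.ext fun y => AlgHom.congr_fun hst (H.g j y))) x
  · intro ψ
    choose s hs using fun j => (hφ (H.G j) (H.prop j)).2 (ψ.comp (H.g j))
    obtain ⟨S, hS⟩ := exists_desc (A := A) (f := H.f) H.g H.g_f H.surj H.eq s (fun {i j} u x =>
      AlgHom.congr_fun ((hφ (H.G i) (H.prop i)).1 (a₁ := (s j).comp (H.f u)) (a₂ := s i)
        (AlgHom.ext fun y => by
          refine (AlgHom.congr_fun (hs j) (H.f u y)).trans ?_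
          change ψ (H.g j (H.f u y)) = _
          rw [H.g_f]
          exact (AlgHom.congr_fun (hs i) y).symm)) x)
    refine ⟨S, AlgHom.ext fun d => ?_⟩
    obtain ⟨j, x, rfl⟩ := H.surj d
    exact (congrArg φ (hS j x)).trans (AlgHom.congr_fun (hs j) x)

variable [Algebra C B] [IsScalarTower A C B]

/-- Unique lifting passes to the algebra itself. -/
theorem lifts_self (hC : EtPBC.IsIndEtale A C)
    (hφ : Lifts A (IsScalarTower.toAlgHom A C B)) : Lifts C (Algebra.ofId C B) := by
  intro E _ _ hE
  obtain ⟨H⟩ := isIndEtale_iff.mp hC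
  obtain ⟨i, E₁, _, _, hE₁, he⟩ := H.exists_etale_model E
  letI : Algebra (H.G i) C := (H.g i).toRingHom.toAlgebra
  obtain ⟨e⟩ := he
  letI : Algebra A E₁ := ((algebraMap (H.G i) E₁).comp (algebraMap A (H.G i))).toAlgebra
  have : IsScalarTower A (H.G i) E₁ := IsScalarTower.of_algebraMap_eq fun _ => rfl
  have hE₁A : Algebra.Etale A E₁ :=
    have := H.prop i
    Algebra.Etale.comp A (H.G i) E₁
  let ι : E₁ →+* E := e.symm.toAlgHom.toRingHom.comp
    (Algebra.TensorProduct.includeRight : E₁ →ₐ[H.G i] C ⊗[H.G i] E₁).toRingHom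
  have hι : ∀ x, ι (algebraMap (H.G i) E₁ x) = algebraMap C E (H.g i x) := fun x => by
    change e.symm ((1 : C) ⊗ₜ[H.G i] algebraMap (H.G i) E₁ x) = _
    rw [← e.symm.commutes]
    congr 1
    rw [Algebra.algebraMap_eq_smul_one, tmul_smul, smul_tmul']
    simp [Algebra.smul_def, RingHom.algebraMap_toAlgebra]
  have hιA : ∀ a, ι (algebraMap A E₁ a) = algebraMap C E (algebraMap A C a) := fun a => by
    refine (hι (algebraMap A (H.G i) a)).trans ?_
    rw [AlgHom.commutes]
  have hext : ∀ {R : Type u} [CommRing R] [Algebra C R] (s t : E →ₐ[C] R),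
      (∀ y, s (ι y) = t (ι y)) → s = t := by
    intro R _ _ s t h
    refine AlgHom.ext fun z => ?_
    obtain ⟨w, rfl⟩ := e.symm.surjective z
    induction w using TensorProduct.induction_on with
    | zero => simp
    | tmul c y =>
      have h1 : c ⊗ₜ[H.G i] y = c • ((1 : C) ⊗ₜ[H.G i] y) := by
        rw [smul_tmul', smul_eq_mul, mul_one]
      rw [h1, map_smul, map_smul, map_smul]
      exact congrArg (c • ·) (h y)
    | add a b ha hb => simp only [map_add, ha, hb]
  constructor
  · intro s t hst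
    refine hext s t fun y => ?_
    let s₁ : E₁ →ₐ[A] C := AlgHom.mk (s.toRingHom.comp ι) fun a => by
      change s (ι (algebraMap A E₁ a)) = _
      rw [hιA, s.commutes]; rfl
    let t₁ : E₁ →ₐ[A] C := AlgHom.mk (t.toRingHom.comp ι) fun a => by
      change t (ι (algebraMap A E₁ a)) = _
      rw [hιA, t.commutes]; rfl
    exact AlgHom.congr_fun ((hφ E₁ hE₁A).1 (a₁ := s₁) (a₂ := t₁)
      (AlgHom.ext fun y => AlgHom.congr_fun hst (ι y))) y
  · intro ρ
    let ρ₁ : E₁ →ₐ[A] B := AlgHom.mk (ρ.toRingHom.comp ι) fun a => by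
      change ρ (ι (algebraMap A E₁ a)) = _
      rw [hιA, ρ.commutes, ← IsScalarTower.algebraMap_apply A C B]
    obtain ⟨s₁, hs₁⟩ := (hφ E₁ hE₁A).2 ρ₁
    have hk : s₁.comp (IsScalarTower.toAlgHom A (H.G i) E₁) = H.g i :=
      (hφ (H.G i) (H.prop i)).1 (AlgHom.ext fun x => by
        change algebraMap C B (s₁ (algebraMap (H.G i) E₁ x)) = algebraMap C B (H.g i x)
        refine (AlgHom.congr_fun hs₁ _).trans ?_
        change ρ (ι (algebraMap (H.G i) E₁ x)) = _
        rw [hι, ρ.commutes])
    let s₂ : E₁ →ₐ[H.G i] C := AlgHom.mk s₁.toRingHom fun x => AlgHom.congr_fun hk x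
    let s : E →ₐ[C] C := (Algebra.TensorProduct.lift (Algebra.ofId C C) s₂
      fun _ _ => Commute.all _ _).comp e.toAlgHom
    refine ⟨s, hext _ _ fun y => ?_⟩
    change algebraMap C B (s (ι y)) = ρ₁ y
    rw [← hs₁]
    change algebraMap C B (s (ι y)) = algebraMap C B (s₁ y)
    congr 1
    change (Algebra.TensorProduct.lift (Algebra.ofId C C) s₂ fun _ _ => Commute.all _ _)
      (e (e.symm ((1 : C) ⊗ₜ[H.G i] y))) = _
    rw [e.apply_symm_apply, Algebra.TensorProduct.lift_tmul, map_one, one_mul]
    rfl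

omit [Algebra A C] [Algebra A B] [IsScalarTower A C B] in
/-- Maps from weakly etale algebras to a w-contractible quotient lift. -/
theorem Lifts.exists_lift_weaklyEtale (h : Lifts C (Algebra.ofId C B))
    (hB : EtPBC.IsWContractible B) {D : Type u} [CommRing D] [Algebra C D]
    [Algebra.WeaklyEtale C D] (ρ : D →ₐ[C] B) :
    ∃ s : D →ₐ[C] C, (Algebra.ofId C B).comp s = ρ := by
  obtain ⟨D', _, _, _, _, hff, hindD, hindC⟩ := exists_indEtale_enlarge C D
  letI : Algebra D B := ρ.toRingHom.toAlgebra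
  have := weaklyEtale hindD
  have : Algebra.WeaklyEtale B (B ⊗[D] D') := inferInstance
  obtain ⟨r⟩ := hB (B ⊗[D] D') inferInstance inferInstance
  let r' : D' →ₐ[D] B := (r.restrictScalars D).comp Algebra.TensorProduct.includeRight
  let ρ' : D' →ₐ[C] B := AlgHom.mk r'.toRingHom fun c => by
    change r' (algebraMap C D' c) = _
    rw [IsScalarTower.algebraMap_apply C D D', r'.commutes]
    exact ρ.commutes c
  obtain ⟨s, hs⟩ := (h.bijective_indEtale hindC).2 ρ'
  refine ⟨s.comp (IsScalarTower.toAlgHom C D D'), AlgHom.ext fun d => ?_⟩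
  refine (AlgHom.congr_fun hs (algebraMap D D' d)).trans ?_
  exact r'.commutes d

omit [Algebra A C] [Algebra A B] [IsScalarTower A C B] in
/-- The lift is w-contractible. -/
theorem Lifts.isWContractible (h : Lifts C (Algebra.ofId C B)) (hB : EtPBC.IsWContractible B) :
    EtPBC.IsWContractible C := by
  intro D _ _ hff hwe
  have : Algebra.WeaklyEtale B (B ⊗[C] D) := inferInstance
  obtain ⟨r⟩ := hB (B ⊗[C] D) inferInstance inferInstance
  obtain ⟨s, -⟩ := h.exists_lift_weaklyEtale hB
    ((r.restrictScalars C).comp Algebra.TensorProduct.includeRight)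
  exact ⟨s⟩

/-- A weakly etale w-contractible algebra is ind-etale. -/
theorem isIndEtale_of_isWContractible {R S : Type u} [CommRing R] [CommRing S] [Algebra R S]
    [Algebra.WeaklyEtale R S] (hS : EtPBC.IsWContractible S) : EtPBC.IsIndEtale R S := by
  obtain ⟨B', _, _, _, _, hff, hindS, hindR⟩ := exists_indEtale_enlarge R S
  obtain ⟨r⟩ := hS B' hff (weaklyEtale hindS)
  rw [isIndEtale_iff_factors]
  intro n s b hb
  obtain ⟨E, _, _, hE, ψ, x, hx, hxb⟩ := isIndEtale_iff_factors.mp hindR n s
    (fun l => algebraMap S B' (b l)) (fun p hp => by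
      exact (MvPolynomial.aeval_algebraMap_apply (R := R) (B := B') b p).trans (by rw [hb p hp, map_zero]))
  refine ⟨E, inferInstance, inferInstance, hE, (r.restrictScalars R).comp ψ, x, hx, fun l => ?_⟩
  change r (ψ (x l)) = b l
  rw [hxb l]
  exact r.commutes (b l)

/-- A weakly etale w-contractible algebra over a quotient lifts. -/
theorem exists_wContractible_lift {A : Type u} [CommRing A] (I : Ideal A) (B : Type u) [CommRing B]
    [Algebra (A ⧸ I) B] [Algebra A B] [IsScalarTower A (A ⧸ I) B] [Algebra.WeaklyEtale (A ⧸ I) B]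
    (hB : EtPBC.IsWContractible B) :
    ∃ (C : Type u) (_ : CommRing C) (_ : Algebra A C) (_ : Algebra C B) (_ : IsScalarTower A C B),
      EtPBC.IsIndEtale A C ∧ EtPBC.IsWContractible C ∧ Function.Surjective (algebraMap C B) ∧
      RingHom.ker (algebraMap C B) = I.map (algebraMap A C) ∧
      Lifts C (Algebra.ofId C B) ∧
      ∀ e : C →ₐ[A] C, (∀ c, algebraMap C B (e c) = algebraMap C B c) → e = AlgHom.id A C := by
  obtain ⟨C, _, _, φ, hC, hsurj, hker, hlift⟩ :=
    exists_indEtale_lift' I B (isIndEtale_of_isWContractible hB)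
  letI : Algebra C B := φ.toRingHom.toAlgebra
  have : IsScalarTower A C B := IsScalarTower.of_algebraMap_eq fun a => (φ.commutes a).symm
  have h1 : Lifts A (IsScalarTower.toAlgHom A C B) := by
    have : IsScalarTower.toAlgHom A C B = φ := AlgHom.ext fun _ => rfl
    rw [this]
    exact hlift
  have h2 := lifts_self hC h1
  refine ⟨C, inferInstance, inferInstance, inferInstance, inferInstance, hC,
    h2.isWContractible hB, hsurj, hker, h2, fun e he => ?_⟩
  exact (h1.bijective_indEtale hC).1 (AlgHom.ext he)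

end Groth.EtaleDeep.IndEt
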