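import Groth.Agent.EtaleDeep.IndEt.Retract
import Groth.Agent.FlatMorOne.WeaklyEtaleUnram

/-!
# Colimits of filtered systems; lifting ind-etale algebras along quotients
-/

set_option autoImplicit false
set_option linter.style.haveILetI false

universe u

open CategoryTheory CategoryTheory.Limits TensorProduct

namespace Groth.EtaleDeep.IndEt

variable {A : Type u} [CommRing A]

/-- Every filtered system has a colimit. -/
theorem exists_colim {P : ∀ (R : Type u) [CommRing R] [Algebra A R], Prop}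
    {J : Type u} [SmallCategory J] [IsFiltered J] (G : J → Type u) [∀ j, CommRing (G j)]
    [∀ j, Algebra A (G j)] (f : ∀ {i j : J}, (i ⟶ j) → (G i →ₐ[A] G j))
    (f_id : ∀ (i : J) (x : G i), f (𝟙 i) x = x)
    (f_comp : ∀ {i j k : J} (u : i ⟶ j) (v : j ⟶ k) (x : G i), f (u ≫ v) x = f v (f u x))
    (prop : ∀ j, P (G j)) :
    ∃ (C : Type u) (_ : CommRing C) (_ : Algebra A C) (g : ∀ j, G j →ₐ[A] C),
      (∀ {i j : J} (u : i ⟶ j) (x : G i), g j (f u x) = g i x) ∧
      (∀ c : C, ∃ j x, g j x = c) ∧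
      (∀ (i : J) (x y : G i), g i x = g i y → ∃ (k : J) (u : i ⟶ k), f u x = f u y) ∧
      Nonempty (Pres A C P) := by
  let F : J ⥤ CommRingCat.{u} :=
    { obj := fun j => CommRingCat.of (G j)
      map := fun u => CommRingCat.ofHom (f u).toRingHom
      map_id := fun i => CommRingCat.hom_ext (RingHom.ext (f_id i))
      map_comp := fun u v => CommRingCat.hom_ext (RingHom.ext (f_comp u v)) }
  let C : Type u := (colimit F : CommRingCat.{u})
  letI : CommRing C := inferInstanceAs (CommRing (colimit F : CommRingCat.{u}))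
  let ρ : ∀ j, G j →+* C := fun j => (colimit.ι F j).hom
  have hρ : ∀ {i j : J} (u : i ⟶ j) (x : G i), ρ j (f u x) = ρ i x := fun {i j} u x =>
    ConcreteCategory.congr_hom (colimit.w F u) x
  let j₀ : J := IsFiltered.nonempty.some
  letI : Algebra A C := ((ρ j₀).comp (algebraMap A (G j₀))).toAlgebra
  have hA : ∀ j a, ρ j (algebraMap A (G j) a) = algebraMap A C a := fun j a => by
    rw [← hρ (IsFiltered.leftToMax j j₀), AlgHom.commutes,
      ← (f (IsFiltered.rightToMax j j₀)).commutes, hρ]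
    rfl
  let g : ∀ j, G j →ₐ[A] C := fun j => AlgHom.mk (ρ j) (hA j)
  have hsurj : ∀ c : C, ∃ j x, g j x = c := fun c => Concrete.colimit_exists_rep F c
  have heq : ∀ (i : J) (x y : G i), g i x = g i y → ∃ (k : J) (u : i ⟶ k), f u x = f u y := by
    intro i x y h
    obtain ⟨k, u, v, huv⟩ := (Concrete.colimit_rep_eq_iff_exists F x y).1 h
    refine ⟨IsFiltered.coeq u v, u ≫ IsFiltered.coeqHom u v, ?_⟩
    conv_rhs => rw [IsFiltered.coeq_condition u v]
    rw [f_comp, f_comp]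
    exact congrArg _ huv
  exact ⟨C, inferInstance, inferInstance, g, hρ, hsurj, heq,
    ⟨{ J := J, G := G, f := f, f_id := f_id, f_comp := f_comp, g := g, g_f := hρ, surj := hsurj,
       eq := heq, prop := prop }⟩⟩

/-- Maps out of a filtered colimit. -/
theorem exists_desc {J : Type u} [SmallCategory J] [IsFiltered J] {G : J → Type u}
    [∀ j, CommRing (G j)] [∀ j, Algebra A (G j)] {f : ∀ {i j : J}, (i ⟶ j) → (G i →ₐ[A] G j)}
    {C R : Type u} [CommRing C] [Algebra A C] [CommRing R] [Algebra A R]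
    (g : ∀ j, G j →ₐ[A] C) (hg : ∀ {i j : J} (u : i ⟶ j) (x : G i), g j (f u x) = g i x)
    (surj : ∀ c : C, ∃ j x, g j x = c)
    (eq : ∀ (i : J) (x y : G i), g i x = g i y → ∃ (k : J) (u : i ⟶ k), f u x = f u y)
    (h : ∀ j, G j →ₐ[A] R) (hh : ∀ {i j : J} (u : i ⟶ j) (x : G i), h j (f u x) = h i x) :
    ∃ φ : C →ₐ[A] R, ∀ j x, φ (g j x) = h j x := by
  choose j x hx using surj
  have key : ∀ (i : J) (y : G i), h (j (g i y)) (x (g i y)) = h i y := by
    intro i y
    let p := IsFiltered.leftToMax (j (g i y)) i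
    let q := IsFiltered.rightToMax (j (g i y)) i
    obtain ⟨k, u, hu⟩ := eq _ (f p (x (g i y))) (f q y) (by rw [hg, hg, hx])
    have h2 := congrArg (h k) hu
    rwa [hh, hh, hh, hh] at h2
  have hadd : ∀ c d, ∃ (k : J) (a b : G k), g k a = c ∧ g k b = d := fun c d =>
    ⟨IsFiltered.max (j c) (j d), f (IsFiltered.leftToMax _ _) (x c),
      f (IsFiltered.rightToMax _ _) (x d), by rw [hg, hx], by rw [hg, hx]⟩
  let φ₀ : C → R := fun c => h (j c) (x c)
  refine ⟨
    { toFun := φ₀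
      map_one' := by
        have h2 := key (j 0) 1
        rw [map_one, map_one] at h2
        exact h2
      map_mul' := fun c d => by
        obtain ⟨k, a, b, rfl, rfl⟩ := hadd c d
        change h _ _ = h _ _ * h _ _
        rw [key, key, ← map_mul, key, map_mul]
      map_zero' := by
        have h2 := key (j 0) 0
        rw [map_zero, map_zero] at h2
        exact h2
      map_add' := fun c d => by
        obtain ⟨k, a, b, rfl, rfl⟩ := hadd c d
        change h _ _ = h _ _ + h _ _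
        rw [key, key, ← map_add, key, map_add]
      commutes' := fun a => by
        have h2 := key (j 0) (algebraMap A _ a)
        rw [AlgHom.commutes, AlgHom.commutes] at h2
        exact h2 }, key⟩

/-- An element of an etale algebra killed in an etale `A ⧸ I`-algebra `R'` is in `I E'` for some
etale algebra `E'` between them. -/
theorem exists_kill (I : Ideal A) {R' : Type u} [CommRing R'] [Algebra A R'] [Algebra (A ⧸ I) R']
    [IsScalarTower A (A ⧸ I) R'] [Algebra.Etale (A ⧸ I) R'] {E : Type u} [CommRing E] [Algebra A E]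
    [Algebra.Etale A E] (a : E →ₐ[A] R') (x : E) (hx : a x = 0) :
    ∃ (E' : Type u) (_ : CommRing E') (_ : Algebra A E'), Algebra.Etale A E' ∧
      ∃ (ν : E →ₐ[A] E') (μ' : E' →ₐ[A] R'), μ'.comp ν = a ∧
        ν x ∈ I.map (algebraMap A E') := by
  have hmk : Function.Surjective (algebraMap A (A ⧸ I)) := Ideal.Quotient.mk_surjective
  obtain ⟨Q, _, _, π, _, hπ, -⟩ :=
    Groth.AlgStBasic.SmoothDescent.exists_etale_lift (B := A ⧸ I) (C := R') hmk
  have : Algebra.Etale A (E ⊗[A] Q) := Algebra.Etale.comp A E _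
  let μ : E ⊗[A] Q →ₐ[A] R' := Algebra.TensorProduct.lift a π fun _ _ => Commute.all _ _
  let S := (A ⧸ I) ⊗[A] (E ⊗[A] Q)
  let μS : S →ₐ[A ⧸ I] R' :=
    Algebra.TensorProduct.lift (Algebra.ofId _ _) μ fun _ _ => Commute.all _ _
  have hμS : Function.Surjective μS := fun y => by
    obtain ⟨q, rfl⟩ := hπ y
    refine ⟨1 ⊗ₜ (1 ⊗ₜ q), (Algebra.TensorProduct.lift_tmul _ _ _ _ _).trans ?_⟩
    rw [map_one, one_mul]
    exact (Algebra.TensorProduct.lift_tmul _ _ _ _ _).trans (by rw [map_one, one_mul])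
  let K := RingHom.ker μS.toRingHom
  have hKfg : K.FG := Algebra.FinitePresentation.ker_fG_of_surjective μS hμS
  have hflat : Module.Flat S (S ⧸ K) := by
    let e₁ : (S ⧸ K) ≃ₐ[A ⧸ I] R' := Ideal.quotientKerAlgEquivOfSurjective hμS
    have : Algebra.Etale (A ⧸ I) (S ⧸ K) := Algebra.Etale.of_equiv e₁.symm
    have : Algebra.Etale S (S ⧸ K) := Algebra.Etale.of_restrictScalars (A ⧸ I) _ _
    exact Algebra.Smooth.flat S (S ⧸ K)
  obtain ⟨e, he, hKe⟩ := (Ideal.isIdempotentElem_iff_of_fg K hKfg).1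
    ((pow_two K).symm.trans (Groth.FlatMorOne.sq_eq_of_flat_quotient K))
  let inc : E ⊗[A] Q →ₐ[A] S := Algebra.TensorProduct.includeRight
  have hinc : Function.Surjective inc := by
    intro t
    induction t using TensorProduct.induction_on with
    | zero => exact ⟨0, map_zero _⟩
    | tmul b y =>
      obtain ⟨b, rfl⟩ := hmk b
      refine ⟨b • y, ?_⟩
      rw [Algebra.algebraMap_eq_smul_one, smul_tmul]
      rfl
    | add p q hp hq =>
      obtain ⟨p, rfl⟩ := hp
      obtain ⟨q, rfl⟩ := hq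
      exact ⟨p + q, map_add _ _ _⟩
  have hinc0 : ∀ t, inc t = 0 → t ∈ I.map (algebraMap A (E ⊗[A] Q)) := by
    intro t ht
    let J := I.map (algebraMap A (E ⊗[A] Q))
    let σ : (A ⧸ I) →ₐ[A] (E ⊗[A] Q) ⧸ J := Ideal.Quotient.liftₐ I
      (Algebra.ofId A _) fun b hb => by
        change Ideal.Quotient.mk J (algebraMap A _ b) = 0
        exact Ideal.Quotient.eq_zero_iff_mem.2 (Ideal.mem_map_of_mem _ hb)
    have h2 := congrArg (Algebra.TensorProduct.lift σ (Ideal.Quotient.mkₐ A J)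
      fun _ _ => Commute.all _ _) ht
    rw [map_zero] at h2
    simp [inc, S] at h2
    exact Ideal.Quotient.eq_zero_iff_mem.1 h2
  obtain ⟨h₀, hh₀⟩ := hinc e
  have heμ : μS e = 0 := hKe.ge (Ideal.mem_span_singleton_self e)
  have hμ : ∀ t, μS (inc t) = μ t := fun t => by simp [inc, μS, S]
  let h₁ := 1 - h₀
  have hμh : μ h₁ = 1 := by rw [map_sub, map_one, ← hμ, hh₀, heμ, sub_zero]
  let μE : Localization.Away h₁ →ₐ[A] R' :=
    IsLocalization.liftAlgHom (M := Submonoid.powers h₁) (f := μ) (fun y => by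
      obtain ⟨m, hm⟩ := y.2
      rw [← hm, map_pow, hμh, one_pow]
      exact isUnit_one)
  let z : E ⊗[A] Q := x ⊗ₜ 1
  have hz : inc (h₁ * z) = 0 := by
    have h2 : inc z ∈ K := by
      change μS (inc z) = 0
      rw [hμ]
      simp [μ, z, hx]
    rw [hKe, Ideal.submodule_span_eq, Ideal.mem_span_singleton'] at h2
    obtain ⟨c, hc⟩ := h2
    rw [map_mul, map_sub, map_one, hh₀, ← hc]
    linear_combination c * he.eq.symm
  obtain ⟨w, hw⟩ :=
    (IsLocalization.Away.algebraMap_isUnit (S := Localization.Away h₁) h₁).exists_left_inv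
  refine ⟨Localization.Away h₁, inferInstance, inferInstance, inferInstance,
    (IsScalarTower.toAlgHom A (E ⊗[A] Q) _).comp Algebra.TensorProduct.includeLeft, μE,
    AlgHom.ext fun y => ?_, ?_⟩
  · change μE (algebraMap (E ⊗[A] Q) _ (y ⊗ₜ 1)) = a y
    have h3 : μE (algebraMap (E ⊗[A] Q) _ (y ⊗ₜ 1)) = μ (y ⊗ₜ 1) := IsLocalization.lift_eq _ _
    rw [h3]
    simp [μ]
  · change algebraMap (E ⊗[A] Q) (Localization.Away h₁) z ∈ _
    have h2 := Ideal.mem_map_of_mem (algebraMap (E ⊗[A] Q) (Localization.Away h₁)) (hinc0 _ hz)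
    rw [Ideal.map_map, ← IsScalarTower.algebraMap_eq, map_mul] at h2
    have h3 := (I.map (algebraMap A (Localization.Away h₁))).mul_mem_left w h2
    rwa [← mul_assoc, hw, one_mul] at h3

section Lift

variable (I : Ideal A) (Cb : Type u) [CommRing Cb] [Algebra (A ⧸ I) Cb] [Algebra A Cb]
  [IsScalarTower A (A ⧸ I) Cb]

/-- Etale `A`-algebras over `Cb`. -/
local notation "Et" => Obj A Cb (fun R _ _ => Algebra.Etale A R)

omit [Algebra (A ⧸ I) Cb] [IsScalarTower A (A ⧸ I) Cb] in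
variable {I Cb} in
theorem exists_obj (E : Type u) [CommRing E] [Algebra A E] [hE : Algebra.Etale A E] (ψ : E →ₐ[A] Cb) :
    ∃ (k : Et) (e : E ≃ₐ[A] k.Ring), ∀ x, k.hom (e x) = ψ x := by
  obtain ⟨n, s, ⟨e⟩⟩ := exists_model (A := A) E
  exact ⟨⟨n, s, Algebra.Etale.of_equiv e.symm, ψ.comp e.toAlgHom⟩, e.symm,
    fun x => congrArg ψ (e.apply_symm_apply x)⟩

omit [Algebra (A ⧸ I) Cb] [IsScalarTower A (A ⧸ I) Cb] in
variable {I Cb} in
/-- Two maps of etale algebras over `Cb` are equalized by a third one. -/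
theorem exists_coequalizer {R S : Type u} [CommRing R] [Algebra A R] [hR : Algebra.Etale A R]
    [CommRing S] [Algebra A S] [hS : Algebra.Etale A S] (u v : R →ₐ[A] S) (ψ : S →ₐ[A] Cb)
    (h : ψ.comp u = ψ.comp v) :
    ∃ (k : Et) (φ : S →ₐ[A] k.Ring), k.hom.comp φ = ψ ∧ φ.comp u = φ.comp v := by
  have : Algebra.Etale A (R ⊗[A] R) := Algebra.Etale.comp A R _
  let m := Algebra.TensorProduct.lmul' A (S := R)
  let w : R ⊗[A] R →ₐ[A] S := Algebra.TensorProduct.lift u v fun _ _ => Commute.all _ _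
  letI : Algebra (R ⊗[A] R) R := m.toRingHom.toAlgebra
  letI : Algebra (R ⊗[A] R) S := w.toRingHom.toAlgebra
  letI : Algebra (R ⊗[A] R) Cb := (ψ.comp w).toRingHom.toAlgebra
  have : IsScalarTower A (R ⊗[A] R) R :=
    IsScalarTower.of_algebraMap_eq fun a => (m.commutes a).symm
  have : IsScalarTower A (R ⊗[A] R) S :=
    IsScalarTower.of_algebraMap_eq fun a => (w.commutes a).symm
  have : IsScalarTower A (R ⊗[A] R) Cb :=
    IsScalarTower.of_algebraMap_eq fun a => ((ψ.comp w).commutes a).symm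
  have : Algebra.Etale (R ⊗[A] R) R := Algebra.Etale.of_restrictScalars A _ _
  have hagree : ∀ t, (ψ.comp u) (m t) = ψ (w t) := by
    intro t
    induction t using TensorProduct.induction_on with
    | zero => simp
    | tmul a b =>
      simp only [m, w, Algebra.TensorProduct.lmul'_apply_tmul, Algebra.TensorProduct.lift_tmul,
        map_mul]
      exact congrArg (ψ (u a) * ·) (AlgHom.congr_fun h b)
    | add a b ha hb => simp only [map_add, ha, hb]
  let ι₁ : S →ₐ[R ⊗[A] R] Cb := AlgHom.mk ψ.toRingHom fun t => rfl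
  let ι₂ : R →ₐ[R ⊗[A] R] Cb := AlgHom.mk (ψ.comp u).toRingHom hagree
  have : Algebra.Etale A (S ⊗[R ⊗[A] R] R) := Algebra.Etale.comp A S _
  obtain ⟨k, e, he⟩ := exists_obj (A := A) (S ⊗[R ⊗[A] R] R)
    ((Algebra.TensorProduct.lift ι₁ ι₂ fun _ _ => Commute.all _ _).restrictScalars A)
  refine ⟨k, e.toAlgHom.comp (Algebra.TensorProduct.includeLeft (S := A)),
    AlgHom.ext fun x => ?_, AlgHom.ext fun x => ?_⟩
  · refine (he _).trans ?_
    simp [ι₁]
  · change e ((u x) ⊗ₜ[R ⊗[A] R] (1 : R)) = e ((v x) ⊗ₜ[R ⊗[A] R] (1 : R))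
    have hu : u x = algebraMap (R ⊗[A] R) S (x ⊗ₜ 1) := by
      change _ = w (x ⊗ₜ 1); simp [w]
    have hv : v x = algebraMap (R ⊗[A] R) S (1 ⊗ₜ x) := by
      change _ = w (1 ⊗ₜ x); simp [w]
    have h₁ : algebraMap (R ⊗[A] R) R (x ⊗ₜ 1) = x := by
      change m (x ⊗ₜ 1) = x; simp [m]
    have h₂ : algebraMap (R ⊗[A] R) R (1 ⊗ₜ x) = x := by
      change m (1 ⊗ₜ x) = x; simp [m]
    rw [hu, hv, Algebra.algebraMap_eq_smul_one, Algebra.algebraMap_eq_smul_one, smul_tmul,
      smul_tmul, ← Algebra.algebraMap_eq_smul_one, ← Algebra.algebraMap_eq_smul_one, h₁, h₂]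

omit [Algebra (A ⧸ I) Cb] [IsScalarTower A (A ⧸ I) Cb] in
theorem isFiltered_obj : IsFiltered Et := by
  refine { cocone_objs := fun i j => ?_, cocone_maps := fun i j u v => ?_, nonempty := ?_ }
  · have := i.prop
    have := j.prop
    have : Algebra.Etale A (i.Ring ⊗[A] j.Ring) := Algebra.Etale.comp A i.Ring _
    obtain ⟨k, e, he⟩ := exists_obj (A := A) (i.Ring ⊗[A] j.Ring)
      (Algebra.TensorProduct.lift i.hom j.hom fun _ _ => Commute.all _ _)
    exact ⟨k, ⟨e.toAlgHom.comp Algebra.TensorProduct.includeLeft, AlgHom.ext fun x => by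
        simp [he]⟩,
      ⟨e.toAlgHom.comp Algebra.TensorProduct.includeRight, AlgHom.ext fun x => by simp [he]⟩,
      trivial⟩
  · have := i.prop
    have := j.prop
    obtain ⟨k, φ, hφ, huv⟩ :=
      exists_coequalizer (A := A) (R := i.Ring) (S := j.Ring) u.1 v.1 j.hom (u.2.trans v.2.symm)
    exact ⟨k, ⟨φ, hφ⟩, Subtype.ext huv⟩
  · obtain ⟨k, -, -⟩ := exists_obj (A := A) A (Algebra.ofId A Cb)
    exact ⟨k⟩

theorem exists_indEtale_lift' (h : EtPBC.IsIndEtale (A ⧸ I) Cb) :
    ∃ (C : Type u) (_ : CommRing C) (_ : Algebra A C) (φ : C →ₐ[A] Cb),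
      EtPBC.IsIndEtale A C ∧ Function.Surjective φ ∧ RingHom.ker φ = I.map (algebraMap A C) ∧
      ∀ (E : Type u) [CommRing E] [Algebra A E], Algebra.Etale A E →
        Function.Bijective (fun s : E →ₐ[A] C => φ.comp s) := by
  obtain ⟨H⟩ := isIndEtale_iff.mp h
  have : IsFiltered Et := isFiltered_obj Cb
  obtain ⟨C, _, _, g, hg, hsurj, heq, hC⟩ := exists_colim (A := A)
    (P := fun R _ _ => Algebra.Etale A R) (J := Et) (fun k => k.Ring)
    (fun {i j} (u : Obj.Hom i j) => u.1) (fun i x => rfl) (fun u v x => rfl) (fun k => k.prop)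
  obtain ⟨φ, hφ⟩ := exists_desc (A := A) g hg hsurj heq (R := Cb) (fun k => k.hom)
    (fun {i j} (u : Obj.Hom i j) x => AlgHom.congr_fun u.2 x)
  letI : ∀ k, Algebra A (H.G k) := fun k =>
    ((algebraMap (A ⧸ I) (H.G k)).comp (algebraMap A (A ⧸ I))).toAlgebra
  have : ∀ k, IsScalarTower A (A ⧸ I) (H.G k) := fun k =>
    IsScalarTower.of_algebraMap_eq fun _ => rfl
  have hmk : Function.Surjective (algebraMap A (A ⧸ I)) := Ideal.Quotient.mk_surjective
  have hsurjφ : Function.Surjective φ := by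
    intro b
    obtain ⟨k, x, rfl⟩ := H.surj b
    have := H.prop k
    obtain ⟨Q, _, _, π, _, hπ, -⟩ :=
      Groth.AlgStBasic.SmoothDescent.exists_etale_lift (B := A ⧸ I) (C := H.G k) hmk
    obtain ⟨q, hq⟩ := hπ x
    obtain ⟨l, e, he⟩ := exists_obj (A := A) Q (((H.g k).restrictScalars A).comp π)
    refine ⟨g l (e q), ?_⟩
    rw [hφ, he]
    exact congrArg (H.g k) hq
  have hI : ∀ a ∈ I, algebraMap A (A ⧸ I) a = 0 := fun a ha =>
    Ideal.Quotient.eq_zero_iff_mem.2 ha
  have hker : RingHom.ker φ = I.map (algebraMap A C) := by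
    refine le_antisymm (fun c hc => ?_) (Ideal.map_le_iff_le_comap.2 fun a ha => ?_)
    · obtain ⟨i, x, rfl⟩ := hsurj c
      have hx : i.hom x = 0 := (hφ i x).symm.trans hc
      have := i.prop
      let hb : (A ⧸ I) ⊗[A] i.Ring →ₐ[A ⧸ I] Cb :=
        Algebra.TensorProduct.lift (Algebra.ofId _ _) i.hom fun _ _ => Commute.all _ _
      obtain ⟨k, -, a, ha⟩ := H.exists_lift H.nonempty.some (C := (A ⧸ I) ⊗[A] i.Ring) hb
      obtain ⟨k', v, hv⟩ := H.zero k (a (1 ⊗ₜ x)) (by
        rw [← AlgHom.comp_apply, ha]; simp [hb, hx])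
      have := H.prop k'
      let a' : (A ⧸ I) ⊗[A] i.Ring →ₐ[A ⧸ I] H.G k' := (H.f v).comp a
      obtain ⟨E, _, _, hE, ν, μE, hν, hmem⟩ := exists_kill I (R' := H.G k') (E := i.Ring)
        ((a'.restrictScalars A).comp Algebra.TensorProduct.includeRight) x hv
      obtain ⟨l, eE, hl⟩ := exists_obj (A := A) E (((H.g k').restrictScalars A).comp μE)
      let χ : i.Ring →ₐ[A] l.Ring := eE.toAlgHom.comp ν
      have hχ : l.hom.comp χ = i.hom := AlgHom.ext fun y => by
        refine (hl _).trans ?_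
        change H.g k' (μE (ν y)) = i.hom y
        rw [← AlgHom.comp_apply μE ν, hν]
        change H.g k' (H.f v (a (1 ⊗ₜ y))) = i.hom y
        rw [H.g_f, ← AlgHom.comp_apply, ha]
        simp [hb]
      rw [← hg (show i ⟶ l from (⟨χ, hχ⟩ : Obj.Hom i l)) x]
      have h4 := Ideal.mem_map_of_mem ((g l).comp eE.toAlgHom).toRingHom hmem
      rw [Ideal.map_map] at h4
      exact (congrArg (fun r => I.map r) ((g l).comp eE.toAlgHom).comp_algebraMap) ▸ h4
    · refine (φ.commutes a).trans ?_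
      rw [IsScalarTower.algebraMap_apply A (A ⧸ I) Cb, hI a ha, map_zero]
  refine ⟨C, inferInstance, inferInstance, φ, isIndEtale_iff.mpr hC, hsurjφ, hker, ?_⟩
  intro E _ _ hE
  let P : Pres A C (fun R _ _ => Algebra.Etale A R) :=
    { J := Et, G := fun k => k.Ring, f := fun {i j} (u : Obj.Hom i j) => u.1
      f_id := fun i x => rfl, f_comp := fun u v x => rfl, g := g, g_f := hg, surj := hsurj,
      eq := heq, prop := fun k => k.prop }
  constructor
  · intro u v huv
    obtain ⟨i, -, u', hu'⟩ := P.exists_lift P.nonempty.some u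
    obtain ⟨j, q, v', hv'⟩ := P.exists_lift i v
    let u'' : E →ₐ[A] j.Ring := (P.f q).comp u'
    have hu'' : (g j).comp u'' = u := AlgHom.ext fun x => (hg q _).trans (AlgHom.congr_fun hu' x)
    have hψ : j.hom.comp u'' = j.hom.comp v' := AlgHom.ext fun x => by
      have h1 := hφ j (u'' x)
      have h2 := hφ j (v' x)
      rw [show g j (u'' x) = u x from AlgHom.congr_fun hu'' x] at h1
      rw [show g j (v' x) = v x from AlgHom.congr_fun hv' x] at h2
      exact h1.symm.trans ((AlgHom.congr_fun huv x).trans h2)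
    have := j.prop
    obtain ⟨l, χ, hχ, hχuv⟩ := exists_coequalizer u'' v' j.hom hψ
    have hgl : ∀ x, g l (χ x) = g j x := fun x =>
      hg (show j ⟶ l from (⟨χ, hχ⟩ : Obj.Hom j l)) x
    refine AlgHom.ext fun x => ?_
    rw [← hu'', ← hv']
    change g j (u'' x) = g j (v' x)
    rw [← hgl, ← hgl]
    exact congrArg (g l) (AlgHom.congr_fun hχuv x)
  · intro ψ
    obtain ⟨k, e, he⟩ := exists_obj (A := A) E ψ
    exact ⟨(g k).comp e.toAlgHom, AlgHom.ext fun x => (hφ k (e x)).trans (he x)⟩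

theorem exists_indEtale_lift (h : EtPBC.IsIndEtale (A ⧸ I) Cb) :
    ∃ (C : Type u) (_ : CommRing C) (_ : Algebra A C),
      EtPBC.IsIndEtale A C ∧ Nonempty ((C ⧸ I.map (algebraMap A C)) ≃ₐ[A ⧸ I] Cb) := by
  obtain ⟨C, _, _, φ, hC, hsurjφ, hker, -⟩ := exists_indEtale_lift' I Cb h
  have hmk : Function.Surjective (algebraMap A (A ⧸ I)) := Ideal.Quotient.mk_surjective
  refine ⟨C, inferInstance, inferInstance, hC, ⟨?_⟩⟩
  let e₀ : (C ⧸ I.map (algebraMap A C)) ≃ₐ[A] Cb :=
    (Ideal.quotientEquivAlgOfEq A hker.symm).trans (Ideal.quotientKerAlgEquivOfSurjective hsurjφ)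
  exact AlgEquiv.ofRingEquiv (f := e₀.toRingEquiv) fun b => by
    obtain ⟨b, rfl⟩ := hmk b
    exact (e₀.commutes b).trans (IsScalarTower.algebraMap_apply A (A ⧸ I) Cb b)

end Lift

end Groth.EtaleDeep.IndEt
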