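import Groth.Agent.EtaleDeep.IndEt.Retract

/-!
# Local isomorphisms, ind-Zariski algebras, identifying local rings
-/

set_option autoImplicit false
set_option linter.style.haveILetI false

universe u

open CategoryTheory MvPolynomial TensorProduct

namespace Groth.EtaleDeep.IndEt

variable {A : Type u} [CommRing A]

theorem etale_of_isLocalIso (R : Type u) [CommRing R] [Algebra A R] [Algebra.IsLocalIso A R] :
    Algebra.Etale A R := by
  rw [← RingHom.etale_algebraMap]
  refine RingHom.Etale.ofLocalizationSpanTarget _ _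
    (Algebra.IsLocalIso.span_isStandardOpenImmersion_eq_top A R) fun r => ?_
  obtain ⟨t, ht⟩ := Algebra.IsStandardOpenImmersion.exists_away (R := A)
    (S := Localization.Away (r : R)) (self := r.2)
  rw [← IsScalarTower.algebraMap_eq A R (Localization.Away (r : R)), RingHom.etale_algebraMap]
  exact Algebra.Etale.of_isLocalizationAway t

theorem isIndEtale_of_isIndZariski {B : Type u} [CommRing B] [Algebra A B]
    (h : EtPBC.IsIndZariski A B) : EtPBC.IsIndEtale A B := by
  obtain ⟨H⟩ := isIndZariski_iff.mp h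
  exact isIndEtale_iff.mpr ⟨H.mono fun R _ _ (_ : Algebra.IsLocalIso A R) => etale_of_isLocalIso R⟩

theorem weaklyEtale_of_isIndZariski {B : Type u} [CommRing B] [Algebra A B]
    (h : EtPBC.IsIndZariski A B) : Algebra.WeaklyEtale A B :=
  weaklyEtale (isIndEtale_of_isIndZariski h)

theorem isIndZariski_iff_factors {B : Type u} [CommRing B] [Algebra A B] :
    EtPBC.IsIndZariski A B ↔ Factors A B (fun R => Algebra.IsLocalIso A R) := by
  refine ⟨fun h => (isIndZariski_iff.mp h).some.factors, fun h => isIndZariski_iff.mpr ?_⟩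
  exact h.nonempty_pres (fun R _ _ hR => by
      have := hR
      exact (etale_of_isLocalIso (A := A) R).finitePresentation)
    fun R S _ _ _ _ e hR => by
      have := hR
      exact Algebra.IsLocalIso.of_algEquiv e

theorem isIndZariski_of_equiv {B B' : Type u} [CommRing B] [Algebra A B] [CommRing B'] [Algebra A B']
    (e : B ≃ₐ[A] B') (h : EtPBC.IsIndZariski A B) : EtPBC.IsIndZariski A B' :=
  isIndZariski_iff.mpr ⟨(isIndZariski_iff.mp h).some.ofEquiv e⟩

/-- A localization of an ind-Zariski algebra is ind-Zariski. -/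
theorem isIndZariski_localization {L B : Type u} [CommRing L] [Algebra A L] [CommRing B]
    [Algebra A B] [Algebra L B] [IsScalarTower A L B] (S : Submonoid L) [IsLocalization S B]
    (h : EtPBC.IsIndZariski A L) : EtPBC.IsIndZariski A B := by
  classical
  obtain ⟨H⟩ := isIndZariski_iff.mp h
  rw [isIndZariski_iff_factors]
  intro n s b hb
  obtain ⟨E, _, _, ⟨t, htS, ht⟩, ψ, x, hx, hxb⟩ :=
    (nonempty_pres_localization S B).some.factors n (s.image (MvPolynomial.map (algebraMap A L))) b
      fun r hr => by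
        obtain ⟨r, hr', rfl⟩ := Finset.mem_image.mp hr
        rw [aeval_map_algebraMap]; exact hb r hr'
  choose y hy using fun l => IsLocalization.surj (Submonoid.powers t) (x l)
  choose m hm using fun l => (y l).2.2
  obtain ⟨j, -, z, hz⟩ := H.surj_fintype H.nonempty.some
    (Option.elim' t (fun l => (y l).1) : Option (Fin n) → L)
  let t' := z none
  have ht' : H.g j t' = t := hz none
  let G₀ := Localization.Away t'
  letI : Algebra A E := ((algebraMap L E).comp (algebraMap A L)).toAlgebra
  have : IsScalarTower A L E := IsScalarTower.of_algebraMap_eq fun _ => rfl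
  let θ : ∀ (k : H.J) (c : H.G k), H.g k c = t → (Localization.Away c →ₐ[A] E) := fun k c hc =>
    AlgHom.mk (IsLocalization.Away.lift (S := Localization.Away c) c
      (g := (algebraMap L E).comp (H.g k).toRingHom) (by
        change IsUnit (algebraMap L E (H.g k c))
        rw [hc]
        exact IsLocalization.Away.algebraMap_isUnit t)) fun a => by
      refine (congrArg _ (IsScalarTower.algebraMap_apply A (H.G k) (Localization.Away c) a)).trans ?_
      refine (IsLocalization.lift_eq _ _).trans ?_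
      exact congrArg (algebraMap L E) ((H.g k).commutes a)
  have hθ : ∀ k c hc v, θ k c hc (algebraMap (H.G k) (Localization.Away c) v) =
      algebraMap L E (H.g k v) := fun k c hc v => IsLocalization.lift_eq _ _
  let x₀ : Fin n → G₀ := fun l =>
    IsLocalization.mk' G₀ (z (some l)) (⟨t' ^ m l, m l, rfl⟩ : Submonoid.powers t')
  have hx₀ : ∀ l, θ j t' ht' (x₀ l) = x l := fun l => by
    refine ((IsLocalization.Away.algebraMap_isUnit (S := E) t).pow (m l)).mul_right_injective ?_
    change algebraMap L E t ^ m l * θ j t' ht' (x₀ l) = algebraMap L E t ^ m l * x l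
    have h1 := congrArg (θ j t' ht') (IsLocalization.mk'_spec' G₀ (z (some l))
      (⟨t' ^ m l, m l, rfl⟩ : Submonoid.powers t'))
    rw [map_mul, hθ j t' ht', hθ j t' ht', map_pow, ht', map_pow] at h1
    refine h1.trans ?_
    rw [show H.g j (z (some l)) = (y l).1 from hz (some l), ← hy l, ← hm l, map_pow, mul_comm]
  have hzero : ∀ r : s, ∃ c : H.G j, (∃ e : ℕ, algebraMap (H.G j) G₀ t' ^ e * aeval x₀ r.1 =
      algebraMap (H.G j) G₀ c) ∧ ∃ p : ℕ, H.g j (t' ^ p * c) = 0 := by
    intro r
    obtain ⟨⟨c, ⟨_, e, rfl⟩⟩, hc⟩ := IsLocalization.surj (Submonoid.powers t') (aeval x₀ r.1)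
    refine ⟨c, ⟨e, ?_⟩, ?_⟩
    · rw [← hc, mul_comm]
      exact congrArg (aeval x₀ r.1 * ·) (map_pow _ _ _).symm
    · have h1 := congrArg (θ j t' ht') hc
      have h2 : θ j t' ht' (aeval x₀ r.1) = 0 := by
        rw [← AlgHom.comp_apply, comp_aeval, show (fun l => θ j t' ht' (x₀ l)) = x from funext hx₀,
          ← aeval_map_algebraMap L]
        exact hx _ (Finset.mem_image_of_mem _ r.2)
      rw [map_mul, h2, zero_mul, hθ j t' ht'] at h1
      obtain ⟨⟨_, p, rfl⟩, hp⟩ :=
        (IsLocalization.map_eq_zero_iff (Submonoid.powers t) E _).1 h1.symm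
      exact ⟨p, by rw [map_mul, map_pow, ht']; exact hp⟩
  choose c hc p hp using hzero
  obtain ⟨k, u, hu⟩ := H.zero_fintype j (fun r : s => t' ^ p r * c r) hp
  have htk : H.g k (H.f u t') = t := (H.g_f u t').trans ht'
  have := H.prop k
  let G₁ := Localization.Away (H.f u t')
  have hG₁ : Algebra.IsLocalIso A G₁ := Algebra.IsLocalIso.trans A (H.G k) G₁
  let ν : G₀ →ₐ[A] G₁ := AlgHom.mk (IsLocalization.Away.lift (S := G₀) t'
      (g := (algebraMap (H.G k) G₁).comp (H.f u).toRingHom)
      (IsLocalization.Away.algebraMap_isUnit (H.f u t'))) fun a => by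
    refine (congrArg _ (IsScalarTower.algebraMap_apply A (H.G j) G₀ a)).trans ?_
    refine (IsLocalization.lift_eq _ _).trans ?_
    rw [IsScalarTower.algebraMap_apply A (H.G k) G₁]
    exact congrArg (algebraMap (H.G k) G₁) ((H.f u).commutes a)
  have hν : ∀ v, ν (algebraMap (H.G j) G₀ v) = algebraMap (H.G k) G₁ (H.f u v) :=
    fun v => IsLocalization.lift_eq _ _
  let ψ' : G₁ →ₐ[A] B := (ψ.restrictScalars A).comp (θ k (H.f u t') htk)
  have hψν : ∀ v, θ k (H.f u t') htk (ν v) = θ j t' ht' v := by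
    intro v
    have : ((θ k (H.f u t') htk).comp ν).toRingHom = (θ j t' ht').toRingHom :=
      IsLocalization.ringHom_ext (Submonoid.powers t') (RingHom.ext fun w => by
        change θ k (H.f u t') htk (ν (algebraMap _ G₀ w)) = θ j t' ht' (algebraMap _ G₀ w)
        rw [hν, hθ k (H.f u t') htk, hθ j t' ht', H.g_f])
    exact RingHom.congr_fun this v
  refine ⟨G₁, inferInstance, inferInstance, hG₁, ψ', fun l => ν (x₀ l), fun r hr => ?_, fun l => ?_⟩
  · rw [← comp_aeval, AlgHom.comp_apply]
    obtain ⟨e, he⟩ := hc ⟨r, hr⟩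
    have h1 := congrArg ν he
    rw [map_mul, map_pow, hν] at h1
    have hunit := IsLocalization.Away.algebraMap_isUnit (S := G₁) (H.f u t')
    have h2 := congrArg (algebraMap (H.G k) G₁) (hu ⟨r, hr⟩)
    rw [map_mul, map_mul, map_pow, map_pow, map_zero] at h2
    rw [(hunit.pow _).mul_right_eq_zero, ← hν, ← he, map_mul, map_pow, hν] at h2
    exact (hunit.pow _).mul_right_eq_zero.1 h2
  · change ψ (θ k (H.f u t') htk (ν (x₀ l))) = b l
    rw [hψν, hx₀, hxb]

/-- Elementwise form of `EtPBC.IdentifiesLocalRings`. -/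
def IdAt (A : Type u) {B : Type u} [CommRing A] [CommRing B] [Algebra A B] (q : Ideal B) : Prop :=
  (∀ a : A, ∀ c ∉ q, c * algebraMap A B a = 0 →
    ∃ s ∉ q.comap (algebraMap A B), s * a = 0) ∧
  ∀ b : B, ∃ a s : A, s ∉ q.comap (algebraMap A B) ∧
    ∃ c ∉ q, c * (algebraMap A B s * b - algebraMap A B a) = 0

theorem identifiesLocalRings_iff {B : Type u} [CommRing B] [Algebra A B] :
    EtPBC.IdentifiesLocalRings A B ↔ ∀ q : PrimeSpectrum B, IdAt A q.asIdeal := by
  refine forall_congr' fun q => ?_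
  set p := q.asIdeal.comap (algebraMap A B) with hp
  suffices hmain : ∀ φ : Localization.AtPrime p →+* Localization.AtPrime q.asIdeal,
      (∀ a, φ (algebraMap A (Localization.AtPrime p) a) =
        algebraMap B (Localization.AtPrime q.asIdeal) (algebraMap A B a)) →
      (Function.Bijective φ ↔ IdAt A q.asIdeal) from
    hmain _ (Localization.localRingHom_to_map p q.asIdeal (algebraMap A B) rfl)
  intro φ hφ
  have hmap : ∀ b : B, algebraMap B (Localization.AtPrime q.asIdeal) b = 0 ↔
      ∃ c ∉ q.asIdeal, c * b = 0 := fun b =>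
    (IsLocalization.map_eq_zero_iff q.asIdeal.primeCompl _ b).trans
      ⟨fun ⟨⟨c, hc⟩, h⟩ => ⟨c, hc, h⟩, fun ⟨c, hc, h⟩ => ⟨⟨c, hc⟩, h⟩⟩
  constructor
  · rintro ⟨hinj, hsurj⟩
    refine ⟨fun a c hc hca => ?_, fun b => ?_⟩
    · have h0 : φ (algebraMap A _ a) = 0 := by rw [hφ, hmap]; exact ⟨c, hc, hca⟩
      obtain ⟨⟨s, hs⟩, hsa⟩ :=
        (IsLocalization.map_eq_zero_iff p.primeCompl _ a).1 (hinj (h0.trans (map_zero φ).symm))
      exact ⟨s, hs, hsa⟩
    · obtain ⟨x, hx⟩ := hsurj (algebraMap B _ b)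
      obtain ⟨⟨a, ⟨s, hs⟩⟩, has⟩ := IsLocalization.surj p.primeCompl x
      refine ⟨a, s, hs, (hmap _).1 ?_⟩
      have h1 := congrArg φ has
      rw [map_mul, hφ, hφ, hx] at h1
      rw [map_sub, map_mul, mul_comm, sub_eq_zero]
      exact h1
  · rintro ⟨hinj, hsurj⟩
    refine ⟨(injective_iff_map_eq_zero φ).2 fun x hx => ?_, fun y => ?_⟩
    · obtain ⟨a, s, rfl⟩ := IsLocalization.exists_mk'_eq p.primeCompl x
      have h1 := congrArg φ (IsLocalization.mk'_spec (Localization.AtPrime p) a s)
      rw [map_mul, hx, zero_mul, hφ] at h1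
      obtain ⟨c, hc, hca⟩ := (hmap _).1 h1.symm
      obtain ⟨t, ht, hta⟩ := hinj a c hc hca
      exact IsLocalization.mk'_eq_zero_iff a s |>.2 ⟨⟨t, ht⟩, hta⟩
    · have key : ∀ b : B, ∃ a s : A, s ∉ p ∧ algebraMap B (Localization.AtPrime q.asIdeal) b *
          φ (algebraMap A _ s) = φ (algebraMap A _ a) := fun b => by
        obtain ⟨a, s, hs, hc⟩ := hsurj b
        refine ⟨a, s, hs, ?_⟩
        rw [hφ, hφ, ← map_mul, ← sub_eq_zero, ← map_sub, hmap]
        rwa [mul_comm b]
      obtain ⟨b, ⟨d, hd⟩, rfl⟩ := IsLocalization.exists_mk'_eq q.asIdeal.primeCompl y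
      obtain ⟨a, s, hs, has⟩ := key b
      obtain ⟨a', s', hs', has'⟩ := key d
      have hunit : IsUnit (algebraMap B (Localization.AtPrime q.asIdeal) d) :=
        IsLocalization.map_units (M := q.asIdeal.primeCompl) _ ⟨d, hd⟩
      have ha' : a' ∉ p := by
        intro ha'
        have h1 : IsUnit (φ (algebraMap A _ a')) := has' ▸ hunit.mul
          ((IsLocalization.map_units (M := p.primeCompl) _ ⟨s', hs'⟩).map φ)
        rw [hφ] at h1
        exact ((IsLocalization.AtPrime.isUnit_to_map_iff _ q.asIdeal (algebraMap A B a')).1 h1) ha'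
      refine ⟨IsLocalization.mk' _ (a * s') (⟨s, hs⟩ * ⟨a', ha'⟩ : p.primeCompl), ?_⟩
      have hu2 : IsUnit (φ (algebraMap A _ s) * φ (algebraMap A _ a')) :=
        ((IsLocalization.map_units (M := p.primeCompl) (Localization.AtPrime p) ⟨s, hs⟩).map φ).mul
          ((IsLocalization.map_units (M := p.primeCompl) (Localization.AtPrime p) ⟨a', ha'⟩).map φ)
      refine hu2.mul_left_inj.1 ?_
      have h1 := congrArg φ (IsLocalization.mk'_spec (Localization.AtPrime p) (a * s')
        (⟨s, hs⟩ * ⟨a', ha'⟩ : p.primeCompl))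
      simp only [Submonoid.coe_mul, map_mul] at h1
      rw [h1, ← has, ← has']
      have hbd := IsLocalization.mk'_spec (Localization.AtPrime q.asIdeal) b
        (⟨d, hd⟩ : q.asIdeal.primeCompl)
      rw [← hbd]
      ring

theorem idAt_of_isLocalIso {R : Type u} [CommRing R] [Algebra A R] [Algebra.IsLocalIso A R]
    (q : Ideal R) [q.IsPrime] : IdAt A q := by
  obtain ⟨g, hg, hstd⟩ := Algebra.IsLocalIso.exists_notMem_isStandardOpenImmersion (R := A) q
  obtain ⟨r, hr⟩ := Algebra.IsStandardOpenImmersion.exists_away (R := A)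
    (S := Localization.Away g) (self := hstd)
  obtain ⟨q', hq', hq'c⟩ : ∃ q' : Ideal (Localization.Away g), q'.IsPrime ∧
      q'.comap (algebraMap R _) = q :=
    ⟨q.map (algebraMap R _), IsLocalization.isPrime_of_isPrime_disjoint (Submonoid.powers g) _ q
      ‹_› (Set.disjoint_left.2 fun x ⟨n, hn⟩ hxq => hg (‹q.IsPrime›.mem_of_pow_mem n
        (by rwa [show g ^ n = x from hn]))),
      IsLocalization.comap_map_of_isPrime_disjoint (Submonoid.powers g) _ ‹_›
        (Set.disjoint_left.2 fun x ⟨n, hn⟩ hxq => hg (‹q.IsPrime›.mem_of_pow_mem n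
          (by rwa [show g ^ n = x from hn])))⟩
  have hiff : ∀ a : A, a ∈ q.comap (algebraMap A R) ↔ algebraMap A (Localization.Away g) a ∈ q' := by
    intro a
    rw [← hq'c, Ideal.comap_comap, ← IsScalarTower.algebraMap_eq]
    rfl
  have hrp : r ∉ q.comap (algebraMap A R) := fun h =>
    hq'.ne_top (Ideal.eq_top_of_isUnit_mem _ ((hiff r).1 h)
      (IsLocalization.Away.algebraMap_isUnit r))
  refine ⟨fun a c hc hca => ?_, fun b => ?_⟩
  · obtain ⟨⟨x, ⟨_, n, rfl⟩⟩, hxn⟩ :=
      IsLocalization.surj (Submonoid.powers r) (algebraMap R (Localization.Away g) c)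
    have hxp : x ∉ q.comap (algebraMap A R) := by
      rw [hiff, ← hxn]
      intro hmem
      rcases hq'.mem_or_mem hmem with h | h
      · exact hc (by rw [← hq'c]; exact h)
      · exact hrp ((hiff r).2 (hq'.mem_of_pow_mem n (by rwa [← map_pow])))
    have h0 : algebraMap A (Localization.Away g) (x * a) = 0 := by
      rw [map_mul, ← hxn, mul_right_comm, IsScalarTower.algebraMap_apply A R (Localization.Away g) a,
        ← map_mul, hca, map_zero, zero_mul]
    obtain ⟨⟨_, k, rfl⟩, hk⟩ := (IsLocalization.map_eq_zero_iff (Submonoid.powers r) _ _).1 h0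
    refine ⟨r ^ k * x, fun h => ?_, by rw [mul_assoc]; exact hk⟩
    rcases (Ideal.IsPrime.comap (algebraMap A R)).mem_or_mem h with h | h
    · exact hrp ((Ideal.IsPrime.comap (algebraMap A R)).mem_of_pow_mem k h)
    · exact hxp h
  · obtain ⟨⟨a, ⟨_, n, rfl⟩⟩, han⟩ :=
      IsLocalization.surj (Submonoid.powers r) (algebraMap R (Localization.Away g) b)
    have h0 : algebraMap R (Localization.Away g)
        (algebraMap A R (r ^ n) * b - algebraMap A R a) = 0 := by
      rw [map_sub, map_mul, ← IsScalarTower.algebraMap_apply, ← IsScalarTower.algebraMap_apply,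
        mul_comm, sub_eq_zero]
      exact han
    obtain ⟨⟨_, k, rfl⟩, hk⟩ := (IsLocalization.map_eq_zero_iff (Submonoid.powers g) _ _).1 h0
    exact ⟨a, r ^ n, fun h => hrp ((Ideal.IsPrime.comap (algebraMap A R)).mem_of_pow_mem n h),
      g ^ k, fun h => hg (‹q.IsPrime›.mem_of_pow_mem k h), hk⟩

theorem identifiesLocalRings_of_isIndZariski {B : Type u} [CommRing B] [Algebra A B]
    (h : EtPBC.IsIndZariski A B) : EtPBC.IdentifiesLocalRings A B := by
  obtain ⟨H⟩ := isIndZariski_iff.mp h
  refine identifiesLocalRings_iff.2 fun q => ?_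
  have hcomap : ∀ j, (q.asIdeal.comap (H.g j).toRingHom).comap (algebraMap A (H.G j)) =
      q.asIdeal.comap (algebraMap A B) := fun j => by
    rw [Ideal.comap_comap]
    exact congrArg (fun f => q.asIdeal.comap f) (H.g j).comp_algebraMap
  refine ⟨fun a c hc hca => ?_, fun b => ?_⟩
  · obtain ⟨j, c', rfl⟩ := H.surj c
    obtain ⟨k, u, hu⟩ := H.zero j (c' * algebraMap A (H.G j) a) (by
      rw [map_mul, AlgHom.commutes, hca])
    rw [map_mul, AlgHom.commutes] at hu
    have := H.prop k
    obtain ⟨s, hs, hsa⟩ := (idAt_of_isLocalIso (A := A) (q.asIdeal.comap (H.g k).toRingHom)).1 a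
      (H.f u c') (fun hmem => hc (by
        have : H.g k (H.f u c') ∈ q.asIdeal := hmem
        rwa [H.g_f] at this)) hu
    exact ⟨s, by rwa [hcomap] at hs, hsa⟩
  · obtain ⟨j, b', rfl⟩ := H.surj b
    have := H.prop j
    obtain ⟨a, s, hs, c, hc, hca⟩ :=
      (idAt_of_isLocalIso (A := A) (q.asIdeal.comap (H.g j).toRingHom)).2 b'
    refine ⟨a, s, by rwa [hcomap] at hs, H.g j c, hc, ?_⟩
    rw [← AlgHom.commutes (H.g j) s, ← AlgHom.commutes (H.g j) a, ← map_mul, ← map_sub, ← map_mul,
      hca, map_zero]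

section IdLocal

variable {B C : Type u} [CommRing B] [CommRing C] [Algebra A B]

theorem identifiesLocalRings_trans [Algebra B C] [Algebra A C] [IsScalarTower A B C]
    (h₁ : EtPBC.IdentifiesLocalRings A B) (h₂ : EtPBC.IdentifiesLocalRings B C) :
    EtPBC.IdentifiesLocalRings A C := by
  rw [identifiesLocalRings_iff] at *
  intro q
  have hq := h₂ q
  have hr := h₁ ⟨q.asIdeal.comap (algebraMap B C), inferInstance⟩
  have hcomap : (q.asIdeal.comap (algebraMap B C)).comap (algebraMap A B) =
      q.asIdeal.comap (algebraMap A C) := by rw [Ideal.comap_comap, ← IsScalarTower.algebraMap_eq]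
  refine ⟨fun a c hc hca => ?_, fun y => ?_⟩
  · rw [IsScalarTower.algebraMap_apply A B C] at hca
    obtain ⟨d, hd, hda⟩ := hq.1 _ c hc hca
    obtain ⟨s, hs, hsa⟩ := hr.1 a d hd hda
    exact ⟨s, by rwa [hcomap] at hs, hsa⟩
  · obtain ⟨b, t, ht, c, hc, hcy⟩ := hq.2 y
    obtain ⟨a, s, hs, d, hd, hdb⟩ := hr.2 b
    obtain ⟨a', s', hs', d', hd', hdt⟩ := hr.2 t
    have ha' : algebraMap A B a' ∉ q.asIdeal.comap (algebraMap B C) := by
      intro h
      have h1 : d' * (algebraMap A B s' * t - algebraMap A B a') ∈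
          q.asIdeal.comap (algebraMap B C) := by rw [hdt]; exact zero_mem _
      have h2 := ((q.2.comap (algebraMap B C)).mem_or_mem h1).resolve_left hd'
      have h3 := Ideal.add_mem _ h2 h
      rw [sub_add_cancel] at h3
      rcases (q.2.comap (algebraMap B C)).mem_or_mem h3 with h4 | h4
      · exact hs' h4
      · exact ht h4
    have hp' : ∀ {x : A}, x ∈ q.asIdeal.comap (algebraMap A C) →
        algebraMap A B x ∈ q.asIdeal.comap (algebraMap B C) := fun {x} h => by
      rw [← hcomap] at h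
      exact h
    refine ⟨a * s', a' * s, fun h => ?_, c * algebraMap B C (d * d'), fun h => ?_, ?_⟩
    · rcases (q.2.comap (algebraMap A C)).mem_or_mem h with h | h
      · exact ha' (hp' h)
      · exact hs (hp' h)
    · rw [map_mul] at h
      rcases q.2.mem_or_mem h with h | h
      · exact hc h
      · rcases q.2.mem_or_mem h with h | h
        · exact hd h
        · exact hd' h
    · have e1 := congrArg (algebraMap B C) hdb
      have e2 := congrArg (algebraMap B C) hdt
      simp only [map_mul, map_sub, map_zero, IsScalarTower.algebraMap_apply A B C] at e1 e2 hcy ⊢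
      linear_combination (algebraMap B C d * algebraMap B C d' * algebraMap B C (algebraMap A B s) *
          algebraMap B C (algebraMap A B s')) * hcy -
        (c * algebraMap B C d * algebraMap B C (algebraMap A B s) * y) * e2 +
        (c * algebraMap B C d' * algebraMap B C (algebraMap A B s')) * e1

theorem identifiesLocalRings_cancel [Algebra B C] [Algebra A C] [IsScalarTower A B C]
    (h₁ : EtPBC.IdentifiesLocalRings A B) (h₂ : EtPBC.IdentifiesLocalRings A C) :
    EtPBC.IdentifiesLocalRings B C := by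
  rw [identifiesLocalRings_iff] at *
  intro q
  have hq := h₂ q
  have hr := h₁ ⟨q.asIdeal.comap (algebraMap B C), inferInstance⟩
  have hcomap : (q.asIdeal.comap (algebraMap B C)).comap (algebraMap A B) =
      q.asIdeal.comap (algebraMap A C) := by rw [Ideal.comap_comap, ← IsScalarTower.algebraMap_eq]
  refine ⟨fun b c hc hcb => ?_, fun y => ?_⟩
  · obtain ⟨a, s, hs, d, hd, hdb⟩ := hr.2 b
    have e1 := congrArg (algebraMap B C) hdb
    simp only [map_mul, map_sub, map_zero, ← IsScalarTower.algebraMap_apply A B C] at e1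
    have hd' : algebraMap B C d ∉ q.asIdeal := hd
    have hca : (c * algebraMap B C d) * algebraMap A C a = 0 := by
      linear_combination (algebraMap B C d * algebraMap A C s) * hcb - c * e1
    obtain ⟨t, ht, hta⟩ := hq.1 a _ (fun h => (q.2.mem_or_mem h).elim hc hd') hca
    have hp' : ∀ {x : A}, algebraMap A B x ∈ q.asIdeal.comap (algebraMap B C) →
        x ∈ q.asIdeal.comap (algebraMap A C) := fun {x} h => by
      rw [← hcomap]
      exact h
    refine ⟨d * algebraMap A B (t * s), fun h => ?_, ?_⟩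
    · rcases (q.2.comap (algebraMap B C)).mem_or_mem h with h | h
      · exact hd h
      · rcases (q.2.comap (algebraMap A C)).mem_or_mem (hp' h) with h | h
        · exact ht h
        · exact hs (by rw [hcomap]; exact h)
    · have e2 := congrArg (algebraMap A B) hta
      simp only [map_mul, map_zero] at e2 ⊢
      linear_combination (algebraMap A B t) * hdb + d * e2
  · obtain ⟨a, s, hs, c, hc, hcy⟩ := hq.2 y
    refine ⟨algebraMap A B a, algebraMap A B s, fun h => hs ?_, c, hc, ?_⟩
    · rw [← hcomap]; exact h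
    · simpa [← IsScalarTower.algebraMap_apply A B C] using hcy

theorem IdAt.exists_le {q : PrimeSpectrum B} (h : IdAt A q.asIdeal) {p : PrimeSpectrum A}
    (hp : p.asIdeal ≤ q.asIdeal.comap (algebraMap A B)) :
    ∃ q' : PrimeSpectrum B, q'.asIdeal ≤ q.asIdeal ∧ q'.asIdeal.comap (algebraMap A B) = p.asIdeal := by
  let q₀ : Ideal B :=
    { carrier := {b | ∃ a s : A, a ∈ p.asIdeal ∧ s ∉ q.asIdeal.comap (algebraMap A B) ∧
        ∃ c ∉ q.asIdeal, c * (algebraMap A B s * b - algebraMap A B a) = 0}
      zero_mem' := ⟨0, 1, zero_mem _, (q.2.comap _).one_notMem, 1, q.2.one_notMem, by simp⟩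
      add_mem' := by
        rintro b b' ⟨a, s, ha, hs, c, hc, e⟩ ⟨a', s', ha', hs', c', hc', e'⟩
        refine ⟨a * s' + a' * s, s * s', add_mem (Ideal.mul_mem_right _ _ ha)
          (Ideal.mul_mem_right _ _ ha'), fun hh => ((q.2.comap _).mem_or_mem hh).elim hs hs',
          c * c', fun hh => (q.2.mem_or_mem hh).elim hc hc', ?_⟩
        simp only [map_mul, map_add]
        linear_combination (c' * algebraMap A B s') * e + (c * algebraMap A B s) * e'
      smul_mem' := by
        rintro r b ⟨a, s, ha, hs, c, hc, e⟩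
        obtain ⟨a', s', hs', c', hc', e'⟩ := h.2 r
        refine ⟨a * a', s * s', Ideal.mul_mem_right _ _ ha,
          fun hh => ((q.2.comap _).mem_or_mem hh).elim hs hs',
          c * c', fun hh => (q.2.mem_or_mem hh).elim hc hc', ?_⟩
        simp only [map_mul, smul_eq_mul]
        linear_combination (c' * algebraMap A B s' * r) * e + (c * algebraMap A B a) * e' }
  have key : ∀ (b : B) (a s : A), s ∉ q.asIdeal.comap (algebraMap A B) → ∀ c ∉ q.asIdeal,
      c * (algebraMap A B s * b - algebraMap A B a) = 0 → (b ∈ q₀ ↔ a ∈ p.asIdeal) := by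
    intro b a s hs c hc e
    refine ⟨?_, fun ha => ⟨a, s, ha, hs, c, hc, e⟩⟩
    rintro ⟨a', s', ha', hs', c', hc', e'⟩
    obtain ⟨t, ht, hte⟩ := h.1 (a * s' - a' * s) (c * c')
      (fun hh => (q.2.mem_or_mem hh).elim hc hc') (by
        simp only [map_mul, map_sub]
        linear_combination -(c' * algebraMap A B s') * e + (c * algebraMap A B s) * e')
    have h2 : t * (a * s' - a' * s) ∈ p.asIdeal := hte ▸ zero_mem _
    have h3 := (p.2.mem_or_mem h2).resolve_left fun hh => ht (hp hh)
    have h4 := add_mem h3 (Ideal.mul_mem_right s _ ha')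
    rw [sub_add_cancel] at h4
    exact (p.2.mem_or_mem h4).resolve_right fun hh => hs' (hp hh)
  have hcp : ∀ a : A, algebraMap A B a ∈ q₀ ↔ a ∈ p.asIdeal := fun a =>
    key _ a 1 (q.2.comap _).one_notMem 1 q.2.one_notMem (by simp)
  have hprime : q₀.IsPrime := by
    refine Ideal.isPrime_iff.2 ⟨fun htop => ?_, fun {x y} hxy => ?_⟩
    · exact p.2.one_notMem ((hcp 1).1 (htop ▸ Submodule.mem_top))
    · obtain ⟨a, s, hs, c, hc, e⟩ := h.2 x
      obtain ⟨a', s', hs', c', hc', e'⟩ := h.2 y
      have hxy' := (key (x * y) (a * a') (s * s')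
        (fun hh => ((q.2.comap _).mem_or_mem hh).elim hs hs') (c * c')
        (fun hh => (q.2.mem_or_mem hh).elim hc hc') (by
          simp only [map_mul]
          linear_combination (c' * algebraMap A B s' * y) * e + (c * algebraMap A B a) * e')).1 hxy
      exact (p.2.mem_or_mem hxy').imp (key x a s hs c hc e).2 (key y a' s' hs' c' hc' e').2
  refine ⟨⟨q₀, hprime⟩, ?_, Ideal.ext hcp⟩
  rintro b ⟨a, s, ha, hs, c, hc, e⟩
  have h1 : c * (algebraMap A B s * b - algebraMap A B a) ∈ q.asIdeal := e ▸ zero_mem _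
  have h2 := add_mem ((q.2.mem_or_mem h1).resolve_left hc) (hp ha : algebraMap A B a ∈ q.asIdeal)
  rw [sub_add_cancel] at h2
  exact (q.2.mem_or_mem h2).resolve_left hs

theorem IdAt.eq_of_le {q q₁ q₂ : PrimeSpectrum B} (h : IdAt A q.asIdeal)
    (h₁ : q₁.asIdeal ≤ q.asIdeal) (h₂ : q₂.asIdeal ≤ q.asIdeal)
    (he : q₁.asIdeal.comap (algebraMap A B) = q₂.asIdeal.comap (algebraMap A B)) : q₁ = q₂ := by
  have key : ∀ r : PrimeSpectrum B, r.asIdeal ≤ q.asIdeal → ∀ (b : B) (a s : A),
      s ∉ q.asIdeal.comap (algebraMap A B) → ∀ c ∉ q.asIdeal,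
      c * (algebraMap A B s * b - algebraMap A B a) = 0 →
      (b ∈ r.asIdeal ↔ a ∈ r.asIdeal.comap (algebraMap A B)) := by
    intro r hr b a s hs c hc e
    have h1 : c * (algebraMap A B s * b - algebraMap A B a) ∈ r.asIdeal := e ▸ zero_mem _
    have h2 := (r.2.mem_or_mem h1).resolve_left fun hh => hc (hr hh)
    refine ⟨fun hb => ?_, fun ha => ?_⟩
    · have h3 := sub_mem (Ideal.mul_mem_left _ (algebraMap A B s) hb) h2
      rwa [sub_sub_cancel] at h3
    · have h3 := add_mem h2 (ha : algebraMap A B a ∈ r.asIdeal)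
      rw [sub_add_cancel] at h3
      exact (r.2.mem_or_mem h3).resolve_left fun hh => hs (hr hh)
  refine PrimeSpectrum.ext (Ideal.ext fun b => ?_)
  obtain ⟨a, s, hs, c, hc, e⟩ := h.2 b
  rw [key q₁ h₁ b a s hs c hc e, key q₂ h₂ b a s hs c hc e, he]

end IdLocal

end Groth.EtaleDeep.IndEt
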