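import Groth.Agent.EtaleDeep.IndEt.Retract
import Groth.Agent.FlatMorOne.WeaklyEtaleUnram
import Groth.Agent.Hensel1.Local
import Groth.Prelude.Def_EtBase

/-!
# Local rings at maximal ideals when etale covers have retractions
-/

set_option autoImplicit false
set_option linter.style.haveILetI false

universe u

open CategoryTheory TensorProduct IsLocalRing Polynomial

namespace Groth.EtaleDeep.IndEt

variable {A : Type u} [CommRing A] (m : Ideal A) [m.IsMaximal]

theorem surjective_residueField : Function.Surjective (algebraMap A m.ResidueField) := by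
  rw [IsScalarTower.algebraMap_eq A (A ⧸ m) m.ResidueField, RingHom.coe_comp]
  exact (Ideal.bijective_algebraMap_quotient_residueField m).2.comp Ideal.Quotient.mk_surjective

theorem ker_residueField : RingHom.ker (algebraMap A m.ResidueField) = m :=
  Ideal.ker_algebraMap_residueField m

/-- With retractions, an etale algebra with a point over `m` maps to `A_m`. -/
theorem exists_algHom_localization (hA : ProEtW.HasEtaleRetractions A) (E : Type u) [CommRing E]
    [Algebra A E] [Algebra.Etale A E] {K : Type u} [Field K] (σ : E →+* K)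
    (hσ : (RingHom.ker (σ.comp (algebraMap A E))) = m) :
    Nonempty (E →ₐ[A] Localization.AtPrime m) := by
  obtain ⟨f, hf, hff⟩ := exists_faithfullyFlat_prod (A := A) E m fun p hp => by
    have hpm : m = p.asIdeal := (‹m.IsMaximal›).eq_of_le p.2.ne_top hp
    refine ⟨⟨RingHom.ker σ, RingHom.ker_isPrime σ⟩, PrimeSpectrum.ext ?_⟩
    rw [← hpm, ← hσ]
    exact RingHom.comap_ker σ (algebraMap A E)
  obtain ⟨r⟩ := hA (E × Localization.Away f) hff (etale_prod E _)
  exact exists_factor_fst hf r fun e he1 he => by
    have hu : IsUnit (algebraMap A (Localization.AtPrime m) e) :=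
      IsLocalization.map_units (M := m.primeCompl) _ ⟨e, fun hem =>
        (‹m.IsMaximal›).ne_top ((Ideal.eq_top_iff_one _).2 (by simpa using m.add_mem hem he1))⟩
    exact hu.mul_left_cancel (by rw [← map_mul, he.eq, mul_one])

/-- A point in the residue field at `m` singles out an open on which it is the only one. -/
theorem exists_isolate (E : Type u) [CommRing E] [Algebra A E] [Algebra.Etale A E]
    (σ : E →ₐ[A] m.ResidueField) :
    ∃ h : E, σ h = 1 ∧ ∀ g : E →ₐ[A] m.ResidueField, g h ≠ 0 → g = σ := by
  let S := (A ⧸ m) ⊗[A] E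
  letI : Field (A ⧸ m) := Ideal.Quotient.field m
  let lift : (E →ₐ[A] m.ResidueField) → (S →ₐ[A ⧸ m] m.ResidueField) := fun g =>
    Algebra.TensorProduct.lift (Algebra.ofId _ _) g fun _ _ => Commute.all _ _
  have hlift : ∀ g e, lift g (1 ⊗ₜ e) = g e := fun g e => by
    refine (Algebra.TensorProduct.lift_tmul _ _ _ _ _).trans ?_
    rw [map_one, one_mul]
  have hk := surjective_residueField m
  have hsurj : Function.Surjective (lift σ) := fun y => by
    obtain ⟨a, rfl⟩ := hk y
    exact ⟨1 ⊗ₜ algebraMap A E a, (hlift σ _).trans (σ.commutes a)⟩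
  let e₀ : (A ⧸ m) ≃ₐ[A ⧸ m] m.ResidueField :=
    AlgEquiv.ofBijective (Algebra.ofId _ _) (Ideal.bijective_algebraMap_quotient_residueField m)
  have : Algebra.Etale (A ⧸ m) m.ResidueField := Algebra.Etale.of_equiv e₀
  let K := RingHom.ker (lift σ).toRingHom
  have hKfg : K.FG := Algebra.FinitePresentation.ker_fG_of_surjective (lift σ) hsurj
  have hflat : Module.Flat S (S ⧸ K) := by
    let e₁ : (S ⧸ K) ≃ₐ[A ⧸ m] m.ResidueField := Ideal.quotientKerAlgEquivOfSurjective hsurj
    have : Algebra.Etale (A ⧸ m) (S ⧸ K) := Algebra.Etale.of_equiv e₁.symm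
    have : Algebra.Etale S (S ⧸ K) := Algebra.Etale.of_restrictScalars (A ⧸ m) _ _
    exact Algebra.Smooth.flat S (S ⧸ K)
  obtain ⟨e, he, hKe⟩ := (Ideal.isIdempotentElem_iff_of_fg K hKfg).1
    ((pow_two K).symm.trans (Groth.FlatMorOne.sq_eq_of_flat_quotient K))
  have hinc : ∀ t : S, ∃ x : E, (1 : A ⧸ m) ⊗ₜ x = t := by
    intro t
    induction t using TensorProduct.induction_on with
    | zero => exact ⟨0, tmul_zero _ _⟩
    | tmul b y =>
      obtain ⟨b, rfl⟩ := Ideal.Quotient.mk_surjective b
      exact ⟨b • y, by rw [← smul_tmul, ← Algebra.algebraMap_eq_smul_one]; rfl⟩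
    | add p q hp hq =>
      obtain ⟨p, rfl⟩ := hp
      obtain ⟨q, rfl⟩ := hq
      exact ⟨p + q, tmul_add _ _ _⟩
  obtain ⟨h₀, hh₀⟩ := hinc e
  have heσ : lift σ e = 0 := hKe.ge (Ideal.mem_span_singleton_self e)
  refine ⟨1 - h₀, by rw [map_sub, map_one, ← hlift σ h₀, hh₀, heσ, sub_zero], fun g hg => ?_⟩
  rw [map_sub, map_one, ← hlift g h₀, hh₀] at hg
  have hge : lift g e = 0 :=
    (IsIdempotentElem.iff_eq_zero_or_one.1 (he.map (lift g))).resolve_right fun h1 =>
      hg (by rw [h1, sub_self])
  refine AlgHom.ext fun x => ?_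
  obtain ⟨a, ha⟩ := hk (σ x)
  have hmem : (1 : A ⧸ m) ⊗ₜ[A] (x - algebraMap A E a) ∈ K := by
    change lift σ _ = 0
    rw [hlift, map_sub, σ.commutes, ha, sub_self]
  rw [hKe, Ideal.submodule_span_eq, Ideal.mem_span_singleton'] at hmem
  obtain ⟨c, hc⟩ := hmem
  have h2 := hlift g (x - algebraMap A E a)
  rw [← hc, map_mul, hge, mul_zero, map_sub, g.commutes, ha] at h2
  exact sub_eq_zero.1 h2.symm

theorem henselianLocalRing_atPrime (hA : ProEtW.HasEtaleRetractions A) :
    HenselianLocalRing (Localization.AtPrime m) := by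
  have : HenselianRing (Localization.AtPrime m) (maximalIdeal (Localization.AtPrime m)) := by
    refine Groth.Hensel1.henselianRing_of_etaleLifts fun C _ _ _ σ => ?_
    let σ' : C →ₐ[Localization.AtPrime m] m.ResidueField := σ
    obtain ⟨H⟩ := nonempty_pres_localization m.primeCompl (Localization.AtPrime m)
    obtain ⟨i, E, _, _, _, he⟩ := H.exists_etale_model C
    letI : Algebra (H.G i) (Localization.AtPrime m) := (H.g i).toRingHom.toAlgebra
    obtain ⟨e⟩ := he
    obtain ⟨t, -, ht⟩ := H.prop i
    letI : Algebra A E := ((algebraMap (H.G i) E).comp (algebraMap A (H.G i))).toAlgebra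
    have : IsScalarTower A (H.G i) E := IsScalarTower.of_algebraMap_eq fun _ => rfl
    have : IsScalarTower A (H.G i) (Localization.AtPrime m) :=
      IsScalarTower.of_algebraMap_eq fun a => ((H.g i).commutes a).symm
    have : Algebra.Etale A (H.G i) := Algebra.Etale.of_isLocalizationAway t
    have : Algebra.Etale A E := Algebra.Etale.comp A (H.G i) E
    let ι : E →+* C := e.symm.toAlgHom.toRingHom.comp
      (Algebra.TensorProduct.includeRight :
        E →ₐ[H.G i] Localization.AtPrime m ⊗[H.G i] E).toRingHom
    have hι : ∀ a, ι (algebraMap A E a) =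
        algebraMap (Localization.AtPrime m) C (algebraMap A (Localization.AtPrime m) a) := by
      intro a
      change e.symm ((Algebra.TensorProduct.includeRight :
        E →ₐ[H.G i] Localization.AtPrime m ⊗[H.G i] E)
        (algebraMap (H.G i) E (algebraMap A (H.G i) a))) = _
      rw [AlgHom.commutes, IsScalarTower.algebraMap_apply (H.G i) (Localization.AtPrime m)
        (Localization.AtPrime m ⊗[H.G i] E), AlgEquiv.commutes,
        ← IsScalarTower.algebraMap_apply A (H.G i) (Localization.AtPrime m)]
    let σE : E →ₐ[A] m.ResidueField := AlgHom.mk (σ'.toRingHom.comp ι) fun a => by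
      change σ' (ι (algebraMap A E a)) = _
      rw [hι, σ'.commutes, ← IsScalarTower.algebraMap_apply A (Localization.AtPrime m) m.ResidueField]
    obtain ⟨h, hh1, huniq⟩ := exists_isolate m E σE
    let σh : Localization.Away h →ₐ[A] m.ResidueField :=
      IsLocalization.liftAlgHom (M := Submonoid.powers h) (f := σE) (fun y => by
        obtain ⟨n, hn⟩ := y.2
        rw [← hn, map_pow, hh1, one_pow]
        exact isUnit_one)
    obtain ⟨τ⟩ := exists_algHom_localization m hA (Localization.Away h) σh.toRingHom
      ((congrArg RingHom.ker σh.comp_algebraMap).trans (ker_residueField m))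
    let τE : E →ₐ[A] Localization.AtPrime m := τ.comp (IsScalarTower.toAlgHom A E _)
    have hsub : Subsingleton (H.G i →ₐ[A] Localization.AtPrime m) :=
      IsLocalization.algHom_subsingleton (M := Submonoid.powers t)
    let τ' : E →ₐ[H.G i] Localization.AtPrime m := AlgHom.mk τE.toRingHom fun x =>
      AlgHom.congr_fun (Subsingleton.elim (τE.comp (IsScalarTower.toAlgHom A (H.G i) E)) (H.g i)) x
    refine ⟨(Algebra.TensorProduct.lift (Algebra.ofId _ _) τ' fun _ _ => Commute.all _ _).comp
      e.toAlgHom, ?_⟩
    have key : ((IsScalarTower.toAlgHom A (Localization.AtPrime m) m.ResidueField).comp τE) = σE := by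
      refine huniq _ ?_
      exact (((IsLocalization.Away.algebraMap_isUnit (S := Localization.Away h) h).map τ).map
        (algebraMap (Localization.AtPrime m) m.ResidueField)).ne_zero
    refine AlgHom.ext fun c => ?_
    obtain ⟨d, rfl⟩ : ∃ d, e.symm d = c := ⟨e c, e.symm_apply_apply c⟩
    change algebraMap (Localization.AtPrime m) m.ResidueField
      (Algebra.TensorProduct.lift (Algebra.ofId _ _) τ' (fun _ _ => Commute.all _ _)
        (e (e.symm d))) = σ' (e.symm d)
    rw [e.apply_symm_apply]
    induction d using TensorProduct.induction_on with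
    | zero => simp
    | tmul b y =>
      rw [Algebra.TensorProduct.lift_tmul, map_mul]
      have hy : b ⊗ₜ[H.G i] y =
          algebraMap (Localization.AtPrime m) _ b * ((1 : Localization.AtPrime m) ⊗ₜ y) := by
        rw [Algebra.TensorProduct.algebraMap_apply, Algebra.TensorProduct.tmul_mul_tmul, mul_one,
          one_mul]
        rfl
      rw [hy, map_mul, map_mul, AlgEquiv.commutes, σ'.commutes]
      congr 1
      exact AlgHom.congr_fun key y
    | add p q hp hq => simp only [map_add, hp, hq]
  exact Groth.Hensel1.henselianLocalRing_of_henselianRing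

theorem isSepClosed_residueField (hA : ProEtW.HasEtaleRetractions A) :
    IsSepClosed m.ResidueField := by
  refine IsSepClosed.of_exists_root _ fun p hp hirr hsep => ?_
  have hmem : p ∈ Polynomial.lifts (algebraMap A m.ResidueField) := by
    rw [Polynomial.mem_lifts]
    exact Polynomial.map_surjective _ (surjective_residueField m) p
  obtain ⟨P, hPp, -, hP⟩ := Polynomial.lifts_and_degree_eq_and_monic hmem hp
  let T : StandardEtalePair A := ⟨P, hP, P.derivative, 1, 0, 1, by simp⟩
  have : Fact (Irreducible p) := ⟨hirr⟩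
  have hpt : T.HasMap (AdjoinRoot.root p) := by
    have hev : ∀ q : A[X], aeval (AdjoinRoot.root p) q =
        aeval (AdjoinRoot.root p) (q.map (algebraMap A m.ResidueField)) := fun q =>
      (aeval_map_algebraMap _ _ q).symm
    refine ⟨?_, ?_⟩
    · rw [hev, hPp, AdjoinRoot.aeval_eq, AdjoinRoot.mk_self]
    · rw [hev, ← derivative_map, hPp]
      exact (Separable.aeval_derivative_ne_zero hsep
        (by rw [AdjoinRoot.aeval_eq, AdjoinRoot.mk_self])).isUnit
  let σ : T.Ring →ₐ[A] AdjoinRoot p := T.lift _ hpt
  obtain ⟨τ⟩ := exists_algHom_localization m hA T.Ring σ.toRingHom (by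
    rw [show σ.toRingHom.comp (algebraMap A T.Ring) = algebraMap A (AdjoinRoot p) from σ.comp_algebraMap,
      IsScalarTower.algebraMap_eq A m.ResidueField (AdjoinRoot p),
      RingHom.ker_comp_of_injective _ (RingHom.injective _), ker_residueField])
  refine ⟨algebraMap (Localization.AtPrime m) m.ResidueField (τ T.X), ?_⟩
  have h0 := ((StandardEtalePair.hasMap_X (P := T)).map
    ((IsScalarTower.toAlgHom A (Localization.AtPrime m) m.ResidueField).comp τ)).1
  change aeval _ P = 0 at h0
  rw [← aeval_map_algebraMap m.ResidueField, hPp, coe_aeval_eq_eval] at h0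
  exact h0

theorem isStrictlyHenselianLocalRing (hA : ProEtW.HasEtaleRetractions A) :
    EtCoh.IsStrictlyHenselianLocalRing (Localization.AtPrime m) :=
  ⟨henselianLocalRing_atPrime m hA, isSepClosed_residueField m hA⟩

end Groth.EtaleDeep.IndEt
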