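import Mathlib
import Groth.Prelude.Def_ProEtW

/-!
# Profinite spectra
-/

set_option autoImplicit false
set_option linter.style.haveILetI false

universe u

open PrimeSpectrum

namespace Groth.EtaleDeep.IndEt

variable {A B : Type u} [CommRing A] [CommRing B] [Algebra A B]

/-- A spectrum without proper specializations is profinite. -/
theorem isProfinite_of_forall_le (h : ∀ p q : PrimeSpectrum B, p.asIdeal ≤ q.asIdeal → p = q) :
    ProEtW.IsProfinite (PrimeSpectrum B) := by
  have hclopen : ∀ f : B, IsClopen (basicOpen f : Set (PrimeSpectrum B)) := by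
    refine fun f => ⟨⟨isOpen_iff_forall_mem_open.2 fun p hp => ?_⟩, (basicOpen f).2⟩
    have hfp : f ∈ p.asIdeal := not_not.1 hp
    let S := p.asIdeal.primeCompl ⊔ Submonoid.powers f
    have h0 : (0 : B) ∈ S := by
      by_contra h0
      obtain ⟨q, hq, -, hd⟩ := Ideal.exists_le_prime_disjoint (⊥ : Ideal B) S
        (Set.disjoint_left.2 fun x hx hxS => h0 (by rwa [← (Ideal.mem_bot.1 hx : x = 0)]))
      have hle : q ≤ p.asIdeal := fun x hx => by
        by_contra hxp
        exact Set.disjoint_left.1 hd hx (Submonoid.mem_sup_left (hxp : x ∈ p.asIdeal.primeCompl))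
      have hqp := h ⟨q, hq⟩ p hle
      exact Set.disjoint_left.1 hd (show f ∈ q by rw [← hqp] at hfp; exact hfp)
        (Submonoid.mem_sup_right (Submonoid.mem_powers f))
    obtain ⟨s, hs, y, ⟨n, rfl⟩, hsy⟩ := Submonoid.mem_sup.1 h0
    refine ⟨basicOpen s, fun q hq hqf => ?_, (basicOpen s).2, hs⟩
    have h1 : s * f ^ n ∈ q.asIdeal := hsy ▸ q.asIdeal.zero_mem
    rcases q.2.mem_or_mem h1 with h2 | h2
    · exact hq h2
    · exact hqf (q.2.mem_of_pow_mem n h2)
  have hbasis : TopologicalSpace.IsTopologicalBasis {s : Set (PrimeSpectrum B) | IsClopen s} :=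
    PrimeSpectrum.isTopologicalBasis_basic_opens.of_isOpen_of_subset
      (fun s hs => hs.2) (Set.range_subset_iff.2 hclopen)
  have := totallySeparatedSpace_of_t0_of_basis_clopen hbasis
  exact ⟨inferInstance, inferInstance, inferInstance⟩

theorem isProfinite_of_incomparable [T2Space (PrimeSpectrum A)]
    (h : ∀ q q' : PrimeSpectrum B, q.asIdeal.comap (algebraMap A B) = q'.asIdeal.comap (algebraMap A B) →
      q.asIdeal ≤ q'.asIdeal → q = q') : ProEtW.IsProfinite (PrimeSpectrum B) := by
  refine isProfinite_of_forall_le fun p q hpq => h p q ?_ hpq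
  have hsp : PrimeSpectrum.comap (algebraMap A B) p ⤳ PrimeSpectrum.comap (algebraMap A B) q :=
    (le_iff_specializes _ _).1 (Ideal.comap_mono hpq)
  exact congrArg PrimeSpectrum.asIdeal hsp.eq

theorem incomparable_of_algebraicResidue (h : ProEtW.AlgebraicResidueExtensions A B)
    (q q' : PrimeSpectrum B)
    (he : q.asIdeal.comap (algebraMap A B) = q'.asIdeal.comap (algebraMap A B))
    (hle : q.asIdeal ≤ q'.asIdeal) : q = q' := by
  refine PrimeSpectrum.ext (le_antisymm hle fun x hx => ?_)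
  by_contra hxq
  have := h q.asIdeal
  obtain ⟨r, hr, hdvd⟩ := (Algebra.IsAlgebraic.isAlgebraic
    (R := A ⧸ q.asIdeal.comap (algebraMap A B)) (Ideal.Quotient.mk q.asIdeal x)).exists_nonzero_dvd
    (mem_nonZeroDivisors_of_ne_zero fun h0 => hxq (Ideal.Quotient.eq_zero_iff_mem.1 h0))
  obtain ⟨a, rfl⟩ := Ideal.Quotient.mk_surjective r
  obtain ⟨c, hc⟩ := hdvd
  obtain ⟨c, rfl⟩ := Ideal.Quotient.mk_surjective c
  refine hr (Ideal.Quotient.eq_zero_iff_mem.2 ?_)
  rw [he]
  have hc' : algebraMap A B a - x * c ∈ q.asIdeal := by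
    refine Ideal.Quotient.eq.1 ?_
    rw [map_mul]
    exact hc
  exact (q'.asIdeal.sub_mem_iff_left (q'.asIdeal.mul_mem_right c hx)).1 (hle hc')

end Groth.EtaleDeep.IndEt
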