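import Groth.Agent.EtaleDeep.IndEt.Along
import Groth.Agent.EtaleDeep.IndEt.ProfiniteSpec

/-!
# w-local covers over w-local rings, sections and retractions
-/

set_option autoImplicit false
set_option linter.style.haveILetI false

universe u

open Topology TopologicalSpace Set PrimeSpectrum
open Groth.EtaleDeep

namespace Groth.EtaleDeep.IndEt

variable {A : Type u} [CommRing A] {B : Type u} [CommRing B] [Algebra A B]

theorem isProfinite_zeroLocus {J : Ideal B}
    (h : ∀ p q : PrimeSpectrum B, p ∈ zeroLocus (J : Set B) → q ∈ zeroLocus (J : Set B) →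
      p.asIdeal ≤ q.asIdeal → p = q) :
    ProEtW.IsProfinite (PrimeSpectrum.zeroLocus (R := B) J) := by
  let c := PrimeSpectrum.comap (Ideal.Quotient.mk J)
  have hemb : IsClosedEmbedding c := isClosedEmbedding_comap_of_surjective _ _ Ideal.Quotient.mk_surjective
  have hrange : Set.range c = zeroLocus (J : Set B) :=
    (range_comap_of_surjective _ _ Ideal.Quotient.mk_surjective).trans (by rw [Ideal.mk_ker])
  obtain ⟨_, _, _⟩ := isProfinite_of_forall_le (B := B ⧸ J) fun p q hpq =>
    hemb.injective (h (c p) (c q) (hrange.le ⟨p, rfl⟩) (hrange.le ⟨q, rfl⟩) (Ideal.comap_mono hpq))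
  let e := hemb.isEmbedding.toHomeomorph.trans (Homeomorph.setCongr hrange)
  have := e.compactSpace
  have := e.symm.isEmbedding.t2Space
  exact ⟨inferInstance, inferInstance, ⟨e.symm.isEmbedding.isTotallyDisconnected (isTotallyDisconnected_of_totallyDisconnectedSpace _)⟩⟩

/-- Incomparability over closed points makes the fibres over closed points closed. -/
theorem isClosed_of_comap_isClosed
    (hinc : ∀ q q' : PrimeSpectrum B, q.asIdeal.comap (algebraMap A B) = q'.asIdeal.comap (algebraMap A B) →
      q.asIdeal ≤ q'.asIdeal → q = q') {q : PrimeSpectrum B}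
    (hq : IsClosed ({PrimeSpectrum.comap (algebraMap A B) q} : Set (PrimeSpectrum A))) :
    IsClosed ({q} : Set (PrimeSpectrum B)) := by
  rw [PiZero.isClosed_singleton_iff] at hq ⊢
  intro q' hqq'
  exact (hinc q q' (congrArg PrimeSpectrum.asIdeal
    (hq _ (hqq'.map (PrimeSpectrum.continuous_comap _))).symm) ((le_iff_specializes _ _).2 hqq')).symm

variable (hA : ProEtW.IsWLocal (PrimeSpectrum A)) (I : Ideal A)
  (hI : PrimeSpectrum.zeroLocus (R := A) I = ProEtW.closedPoints (PrimeSpectrum A))
  (hinc : ∀ q q' : PrimeSpectrum B, q.asIdeal.comap (algebraMap A B) = q'.asIdeal.comap (algebraMap A B) →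
    q.asIdeal ≤ q'.asIdeal → q = q')

include hI in
theorem mem_zeroLocus_map_iff_closed {C : Type u} [CommRing C] [Algebra A C] {q : PrimeSpectrum C} :
    q ∈ zeroLocus (I.map (algebraMap A C) : Set C) ↔
      IsClosed ({PrimeSpectrum.comap (algebraMap A C) q} : Set (PrimeSpectrum A)) := by
  rw [mem_zeroLocus_map_iff, hI]
  rfl

include hI hinc in
theorem zeroLocus_map_subset_closedPoints :
    PrimeSpectrum.zeroLocus (R := B) (I.map (algebraMap A B)) ⊆ ProEtW.closedPoints (PrimeSpectrum B) :=
  fun _ hq => isClosed_of_comap_isClosed hinc ((mem_zeroLocus_map_iff_closed I hI).1 hq)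

include hI hinc in
theorem exists_wLocal_over :
    ∃ (C : Type u) (_ : CommRing C) (_ : Algebra B C) (_ : Algebra A C) (_ : IsScalarTower A B C),
      EtPBC.IsIndZariski B C ∧
      Function.Bijective (Ideal.quotientMap ((I.map (algebraMap A B)).map (algebraMap B C))
        (algebraMap B C) Ideal.le_comap_map) ∧
      ProEtW.IsWLocal (PrimeSpectrum C) ∧
      ProEtW.IsWLocalMap (PrimeSpectrum.comap (algebraMap A C)) ∧
      ProEtW.closedPoints (PrimeSpectrum C) =
        PrimeSpectrum.comap (algebraMap A C) ⁻¹' ProEtW.closedPoints (PrimeSpectrum A) ∧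
      Set.BijOn (PrimeSpectrum.comap (algebraMap B C)) (ProEtW.closedPoints (PrimeSpectrum C))
        (zeroLocus (I.map (algebraMap A B) : Set B)) := by
  have hprof : ProEtW.IsProfinite (PrimeSpectrum.zeroLocus (R := B) (I.map (algebraMap A B))) :=
    isProfinite_zeroLocus fun p q hp _ hpq =>
      ((PiZero.isClosed_singleton_iff.1 (zeroLocus_map_subset_closedPoints I hI hinc hp)) q
        ((le_iff_specializes _ _).1 hpq)).symm
  obtain ⟨C, _, _, hC, hw, hcl, hq, hbij⟩ := exists_wLocal_along B (I.map (algebraMap A B)) hprof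
  letI : Algebra A C := ((algebraMap B C).comp (algebraMap A B)).toAlgebra
  have : IsScalarTower A B C := IsScalarTower.of_algebraMap_eq fun _ => rfl
  have hcl' : ProEtW.closedPoints (PrimeSpectrum C) =
      PrimeSpectrum.comap (algebraMap A C) ⁻¹' ProEtW.closedPoints (PrimeSpectrum A) := by
    rw [hcl, Ideal.map_map, ← IsScalarTower.algebraMap_eq A B C]
    ext q
    exact mem_zeroLocus_map_iff_closed I hI
  exact ⟨C, inferInstance, inferInstance, inferInstance, inferInstance, hC, hq, hw,
    ⟨isSpectralMap_comap _, fun y hy => hcl'.le hy⟩, hcl', hbij⟩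

variable [Module.FaithfullyFlat A B] [ExtremallyDisconnected (_root_.ConnectedComponents (PrimeSpectrum A))]

include hA hI hinc in
/-- A faithfully flat algebra has an ind-Zariski quotient mapping bijectively on components. -/
theorem exists_wLocal_section :
    ∃ (D : Type u) (_ : CommRing D) (_ : Algebra B D) (_ : Algebra A D) (_ : IsScalarTower A B D),
      EtPBC.IsIndZariski B D ∧ ProEtW.IsWLocal (PrimeSpectrum D) ∧
      ProEtW.IsWLocalMap (PrimeSpectrum.comap (algebraMap A D)) ∧
      Function.Bijective (PrimeSpectrum.continuous_comap (algebraMap A D)).connectedComponentsMap := by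
  have := hA.1
  obtain ⟨C, _, _, _, _, hC, -, hw, hmap, hcl, hbij⟩ := exists_wLocal_over I hI hinc
  have := hw.1
  let F := (PrimeSpectrum.continuous_comap (algebraMap A C)).connectedComponentsMap
  have hFc : Continuous F := Continuous.connectedComponentsMap_continuous _
  have hFmk : ∀ z, F (_root_.ConnectedComponents.mk z) =
      _root_.ConnectedComponents.mk (PrimeSpectrum.comap (algebraMap A C) z) := fun _ => rfl
  have hF : Function.Surjective F := by
    intro c
    obtain ⟨m, hm, rfl⟩ := PiZero.exists_closed_mk_eq hA c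
    obtain ⟨p, hp⟩ := PrimeSpectrum.comap_surjective_of_faithfullyFlat (A := A) (B := B) m
    obtain ⟨z, hz, hzp⟩ := hbij.surjOn ((mem_zeroLocus_map_iff_closed I hI).2 (by rw [hp]; exact hm))
    refine ⟨_root_.ConnectedComponents.mk z, ?_⟩
    rw [hFmk, IsScalarTower.algebraMap_eq A B C, PrimeSpectrum.comap_comp_apply, hzp, hp]
  obtain ⟨s, hs, hFs⟩ := CompactT2.ExtremallyDisconnected.projective continuous_id hFc hF
  have hFs' : ∀ c, F (s c) = c := fun c => congrFun hFs c
  obtain ⟨J, hZJ, -, hemb, hrange⟩ := exists_indZariski_quotient (A := B) (R := C) (Set.range s)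
    (isCompact_range hs).isClosed hC
  set c := PrimeSpectrum.comap (algebraMap C (C ⧸ J))
  obtain ⟨hwD, hpt⟩ := isWLocal_of_isClosedEmbedding hemb hw
  have hcomap : ∀ y, PrimeSpectrum.comap (algebraMap A (C ⧸ J)) y =
      PrimeSpectrum.comap (algebraMap A C) (c y) := fun y => by
    rw [IsScalarTower.algebraMap_eq A C (C ⧸ J), PrimeSpectrum.comap_comp_apply]
  have hmap' : ProEtW.IsWLocalMap (PrimeSpectrum.comap (algebraMap A (C ⧸ J))) :=
    ⟨isSpectralMap_comap _, fun y hy => by rw [hcomap]; exact hmap.2 _ ((hpt y).1 hy)⟩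
  refine ⟨C ⧸ J, inferInstance, inferInstance, inferInstance, inferInstance, hZJ, hwD, hmap', ?_, ?_⟩
  · intro d d' hdd
    obtain ⟨y, hy, rfl⟩ := PiZero.exists_closed_mk_eq hwD d
    obtain ⟨y', hy', rfl⟩ := PiZero.exists_closed_mk_eq hwD d'
    obtain ⟨a, ha⟩ := hrange.le ⟨y, rfl⟩
    obtain ⟨a', ha'⟩ := hrange.le ⟨y', rfl⟩
    have h1 : F (_root_.ConnectedComponents.mk (c y)) = F (_root_.ConnectedComponents.mk (c y')) := by
      rw [hFmk, hFmk, ← hcomap, ← hcomap]
      exact hdd
    rw [← ha, ← ha', hFs', hFs'] at h1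
    rw [hemb.injective (PiZero.eq_of_mk_eq hw ((hpt y).1 hy) ((hpt y').1 hy')
      (ha.symm.trans ((congrArg s h1).trans ha')))]
  · intro m
    obtain ⟨z, hz⟩ := ConnectedComponents.surjective_coe (s m)
    obtain ⟨y, hy⟩ := hrange.ge (⟨m, hz.symm⟩ : z ∈ _root_.ConnectedComponents.mk ⁻¹' Set.range s)
    refine ⟨_root_.ConnectedComponents.mk y, ?_⟩
    change _root_.ConnectedComponents.mk (PrimeSpectrum.comap (algebraMap A (C ⧸ J)) y) = m
    rw [hcomap, hy, ← hFmk, hz, hFs']

omit [Algebra A B] [Module.FaithfullyFlat A B]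
  [ExtremallyDisconnected (_root_.ConnectedComponents (PrimeSpectrum A))] in
theorem retraction_of_bijective {D : Type u} [CommRing D] [Algebra A B] [Algebra B D] [Algebra A D]
    [IsScalarTower A B D] (h : Function.Bijective (algebraMap A D)) : Nonempty (B →ₐ[A] A) :=
  ⟨(AlgEquiv.ofBijective (Algebra.ofId A D) h).symm.toAlgHom.comp (IsScalarTower.toAlgHom A B D)⟩

omit [Algebra A B] [Module.FaithfullyFlat A B]
  [ExtremallyDisconnected (_root_.ConnectedComponents (PrimeSpectrum A))] in
theorem incomparable_of_identifiesLocalRings {R S : Type u} [CommRing R] [CommRing S] [Algebra R S]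
    (h : EtPBC.IdentifiesLocalRings R S) (q q' : PrimeSpectrum S)
    (he : q.asIdeal.comap (algebraMap R S) = q'.asIdeal.comap (algebraMap R S))
    (hle : q.asIdeal ≤ q'.asIdeal) : q = q' :=
  ((identifiesLocalRings_iff.1 h) q').eq_of_le hle le_rfl he

theorem hasIndZariskiRetractions_of_wLocal {A : Type u} [CommRing A]
    (hA : ProEtW.IsWLocal (PrimeSpectrum A))
    [ExtremallyDisconnected (_root_.ConnectedComponents (PrimeSpectrum A))] :
    ProEtW.HasIndZariskiRetractions A := by
  intro B _ _ _ hB
  obtain ⟨J, hJ⟩ := (PrimeSpectrum.isClosed_iff_zeroLocus_ideal _).1 hA.2.1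
  have hid := identifiesLocalRings_of_isIndZariski hB
  obtain ⟨D, _, _, _, _, hD, hw, hmap, hbij⟩ :=
    exists_wLocal_section (B := B) hA J hJ.symm (incomparable_of_identifiesLocalRings hid)
  exact retraction_of_bijective (bijective_of_identifiesLocalRings
    (identifiesLocalRings_trans hid (identifiesLocalRings_of_isIndZariski hD)) hA hw hmap hbij)

theorem wLocal_of_hasIndZariskiRetractions {A : Type u} [CommRing A]
    (h : ProEtW.HasIndZariskiRetractions A) :
    ProEtW.IsWLocal (PrimeSpectrum A) ∧
      ExtremallyDisconnected (_root_.ConnectedComponents (PrimeSpectrum A)) := by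
  obtain ⟨r⟩ := h (WLoc A) faithfullyFlat_wLoc isIndZariski_wLoc
  have hr : Function.Surjective r := fun a => ⟨algebraMap A _ a, r.commutes a⟩
  have hw := (isWLocal_of_isClosedEmbedding
    (isClosedEmbedding_comap_of_surjective _ r.toRingHom hr) isWLocal_wLoc).1
  refine ⟨hw, ?_⟩
  have := hw.1
  let P := _root_.ConnectedComponents (PrimeSpectrum A)
  letI : TopologicalSpace P := inferInstanceAs (TopologicalSpace (_root_.ConnectedComponents _))
  let T := StoneCech (WithTopology P ⊥)
  have : DiscreteTopology (WithTopology P ⊥) := ⟨by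
    rw [eq_bot_iff]
    intro s _
    exact (WithTopology.isOpen_iff _).2 trivial⟩
  have hTproj : CompactT2.Projective T := StoneCech.projective
  have : ExtremallyDisconnected T := hTproj.extremallyDisconnected
  have hcont : Continuous fun p : WithTopology P ⊥ => p.ofTopology := continuous_of_discreteTopology
  let g : C(T, P) := ⟨stoneCechExtend hcont, continuous_stoneCechExtend hcont⟩
  obtain ⟨e, φ, hφ⟩ := exists_realize_components g
  have hZ : EtPBC.IsIndZariski A (Realize g) := isIndZariski_realize g isIndZariski_self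
  have hff : Module.FaithfullyFlat A (Realize g) := by
    have := (weaklyEtale_of_isIndZariski hZ).flat
    refine Module.FaithfullyFlat.of_comap_surjective fun p => ?_
    let pq : WithTopology P ⊥ := WithTopology.toTopology _ (_root_.ConnectedComponents.mk p)
    have hg : g (stoneCechUnit pq) = _root_.ConnectedComponents.mk p :=
      congrFun (stoneCechExtend_extends hcont) pq
    refine ⟨φ.symm ⟨(p, stoneCechUnit pq), hg.symm⟩, ?_⟩
    have h2 := (hφ (φ.symm ⟨(p, stoneCechUnit pq), hg.symm⟩)).1
    rw [φ.apply_symm_apply] at h2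
    exact (congrArg Prod.fst h2).symm
  obtain ⟨ρ⟩ := h (Realize g) hff hZ
  let σ : P → T := fun c => e ((PrimeSpectrum.continuous_comap ρ.toRingHom).connectedComponentsMap c)
  have hσ : Continuous σ := e.continuous.comp (Continuous.connectedComponentsMap_continuous _)
  have hgσ : ∀ c, g (σ c) = c := by
    intro c
    obtain ⟨x, rfl⟩ := ConnectedComponents.surjective_coe c
    have h3 := (φ (PrimeSpectrum.comap ρ.toRingHom x)).2
    rw [(hφ _).1] at h3
    refine h3.symm.trans (congrArg _ ?_)
    rw [← PrimeSpectrum.comap_comp_apply,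
      show ρ.toRingHom.comp (algebraMap A (Realize g)) = algebraMap A A from ρ.comp_algebraMap]
    exact PrimeSpectrum.ext (Ideal.ext fun a => Iff.rfl)
  refine CompactT2.Projective.extremallyDisconnected ?_
  intro Y Z _ _ _ _ _ _ f π hf hπ hsurj
  obtain ⟨k, hk, hk'⟩ := hTproj (hf.comp g.continuous) hπ hsurj
  exact ⟨k ∘ σ, hk.comp hσ, funext fun c => (congrFun hk' (σ c)).trans (congrArg f (hgσ c))⟩

end Groth.EtaleDeep.IndEt
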