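import Groth.Agent.EtaleDeep.IndEt.EtaleClosure
import Groth.Agent.EtaleDeep.IndEt.WLocalRetract
import Groth.Agent.EtaleDeep.IndEt.StrictHens

/-!
# Residue extensions under base change; strict henselization and isomorphisms
-/

set_option autoImplicit false
set_option linter.style.haveILetI false

universe u

open CategoryTheory TensorProduct

namespace Groth.EtaleDeep.IndEt

variable {A B C : Type u} [CommRing A] [CommRing B] [CommRing C] [Algebra A B] [Algebra A C]

theorem incomparable_of_isIndEtale (h : EtPBC.IsIndEtale A B) (q q' : PrimeSpectrum B)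
    (he : q.asIdeal.comap (algebraMap A B) = q'.asIdeal.comap (algebraMap A B))
    (hle : q.asIdeal ≤ q'.asIdeal) : q = q' := by
  obtain ⟨H⟩ := isIndEtale_iff.mp h
  refine PrimeSpectrum.ext (le_antisymm hle fun b hb => ?_)
  obtain ⟨j, x, rfl⟩ := H.surj b
  have := H.prop j
  have : Algebra.QuasiFinite A (H.G j) := inferInstance
  have h2 : q.asIdeal.comap (H.g j).toRingHom = q'.asIdeal.comap (H.g j).toRingHom :=
    Algebra.QuasiFinite.eq_of_le_of_under_eq (R := A) _ _ (Ideal.comap_mono hle) (by
      simp only [Ideal.under_def, Ideal.comap_comap, AlgHom.toRingHom_eq_coe, AlgHom.comp_algebraMap]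
      exact he)
  exact h2.ge (show x ∈ q'.asIdeal.comap (H.g j).toRingHom from hb)

theorem exists_prime_over_tensor (q : PrimeSpectrum B) (m : PrimeSpectrum C)
    (he : q.asIdeal.comap (algebraMap A B) = m.asIdeal.comap (algebraMap A C)) :
    ∃ Q : PrimeSpectrum (B ⊗[A] C),
      PrimeSpectrum.comap (Algebra.TensorProduct.includeLeftRingHom : B →+* B ⊗[A] C) Q = q ∧
      PrimeSpectrum.comap
        (Algebra.TensorProduct.includeRight : C →ₐ[A] B ⊗[A] C).toRingHom Q = m := by
  let p := q.asIdeal.comap (algebraMap A B)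
  letI : Algebra p.ResidueField q.asIdeal.ResidueField :=
    (Ideal.ResidueField.mapₐ p q.asIdeal (Algebra.ofId A B) rfl).toRingHom.toAlgebra
  letI : Algebra p.ResidueField m.asIdeal.ResidueField :=
    (Ideal.ResidueField.mapₐ p m.asIdeal (Algebra.ofId A C) he).toRingHom.toAlgebra
  have : IsScalarTower A p.ResidueField q.asIdeal.ResidueField := IsScalarTower.of_algebraMap_eq
    fun a => ((Ideal.ResidueField.mapₐ p q.asIdeal (Algebra.ofId A B) rfl).commutes a).symm
  have : IsScalarTower A p.ResidueField m.asIdeal.ResidueField := IsScalarTower.of_algebraMap_eq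
    fun a => ((Ideal.ResidueField.mapₐ p m.asIdeal (Algebra.ofId A C) he).commutes a).symm
  let T := q.asIdeal.ResidueField ⊗[p.ResidueField] m.asIdeal.ResidueField
  obtain ⟨M, hM⟩ := Ideal.exists_maximal T
  let i₁ : q.asIdeal.ResidueField →ₐ[A] T := Algebra.TensorProduct.includeLeft
  let i₂ : m.asIdeal.ResidueField →ₐ[A] T :=
    (Algebra.TensorProduct.includeRight : m.asIdeal.ResidueField →ₐ[p.ResidueField] T).restrictScalars A
  let f₁ : B →ₐ[A] T := i₁.comp (IsScalarTower.toAlgHom A B q.asIdeal.ResidueField)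
  let f₂ : C →ₐ[A] T := i₂.comp (IsScalarTower.toAlgHom A C m.asIdeal.ResidueField)
  let u : B ⊗[A] C →ₐ[A] T := Algebra.TensorProduct.lift f₁ f₂ fun _ _ => Commute.all _ _
  refine ⟨⟨M.comap u.toRingHom, hM.isPrime.comap _⟩, PrimeSpectrum.ext ?_, PrimeSpectrum.ext ?_⟩
  · change (M.comap u.toRingHom).comap Algebra.TensorProduct.includeLeftRingHom = _
    rw [Ideal.comap_comap, show u.toRingHom.comp Algebra.TensorProduct.includeLeftRingHom =
      i₁.toRingHom.comp (algebraMap B q.asIdeal.ResidueField) from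
        RingHom.ext fun x => by simp [u, f₁], ← Ideal.comap_comap,
      Ideal.eq_bot_of_prime (M.comap i₁.toRingHom)]
    exact Ideal.ker_algebraMap_residueField _
  · change (M.comap u.toRingHom).comap
      (Algebra.TensorProduct.includeRight : C →ₐ[A] B ⊗[A] C).toRingHom = _
    rw [Ideal.comap_comap, show u.toRingHom.comp
      (Algebra.TensorProduct.includeRight : C →ₐ[A] B ⊗[A] C).toRingHom =
      i₂.toRingHom.comp (algebraMap C m.asIdeal.ResidueField) from
        RingHom.ext fun x => by simp [u, f₂], ← Ideal.comap_comap,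
      Ideal.eq_bot_of_prime (M.comap i₂.toRingHom)]
    exact Ideal.ker_algebraMap_residueField _

attribute [local instance] Algebra.TensorProduct.rightAlgebra

theorem algebraicResidue_tensor (h : ProEtW.AlgebraicResidueExtensions A B) :
    ProEtW.AlgebraicResidueExtensions C (B ⊗[A] C) := by
  intro Q hQ
  let ι : B →+* B ⊗[A] C := Algebra.TensorProduct.includeLeftRingHom
  let q := Q.comap ι
  have := h q
  let P := Q.comap (algebraMap C (B ⊗[A] C))
  have : IsDomain (C ⧸ P) := inferInstance
  have hA : P.comap (algebraMap A C) = q.comap (algebraMap A B) := by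
    rw [Ideal.comap_comap, Ideal.comap_comap]
    refine congrArg (fun r => Q.comap r) (RingHom.ext fun a => ?_)
    exact ((Algebra.TensorProduct.includeRight : C →ₐ[A] B ⊗[A] C).commutes a).trans
      ((Algebra.TensorProduct.includeLeft : B →ₐ[A] B ⊗[A] C).commutes a).symm
  let f : A ⧸ q.comap (algebraMap A B) →+* C ⧸ P :=
    Ideal.quotientMap P (algebraMap A C) hA.ge
  have hf : Function.Injective f := Ideal.quotientMap_injective' hA.le
  let g : B ⧸ q →+* (B ⊗[A] C) ⧸ Q := Ideal.quotientMap Q ι le_rfl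
  have hfg : (algebraMap (C ⧸ P) ((B ⊗[A] C) ⧸ Q)).comp f =
      g.comp (algebraMap (A ⧸ q.comap (algebraMap A B)) (B ⧸ q)) := by
    refine Ideal.Quotient.ringHom_ext (RingHom.ext fun a => ?_)
    exact congrArg (Ideal.Quotient.mk Q)
      (((Algebra.TensorProduct.includeRight : C →ₐ[A] B ⊗[A] C).commutes a).trans
      ((Algebra.TensorProduct.includeLeft : B →ₐ[A] B ⊗[A] C).commutes a).symm)
  refine ⟨fun x => ?_⟩
  obtain ⟨x, rfl⟩ := Ideal.Quotient.mk_surjective x
  suffices Ideal.Quotient.mk Q x ∈
      Subalgebra.algebraicClosure (C ⧸ P) ((B ⊗[A] C) ⧸ Q) from this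
  induction x using TensorProduct.induction_on with
  | zero => rw [map_zero]; exact zero_mem _
  | tmul b c =>
    rw [show b ⊗ₜ[A] c = ι b * algebraMap C (B ⊗[A] C) c by
      simp [ι, RingHom.algebraMap_toAlgebra], map_mul]
    refine mul_mem ?_ (Subalgebra.algebraMap_mem _ (Ideal.Quotient.mk P c))
    exact (Algebra.IsAlgebraic.isAlgebraic (R := A ⧸ q.comap (algebraMap A B))
      (Ideal.Quotient.mk q b)).ringHom_of_comp_eq f g hf hfg
  | add x y hx hy => rw [map_add]; exact add_mem hx hy

omit [Algebra A B] [Algebra A C] in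
theorem isStrictlyHenselianLocalRing_of_ringEquiv {R S : Type u} [CommRing R] [CommRing S]
    (e : R ≃+* S) (h : EtCoh.IsStrictlyHenselianLocalRing R) :
    EtCoh.IsStrictlyHenselianLocalRing S := by
  obtain ⟨hR, hk⟩ := h
  have : IsLocalRing S := e.isLocalRing
  have hS : HenselianLocalRing S := by
    refine { is_henselian := fun f hf a₀ h1 h2 => ?_ }
    have hev : ∀ (g : Polynomial S) (a : S),
        (g.map e.symm.toRingHom).eval (e.symm a) = e.symm (g.eval a) := fun g a => by
      rw [Polynomial.eval_map]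
      exact Polynomial.eval₂_at_apply e.symm.toRingHom a
    obtain ⟨a, ha, ha'⟩ := HenselianLocalRing.is_henselian (f.map e.symm.toRingHom) (hf.map _)
      (e.symm a₀) (by rw [hev, IsLocalRing.mem_maximalIdeal]; exact fun hu => h1 (by simpa using hu.map e))
      (by rw [Polynomial.derivative_map, hev]; exact h2.map e.symm)
    refine ⟨e a, ?_, ?_⟩
    · have h3 := hev f (e a)
      rw [e.symm_apply_apply, ha.eq_zero] at h3
      exact e.symm.injective (by rw [map_zero]; exact h3.symm)
    · rw [IsLocalRing.mem_maximalIdeal] at ha' ⊢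
      exact fun hu => ha' (by simpa using hu.map e.symm)
  refine ⟨hS, IsSepClosed.of_exists_root _ fun p hp hirr hsep => ?_⟩
  let ek := IsLocalRing.ResidueField.mapEquiv e
  obtain ⟨x, hx⟩ := IsSepClosed.exists_root (p.map ek.symm.toRingHom)
    (by rw [Polynomial.degree_map]; exact hirr.degree_pos.ne') (hsep.map)
  refine ⟨ek x, ek.symm.injective ?_⟩
  have h2 : (p.map ek.symm.toRingHom).eval (ek.symm (ek x)) = ek.symm (p.eval (ek x)) := by
    rw [Polynomial.eval_map]
    exact Polynomial.eval₂_at_apply ek.symm.toRingHom (ek x)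
  rw [ek.symm_apply_apply] at h2
  rw [map_zero, ← h2]
  exact hx

end Groth.EtaleDeep.IndEt
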