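import Mathlib
import Groth.Agent.SitesTopoi.Clopen
import Groth.Agent.SpectralTopology.SpectralProd
import Groth.Agent.SpectralTopology.Spectral
import Groth.Agent.EtaleDeep.Spectral
import Groth.Prelude.Def_ProEtW

/-!
# Connected components of spectral spaces, w-local spaces, pullback along profinite spaces
-/

set_option autoImplicit false

universe u

open Topology TopologicalSpace Set

namespace Groth.EtaleDeep.PiZero

variable {X : Type u} [TopologicalSpace X]

local notation "π₀" => _root_.ConnectedComponents.mk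

theorem mk_eq_iff [SpectralSpace X] {x y : X} :
    π₀ x = π₀ y ↔ ∀ Z : Set X, IsClopen Z → y ∈ Z → x ∈ Z := by
  rw [ConnectedComponents.coe_eq_coe', Groth.SitesTopoi.connectedComponent_eq_sInter, mem_sInter]
  exact ⟨fun h Z hZ hy => h Z ⟨hZ, hy⟩, fun h Z hZ => h Z hZ.1 hZ.2⟩

theorem isClopen_image_mk {Z : Set X} (hZ : IsClopen Z) : IsClopen (π₀ '' Z) := by
  have h : π₀ ⁻¹' (π₀ '' Z) = Z := by
    refine Subset.antisymm ?_ (subset_preimage_image _ _)
    rintro x ⟨y, hy, hxy⟩
    exact hZ.connectedComponent_subset hy (ConnectedComponents.coe_eq_coe'.1 hxy.symm)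
  exact ⟨ConnectedComponents.isQuotientMap_coe.isClosed_preimage.1 (h.symm ▸ hZ.1),
    ConnectedComponents.isQuotientMap_coe.isOpen_preimage.1 (h.symm ▸ hZ.2)⟩

theorem mk_mem_image_iff {Z : Set X} (hZ : IsClopen Z) {x : X} : π₀ x ∈ π₀ '' Z ↔ x ∈ Z :=
  ⟨fun ⟨_, hy, hxy⟩ => hZ.connectedComponent_subset hy (ConnectedComponents.coe_eq_coe'.1 hxy.symm),
    fun h => ⟨x, h, rfl⟩⟩

theorem exists_isClopen_separating [SpectralSpace X] {x y : X} (h : π₀ x ≠ π₀ y) :
    ∃ Z : Set X, IsClopen Z ∧ y ∈ Z ∧ x ∉ Z := by
  by_contra h'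
  push Not at h'
  exact h (mk_eq_iff.2 fun Z hZ hy => h' Z hZ hy)

instance totallySeparated_pi0 [SpectralSpace X] : TotallySeparatedSpace (_root_.ConnectedComponents X) := by
  rw [totallySeparatedSpace_iff_exists_isClopen]
  intro a b hab
  obtain ⟨x, rfl⟩ := ConnectedComponents.surjective_coe a
  obtain ⟨y, rfl⟩ := ConnectedComponents.surjective_coe b
  obtain ⟨Z, hZ, hy, hx⟩ := exists_isClopen_separating hab
  exact ⟨π₀ '' Zᶜ, isClopen_image_mk hZ.compl, (mk_mem_image_iff hZ.compl).2 hx,
    fun hyc => (mk_mem_image_iff hZ.compl).1 hyc hy⟩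

instance compactSpace_pi0 [CompactSpace X] : CompactSpace (_root_.ConnectedComponents X) := Quotient.compactSpace

theorem isProfinite_pi0 [SpectralSpace X] : ProEtW.IsProfinite (_root_.ConnectedComponents X) :=
  ⟨inferInstance, inferInstance, inferInstance⟩

theorem mk_eq_of_specializes [SpectralSpace X] {x y : X} (h : x ⤳ y) : π₀ x = π₀ y :=
  (h.map ConnectedComponents.continuous_coe).eq

theorem preimage_eq_sInter [SpectralSpace X] {T : Set (_root_.ConnectedComponents X)} (hT : IsClosed T) :
    π₀ ⁻¹' T = ⋂₀ {Z : Set X | IsClopen Z ∧ π₀ ⁻¹' T ⊆ Z} := by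
  refine Subset.antisymm (subset_sInter fun Z hZ => hZ.2) fun x hx => ?_
  by_contra hxT
  obtain ⟨C, hC, hxC, hCT⟩ := compact_exists_isClopen_in_isOpen hT.isOpen_compl
    (show π₀ x ∈ Tᶜ from hxT)
  exact hx (π₀ ⁻¹' Cᶜ) ⟨hC.compl.preimage ConnectedComponents.continuous_coe,
    fun y hy hyC => hCT hyC hy⟩ hxC

/-- A profinite space is spectral. -/
theorem spectralSpace_of_profinite (T : Type*) [TopologicalSpace T] [CompactSpace T] [T2Space T]
    [TotallyDisconnectedSpace T] : SpectralSpace T := by
  have : PrespectralSpace T := .of_isTopologicalBasis isTopologicalBasis_isClopen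
    fun s hs => hs.1.isCompact
  have : QuasiSeparatedSpace T := ⟨fun U V _ hUc _ hVc => hUc.inter hVc⟩
  constructor

theorem isClosed_singleton_iff {x : X} : IsClosed ({x} : Set X) ↔ ∀ y, x ⤳ y → y = x :=
  ⟨fun h _ hy => hy.mem_closed h rfl, fun h => closure_subset_iff_isClosed.1 fun y hy =>
    h y (specializes_iff_mem_closure.2 hy)⟩

section WLocal

/-- The retraction of a w-local space onto its closed points. -/
noncomputable def retr (h : ProEtW.IsWLocal X) (x : X) : X := (h.2.2 x).exists.choose

variable (h : ProEtW.IsWLocal X)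
include h

theorem isClosed_retr (x : X) : IsClosed ({retr h x} : Set X) := (h.2.2 x).exists.choose_spec.1

theorem specializes_retr (x : X) : x ⤳ retr h x := (h.2.2 x).exists.choose_spec.2

theorem eq_retr {x y : X} (hy : IsClosed ({y} : Set X)) (hxy : x ⤳ y) : y = retr h x :=
  (h.2.2 x).unique ⟨hy, hxy⟩ ⟨isClosed_retr h x, specializes_retr h x⟩

theorem retr_of_isClosed {x : X} (hx : IsClosed ({x} : Set X)) : retr h x = x :=
  (eq_retr h hx specializes_rfl).symm

theorem retr_of_specializes {x y : X} (hxy : x ⤳ y) : retr h x = retr h y :=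
  (eq_retr h (isClosed_retr h y) (hxy.trans (specializes_retr h y))).symm

theorem isProfinite_closedPoints : ProEtW.IsProfinite (ProEtW.closedPoints X) := by
  have := h.1
  have hcl : IsClosed (ProEtW.closedPoints X) := h.2.1
  have : SpectralSpace (ProEtW.closedPoints X) := Groth.EtaleDeep.spectralSpace_subtype hcl
  have hT1 : ∀ E : Set (ProEtW.closedPoints X), StableUnderSpecialization E := fun E a b hab ha => by
    have : (b : X) = a := (hab.map continuous_subtype_val).mem_closed a.2 rfl
    rwa [Subtype.ext this]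
  have hclopen : ∀ U : Set (ProEtW.closedPoints X), IsOpen U → IsCompact U → IsClopen U :=
    fun U ho hc => ⟨Groth.SpectralTopology.isClosed_of_isClosed_ct
      (Groth.SpectralTopology.isClosed_ct ho hc) (hT1 U), ho⟩
  have hb : IsTopologicalBasis {s : Set (ProEtW.closedPoints X) | IsClopen s} :=
    PrespectralSpace.isTopologicalBasis.of_isOpen_of_subset (fun s hs => hs.2)
      fun U hU => hclopen U hU.1 hU.2
  have := totallySeparatedSpace_of_t0_of_basis_clopen hb
  exact ⟨inferInstance, inferInstance, inferInstance⟩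

theorem continuous_retr :
    Continuous fun x => (⟨retr h x, isClosed_retr h x⟩ : ProEtW.closedPoints X) := by
  have := h.1
  obtain ⟨_, _, _⟩ := isProfinite_closedPoints h
  set r := fun x => (⟨retr h x, isClosed_retr h x⟩ : ProEtW.closedPoints X)
  -- preimages of clopens are constructibly closed
  have key : ∀ U : Set (ProEtW.closedPoints X), IsClopen U →
      IsClosed[constructibleTopology X] (r ⁻¹' U) := by
    intro U hU
    have hc : IsCompact (Subtype.val '' U : Set X) :=
      hU.1.isCompact.image continuous_subtype_val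
    have heq : r ⁻¹' U = ⋂₀ {V : Set X | IsOpen V ∧ IsCompact V ∧ Subtype.val '' U ⊆ V} := by
      refine Subset.antisymm (fun x hx => mem_sInter.2 fun V hV =>
        (specializes_retr h x).mem_open hV.1 (hV.2.2 ⟨r x, hx, rfl⟩)) fun x hx => ?_
      by_contra hxU
      have hdisj : Subtype.val '' U ⊆ (closure {x})ᶜ := by
        rintro _ ⟨z, hz, rfl⟩ hzx
        exact hxU (show r x ∈ U by
          rwa [show r x = z from Subtype.ext (eq_retr h z.2 (specializes_iff_mem_closure.2 hzx)).symm])
      obtain ⟨V, hVc, hVo, hUV, hVx⟩ :=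
        PrespectralSpace.exists_isCompact_and_isOpen_between hc isClosed_closure.isOpen_compl hdisj
      exact hVx (hx V ⟨hVo, hVc, hUV⟩) (subset_closure rfl)
    rw [heq]
    exact @isClosed_sInter X (constructibleTopology X) _ fun V hV =>
      Groth.SpectralTopology.isClosed_ct hV.1 hV.2.1
  refine (isTopologicalBasis_isClopen (X := ProEtW.closedPoints X)).continuous_iff.2 fun U hU => ?_
  refine Groth.SpectralTopology.isOpen_of_isOpen_ct ?_ fun a b hab ha => ?_
  · exact (@isClosed_compl_iff X (constructibleTopology X) _).1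
      (by rw [← preimage_compl]; exact key _ hU.compl)
  · change r b ∈ U
    rwa [show r b = r a from Subtype.ext (retr_of_specializes h hab)]

theorem mk_retr (x : X) : π₀ (retr h x) = π₀ x :=
  have := h.1
  (mk_eq_of_specializes (specializes_retr h x)).symm

theorem eq_of_mk_eq {x y : X} (hx : IsClosed ({x} : Set X)) (hy : IsClosed ({y} : Set X))
    (hxy : π₀ x = π₀ y) : x = y := by
  have := h.1
  obtain ⟨_, _, _⟩ := isProfinite_closedPoints h
  have hc := (continuous_retr h).connectedComponentsLift_apply_coe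
  have h1 : (⟨retr h x, isClosed_retr h x⟩ : ProEtW.closedPoints X) = ⟨retr h y, isClosed_retr h y⟩ := by
    rw [← hc x, ← hc y, hxy]
  have h2 := congrArg Subtype.val h1
  simp only at h2
  rwa [retr_of_isClosed h hx, retr_of_isClosed h hy] at h2

theorem exists_closed_mk_eq (c : _root_.ConnectedComponents X) :
    ∃ x : X, IsClosed ({x} : Set X) ∧ π₀ x = c := by
  obtain ⟨x, rfl⟩ := ConnectedComponents.surjective_coe c
  exact ⟨retr h x, isClosed_retr h x, mk_retr h x⟩

/-- The components of a w-local space are the closed points. -/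
theorem exists_homeomorph_closedPoints :
    ∃ e : ProEtW.closedPoints X ≃ₜ _root_.ConnectedComponents X, ∀ x, e x = π₀ (x : X) := by
  have := h.1
  obtain ⟨_, _, _⟩ := isProfinite_closedPoints h
  let f : ProEtW.closedPoints X → _root_.ConnectedComponents X := fun x => π₀ (x : X)
  have hf : Function.Bijective f := ⟨fun a b hab => Subtype.ext (eq_of_mk_eq h a.2 b.2 hab),
    fun c => by obtain ⟨x, hx, hxc⟩ := exists_closed_mk_eq h c; exact ⟨⟨x, hx⟩, hxc⟩⟩
  exact ⟨Continuous.homeoOfEquivCompactToT2 (f := Equiv.ofBijective f hf)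
    (ConnectedComponents.continuous_coe.comp continuous_subtype_val), fun x => rfl⟩

end WLocal

section Pullback

variable {T : Type u} [TopologicalSpace T] [CompactSpace T] [T2Space T] [TotallyDisconnectedSpace T]
  (g : C(T, _root_.ConnectedComponents X))

set_option quotPrecheck false in
local notation "Ypb" => {p : X × T // _root_.ConnectedComponents.mk p.1 = g p.2}

theorem isClosed_pullback [SpectralSpace X] :
    IsClosed {p : X × T | _root_.ConnectedComponents.mk p.1 = g p.2} :=
  isClosed_eq (ConnectedComponents.continuous_coe.comp continuous_fst)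
    (g.continuous.comp continuous_snd)

theorem spectralSpace_pullback [SpectralSpace X] : SpectralSpace Ypb :=
  have := spectralSpace_of_profinite T
  have := Groth.SpectralTopology.spectralSpace_prod (X := X) (Y := T)
  Groth.EtaleDeep.spectralSpace_subtype (isClosed_pullback g)

omit [CompactSpace T] [T2Space T] [TotallyDisconnectedSpace T] in
theorem isPreconnected_fibre (t : T) : IsPreconnected {y : Ypb | y.1.2 = t} := by
  obtain ⟨x₀, hx₀⟩ := ConnectedComponents.surjective_coe (g t)
  rw [IsInducing.subtypeVal.isPreconnected_image.symm]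
  have : (Subtype.val '' {y : Ypb | y.1.2 = t}) = (fun x => (x, t)) '' connectedComponent x₀ := by
    ext ⟨x, s⟩
    constructor
    · rintro ⟨⟨⟨x', s'⟩, hy⟩, rfl, heq⟩
      exact ⟨x', ConnectedComponents.coe_eq_coe'.1 (hy.trans hx₀.symm), heq⟩
    · rintro ⟨x', hx', heq⟩
      exact ⟨⟨(x', t), (ConnectedComponents.coe_eq_coe'.2 hx').trans hx₀⟩, rfl, heq⟩
  refine this ▸ ?_
  exact isPreconnected_connectedComponent.image _ (continuous_id.prodMk continuous_const).continuousOn

theorem exists_homeomorph_pullback [SpectralSpace X] :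
    ∃ e : _root_.ConnectedComponents Ypb ≃ₜ T, ∀ y : Ypb, e (π₀ y) = y.1.2 := by
  have := spectralSpace_pullback g
  have hc : Continuous fun y : Ypb => y.1.2 := continuous_snd.comp continuous_subtype_val
  let f := hc.connectedComponentsLift
  have hf : Function.Bijective f := by
    refine ⟨fun a b => ?_, fun t => ?_⟩
    · obtain ⟨y, rfl⟩ := ConnectedComponents.surjective_coe a
      obtain ⟨z, rfl⟩ := ConnectedComponents.surjective_coe b
      intro hyz
      have hyz : y.1.2 = z.1.2 := ((hc.connectedComponentsLift_apply_coe y).symm.trans hyz).trans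
        (hc.connectedComponentsLift_apply_coe z)
      refine ConnectedComponents.coe_eq_coe'.2 ?_
      exact (isPreconnected_fibre g z.1.2).subset_connectedComponent rfl hyz
    · obtain ⟨x₀, hx₀⟩ := ConnectedComponents.surjective_coe (g t)
      exact ⟨π₀ (⟨(x₀, t), hx₀⟩ : Ypb), hc.connectedComponentsLift_apply_coe _⟩
  exact ⟨Continuous.homeoOfEquivCompactToT2 (f := Equiv.ofBijective f hf)
    hc.connectedComponentsLift_continuous, hc.connectedComponentsLift_apply_coe⟩

theorem specializes_pullback_iff {y z : Ypb} : y ⤳ z ↔ y.1.1 ⤳ z.1.1 ∧ y.1.2 = z.1.2 := by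
  rw [subtype_specializes_iff, specializes_prod, specializes_iff_eq (X := T)]

theorem isClosed_singleton_pullback_iff [SpectralSpace X] {y : Ypb} :
    IsClosed ({y} : Set Ypb) ↔ IsClosed ({y.1.1} : Set X) := by
  rw [isClosed_singleton_iff, isClosed_singleton_iff]
  refine ⟨fun h x hx => ?_, fun h z hz => ?_⟩
  · have h1 := h ⟨(x, y.1.2), (mk_eq_of_specializes hx).symm.trans y.2⟩
      ((specializes_pullback_iff g).2 ⟨hx, rfl⟩)
    exact congrArg (fun w : Ypb => w.1.1) h1
  · obtain ⟨h1, h2⟩ := (specializes_pullback_iff g).1 hz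
    exact Subtype.ext (Prod.ext (h _ h1) h2.symm)

theorem isWLocal_pullback (hX : ProEtW.IsWLocal X) :
    ProEtW.IsWLocal Ypb ∧ ProEtW.IsWLocalMap (fun y : Ypb => y.1.1) ∧
      ProEtW.closedPoints Ypb = (fun y : Ypb => y.1.1) ⁻¹' ProEtW.closedPoints X := by
  have := hX.1
  have hcp : ProEtW.closedPoints Ypb = (fun y : Ypb => y.1.1) ⁻¹' ProEtW.closedPoints X :=
    Set.ext fun y => isClosed_singleton_pullback_iff g
  have hcont : Continuous fun y : Ypb => y.1.1 := continuous_fst.comp continuous_subtype_val
  refine ⟨⟨spectralSpace_pullback g, ?_, fun y => ?_⟩, ⟨⟨hcont, fun U ho hc => ?_⟩, fun y hy => ?_⟩,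
    hcp⟩
  · change IsClosed (ProEtW.closedPoints Ypb)
    rw [hcp]
    exact hX.2.1.preimage hcont
  · refine ⟨⟨(retr hX y.1.1, y.1.2), (mk_retr hX _).trans y.2⟩,
      ⟨(isClosed_singleton_pullback_iff g).2 (isClosed_retr hX _),
        (specializes_pullback_iff g).2 ⟨specializes_retr hX _, rfl⟩⟩, fun z hz => ?_⟩
    obtain ⟨h1, h2⟩ := (specializes_pullback_iff g).1 hz.2
    exact Subtype.ext (Prod.ext (eq_retr hX ((isClosed_singleton_pullback_iff g).1 hz.1) h1) h2.symm)
  · have : (fun y : Ypb => y.1.1) ⁻¹' U = Subtype.val ⁻¹' (U ×ˢ (univ : Set T)) := by ext; simp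
    rw [this]
    exact (isClosed_pullback g).isClosedEmbedding_subtypeVal.isCompact_preimage (hc.prod isCompact_univ)
  · exact (isClosed_singleton_pullback_iff g).1 hy

end Pullback

end Groth.EtaleDeep.PiZero
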