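import Groth.Agent.EtaleDeep.IndEt.LocalIso
import Groth.Agent.EtaleDeep.IndEt.PiZero

/-!
# Realizing profinite spaces over `π₀ (Spec R)`
-/

set_option autoImplicit false
set_option linter.style.haveILetI false

universe u

open Topology TopologicalSpace Set PrimeSpectrum
open Groth.EtaleDeep

namespace Groth.EtaleDeep.IndEt

variable {A R : Type u} [CommRing A] [CommRing R] [Algebra A R]

theorem isIndZariski_self : EtPBC.IsIndZariski A A :=
  isIndZariski_iff_factors.2 fun _ _ b hb => ⟨A, inferInstance, inferInstance,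
    ⟨fun q hq => ⟨1, hq.one_notMem, Algebra.IsStandardOpenImmersion.trans A A _⟩⟩, AlgHom.id A A, b,
    hb, fun _ => rfl⟩

/-- The quotient by idempotents is a localization. -/
theorem isLocalization_quotient_idem (D : Set R) (hD : ∀ d ∈ D, IsIdempotentElem d) :
    IsLocalization (Submonoid.closure ((fun d => 1 - d) '' D)) (R ⧸ Ideal.span D) := by
  set S := Submonoid.closure ((fun d => 1 - d) '' D)
  have hu : ∀ s ∈ S, Ideal.Quotient.mk (Ideal.span D) s = 1 := by
    intro s hs
    induction hs using Submonoid.closure_induction with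
    | mem x hx =>
      obtain ⟨d, hd, rfl⟩ := hx
      rw [map_sub, map_one, Ideal.Quotient.eq_zero_iff_mem.2 (Ideal.subset_span hd), sub_zero]
    | one => exact map_one _
    | mul x y _ _ hx hy => rw [map_mul, hx, hy, mul_one]
  have hkill : ∀ x ∈ Ideal.span D, ∃ s ∈ S, s * x = 0 := by
    intro x hx
    induction hx using Submodule.span_induction with
    | mem d hd => exact ⟨1 - d, Submonoid.subset_closure ⟨d, hd, rfl⟩,
        by rw [sub_mul, one_mul, (hD d hd).eq, sub_self]⟩
    | zero => exact ⟨1, S.one_mem, mul_zero _⟩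
    | add x y _ _ hx hy =>
      obtain ⟨s, hs, hsx⟩ := hx
      obtain ⟨t, ht, hty⟩ := hy
      refine ⟨s * t, S.mul_mem hs ht, ?_⟩
      rw [mul_add, mul_right_comm, hsx, zero_mul, mul_assoc, hty, mul_zero, add_zero]
    | smul a x _ hx =>
      obtain ⟨s, hs, hsx⟩ := hx
      exact ⟨s, hs, by rw [smul_eq_mul, mul_left_comm, hsx, mul_zero]⟩
  refine (isLocalization_iff S (R ⧸ Ideal.span D)).2 ⟨fun s => ?_, fun z => ?_, fun {x y} hxy => ?_⟩
  · rw [Ideal.Quotient.algebraMap_eq, hu s.1 s.2]
    exact isUnit_one
  · obtain ⟨x, rfl⟩ := Ideal.Quotient.mk_surjective z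
    refine ⟨⟨x, 1⟩, ?_⟩
    simp
  · rw [Ideal.Quotient.algebraMap_eq, Ideal.Quotient.eq] at hxy
    obtain ⟨s, hs, hsx⟩ := hkill _ hxy
    exact ⟨⟨s, hs⟩, by rwa [mul_sub, sub_eq_zero] at hsx⟩

/-- Quotients cutting out preimages of closed sets of components. -/
theorem exists_quotient_preimage {T : Set (_root_.ConnectedComponents (PrimeSpectrum R))}
    (hT : IsClosed T) : ∃ D : Set R, (∀ d ∈ D, IsIdempotentElem d) ∧
      PrimeSpectrum.zeroLocus (Ideal.span D : Set R) = _root_.ConnectedComponents.mk ⁻¹' T := by
  refine ⟨{e | IsIdempotentElem e ∧ _root_.ConnectedComponents.mk ⁻¹' T ⊆ zeroLocus {e}},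
    fun d hd => hd.1, ?_⟩
  rw [zeroLocus_span]
  refine Subset.antisymm (fun p hp => ?_) fun p hp e he => by simpa using he.2 hp
  rw [PiZero.preimage_eq_sInter hT]
  rintro Z ⟨hZ, hTZ⟩
  obtain ⟨e, he, rfl⟩ := PrimeSpectrum.isClopen_iff.1 hZ
  have heq : zeroLocus {1 - e} = (basicOpen e : Set (PrimeSpectrum R)) := by
    rw [zeroLocus_eq_basicOpen_of_isIdempotentElem _ he.one_sub, sub_sub_cancel]
  refine heq.le ?_
  intro x hx
  rw [mem_singleton_iff.1 hx]
  exact hp ⟨he.one_sub, heq.ge.trans' hTZ⟩

theorem exists_indZariski_quotient (T : Set (_root_.ConnectedComponents (PrimeSpectrum R)))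
    (hT : IsClosed T) (hR : EtPBC.IsIndZariski A R) :
    ∃ I : Ideal R, EtPBC.IsIndZariski A (R ⧸ I) ∧ EtPBC.IsIndZariski R (R ⧸ I) ∧
      Topology.IsClosedEmbedding (PrimeSpectrum.comap (algebraMap R (R ⧸ I))) ∧
      Set.range (PrimeSpectrum.comap (algebraMap R (R ⧸ I))) = _root_.ConnectedComponents.mk ⁻¹' T := by
  obtain ⟨D, hD, hV⟩ := exists_quotient_preimage hT
  have := isLocalization_quotient_idem D hD
  refine ⟨Ideal.span D,
    isIndZariski_localization (L := R) (Submonoid.closure ((fun d => 1 - d) '' D)) hR,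
    isIndZariski_localization (L := R) (Submonoid.closure ((fun d => 1 - d) '' D)) isIndZariski_self,
    isClosedEmbedding_comap_of_surjective _ _ Ideal.Quotient.mk_surjective, ?_⟩
  rw [range_comap_of_surjective _ (algebraMap R (R ⧸ Ideal.span D)) Ideal.Quotient.mk_surjective,
    Ideal.Quotient.algebraMap_eq, Ideal.mk_ker, hV]

variable {T : Type u} [TopologicalSpace T] [CompactSpace T]

theorem isIndZariski_locallyConstant (hR : EtPBC.IsIndZariski A R) :
    EtPBC.IsIndZariski A (LocallyConstant T R) := by
  classical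
  rw [isIndZariski_iff_factors] at hR ⊢
  intro n s b hb
  let val : LocallyConstant T (Fin n → R) :=
    ⟨fun t l => b l t, IsLocallyConstant.iff_exists_open _ |>.2 fun t => by
      refine ⟨⋂ l, {x | b l x = b l t}, isOpen_iInter_of_finite fun l =>
        (b l).isLocallyConstant.isOpen_fiber _, mem_iInter.2 fun l => rfl, fun x hx => funext fun l => ?_⟩
      exact mem_iInter.1 hx l⟩
  let V := Set.range val
  have : Finite V := val.range_finite.to_subtype
  have hv : ∀ v : V, ∀ r ∈ s, MvPolynomial.aeval v.1 r = 0 := by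
    rintro ⟨_, t, rfl⟩ r hr
    have h1 := congrArg (fun f : LocallyConstant T R => LocallyConstant.evalₐ A t f) (hb r hr)
    simp only [map_zero] at h1
    rw [← AlgHom.comp_apply, MvPolynomial.comp_aeval] at h1
    exact h1
  choose E iE iA hE ψ x hx hxb using fun v : V => hR n s v.1 (hv v)
  letI := iE
  letI := iA
  have hloc : ∀ v, Algebra.IsLocalIso A (E v) := hE
  let toV : LocallyConstant T V := ⟨fun t => ⟨val t, t, rfl⟩, fun U => by
    have h1 := val.isLocallyConstant (Subtype.val '' U)
    have h2 : (fun t => (⟨val t, t, rfl⟩ : V)) ⁻¹' U = val ⁻¹' (Subtype.val '' U) := by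
      ext t
      exact ⟨fun h => ⟨_, h, rfl⟩, fun ⟨w, hw, hwt⟩ => by
        have : w = ⟨val t, t, rfl⟩ := Subtype.ext hwt
        subst this
        exact hw⟩
    rw [h2]
    exact h1⟩
  let Ψ : (∀ v, E v) →ₐ[A] LocallyConstant T R :=
    { toFun := fun w => toV.map fun v => ψ v (w v)
      map_one' := LocallyConstant.ext fun t => by simp
      map_mul' := fun _ _ => LocallyConstant.ext fun t => by simp
      map_zero' := LocallyConstant.ext fun t => by simp
      map_add' := fun _ _ => LocallyConstant.ext fun t => by simp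
      commutes' := fun a => LocallyConstant.ext fun t => by simp }
  refine ⟨∀ v, E v, inferInstance, inferInstance, Algebra.IsLocalIso.pi_of_finite A E, Ψ,
    fun l v => x v l, fun r hr => funext fun v => ?_, fun l => LocallyConstant.ext fun t => ?_⟩
  · change Pi.evalAlgHom A E v (MvPolynomial.aeval _ r) = 0
    rw [← AlgHom.comp_apply, MvPolynomial.comp_aeval]
    exact hx v r hr
  · exact hxb (toV t) l

variable [T2Space T] [TotallyDisconnectedSpace T]

variable (R) in
/-- The indicator of a clopen set. -/
noncomputable def ind {U : Set T} (hU : IsClopen U) : LocallyConstant T R :=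
  LocallyConstant.charFn R hU

omit [CompactSpace T] [T2Space T] [TotallyDisconnectedSpace T] in
theorem ind_apply_mem {U : Set T} (hU : IsClopen U) {t : T} (ht : t ∈ U) : ind R hU t = 1 := by
  simp [ind, LocallyConstant.charFn, ht]

omit [CompactSpace T] [T2Space T] [TotallyDisconnectedSpace T] in
theorem ind_apply_notMem {U : Set T} (hU : IsClopen U) {t : T} (ht : t ∉ U) : ind R hU t = 0 := by
  simp [ind, LocallyConstant.charFn, ht]

omit [CompactSpace T] [T2Space T] [TotallyDisconnectedSpace T] in
theorem isIdempotentElem_ind {U : Set T} (hU : IsClopen U) : IsIdempotentElem (ind R hU) :=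
  LocallyConstant.ext fun t => by
    by_cases ht : t ∈ U
    · simp [ind_apply_mem hU ht]
    · simp [ind_apply_notMem hU ht]

/-- The point of `Spec (LocallyConstant T R)` at `(p, t)`. -/
def lcPoint (x : PrimeSpectrum R × T) : PrimeSpectrum (LocallyConstant T R) :=
  PrimeSpectrum.comap (LocallyConstant.evalRingHom x.2) x.1

omit [CompactSpace T] [T2Space T] [TotallyDisconnectedSpace T] in
theorem mem_lcPoint {x : PrimeSpectrum R × T} {f : LocallyConstant T R} :
    f ∈ (lcPoint x).asIdeal ↔ f x.2 ∈ x.1.asIdeal := Iff.rfl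

omit [CompactSpace T] [T2Space T] [TotallyDisconnectedSpace T] in
theorem ind_notMem_lcPoint {x : PrimeSpectrum R × T} {U : Set T} (hU : IsClopen U) :
    ind R hU ∉ (lcPoint x).asIdeal ↔ x.2 ∈ U := by
  rw [mem_lcPoint]
  by_cases hx : x.2 ∈ U
  · simpa [ind_apply_mem hU hx, hx] using x.1.2.one_notMem
  · simp [ind_apply_notMem hU hx, hx]

omit [CompactSpace T] [T2Space T] [TotallyDisconnectedSpace T] in
theorem comap_lcPoint (x : PrimeSpectrum R × T) :
    PrimeSpectrum.comap (algebraMap R (LocallyConstant T R)) (lcPoint x) = x.1 :=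
  PrimeSpectrum.ext (Ideal.ext fun a => by
    change algebraMap R (LocallyConstant T R) a x.2 ∈ x.1.asIdeal ↔ _
    simp)

omit [T2Space T] [TotallyDisconnectedSpace T] in
theorem surjective_lcPoint : Function.Surjective (lcPoint (R := R) (T := T)) := by
  intro q
  let F := {U : {U : Set T // IsClopen U} // ind R U.2 ∉ q.asIdeal}
  obtain ⟨t, ht⟩ : (⋂ U : F, U.1.1).Nonempty := by
    have : ∀ s : Finset F, (⋂ U ∈ s, U.1.1).Nonempty := by
      intro s
      classical
      by_contra h
      rw [Set.not_nonempty_iff_eq_empty] at h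
      have hzero : ∏ U ∈ s, ind R U.1.2 = 0 := LocallyConstant.ext fun t => by
        have ht : t ∉ ⋂ U ∈ s, U.1.1 := by rw [h]; exact notMem_empty t
        simp only [mem_iInter, not_forall] at ht
        obtain ⟨U, hU, htU⟩ := ht
        change LocallyConstant.evalRingHom t (∏ U ∈ s, ind R U.1.2) = _
        rw [map_prod]
        exact Finset.prod_eq_zero hU (ind_apply_notMem U.1.2 htU)
      obtain ⟨U, _, hU⟩ := q.2.prod_mem_iff.1 (hzero ▸ q.asIdeal.zero_mem)
      exact U.2 hU
    simpa using isCompact_univ.inter_iInter_nonempty (fun U : F => U.1.1) (fun U => U.1.2.1)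
      (fun s => by simpa using this s)
  refine ⟨(PrimeSpectrum.comap (algebraMap R (LocallyConstant T R)) q, t),
    PrimeSpectrum.ext (Ideal.ext fun f => ?_)⟩
  have hU : IsClopen {x | f x = f t} := f.isLocallyConstant.isClopen_fiber _
  have hnot : ind R hU ∉ q.asIdeal := by
    intro hmem
    have hc : ind R hU.compl ∉ q.asIdeal := fun hmem' => q.2.one_notMem (by
      have : (1 : LocallyConstant T R) = ind R hU + ind R hU.compl := LocallyConstant.ext fun x => by
        by_cases hx : x ∈ {x | f x = f t}
        · simp [ind_apply_mem hU hx, ind_apply_notMem hU.compl (not_not.2 hx : x ∉ {x | f x = f t}ᶜ)]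
        · simp [ind_apply_notMem hU hx, ind_apply_mem hU.compl (hx : x ∈ {x | f x = f t}ᶜ)]
      rw [this]
      exact add_mem hmem hmem')
    exact mem_iInter.1 ht ⟨⟨_, hU.compl⟩, hc⟩ rfl
  have hmul : (f - algebraMap R (LocallyConstant T R) (f t)) * ind R hU = 0 :=
    LocallyConstant.ext fun x => by
      by_cases hx : x ∈ {x | f x = f t}
      · change (f x - algebraMap R (LocallyConstant T R) (f t) x) * ind R hU x = 0
        simp [show f x = f t from hx]
      · simp [ind_apply_notMem hU hx]
  have hsub := (q.2.mem_or_mem (hmul ▸ q.asIdeal.zero_mem)).resolve_right hnot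
  change algebraMap R (LocallyConstant T R) (f t) ∈ q.asIdeal ↔ f ∈ q.asIdeal
  exact ⟨fun h => by simpa using add_mem hsub h, fun h => by simpa using sub_mem h hsub⟩

theorem injective_lcPoint : Function.Injective (lcPoint (R := R) (T := T)) := by
  intro x y h
  refine Prod.ext ((comap_lcPoint x).symm.trans ((congrArg _ h).trans (comap_lcPoint y))) ?_
  by_contra hne
  obtain ⟨U, hU, hxU, hyU⟩ := exists_isClopen_of_totally_separated hne
  have h1 := (ind_notMem_lcPoint (R := R) hU).2 hxU
  rw [h] at h1
  exact hyU ((ind_notMem_lcPoint (R := R) hU).1 h1)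

variable (R T) in
/-- `Spec (LocallyConstant T R) = Spec R × T`. -/
noncomputable def lcHomeo : PrimeSpectrum R × T ≃ₜ PrimeSpectrum (LocallyConstant T R) where
  toEquiv := Equiv.ofBijective lcPoint ⟨injective_lcPoint, surjective_lcPoint⟩
  continuous_toFun := by
    refine isTopologicalBasis_basic_opens.continuous_iff.2 ?_
    rintro _ ⟨f, rfl⟩
    refine isOpen_iff_forall_mem_open.2 fun x hx =>
      ⟨(basicOpen (f x.2) : Set (PrimeSpectrum R)) ×ˢ {t | f t = f x.2}, ?_,
        (basicOpen (f x.2)).2.prod (f.isLocallyConstant.isOpen_fiber _), hx, rfl⟩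
    rintro ⟨p, t⟩ ⟨hp, ht⟩
    change f t ∉ p.asIdeal
    rw [show f t = f x.2 from ht]
    exact hp
  continuous_invFun := by
    let e := Equiv.ofBijective (lcPoint (R := R) (T := T)) ⟨injective_lcPoint, surjective_lcPoint⟩
    refine continuous_prodMk.2 ⟨?_, (isTopologicalBasis_isClopen (X := T)).continuous_iff.2
      fun U hU => ?_⟩
    · have : (fun q => (e.symm q).1) = PrimeSpectrum.comap (algebraMap R (LocallyConstant T R)) :=
        funext fun q => by
          conv_rhs => rw [← e.apply_symm_apply q]
          exact (comap_lcPoint _).symm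
      exact this ▸ PrimeSpectrum.continuous_comap _
    · have : (fun q => (e.symm q).2) ⁻¹' U = (basicOpen (ind R hU) : Set _) := by
        ext q
        have h2 := ind_notMem_lcPoint (R := R) (x := e.symm q) hU
        rw [show lcPoint (e.symm q) = q from e.apply_symm_apply q] at h2
        exact h2.symm
      exact this ▸ (basicOpen _).2

section Realize

variable (g : C(T, _root_.ConnectedComponents (PrimeSpectrum R)))

/-- The clopen of `T` of points over `D(e)`. -/
def over' (e : R) : Set T := g ⁻¹' (_root_.ConnectedComponents.mk '' (basicOpen e : Set (PrimeSpectrum R)))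

omit [CompactSpace T] [T2Space T] [TotallyDisconnectedSpace T] in
theorem isClopen_over {e : R} (he : IsIdempotentElem e) : IsClopen (over' g e) :=
  (PiZero.isClopen_image_mk (PrimeSpectrum.isClopen_iff.2 ⟨e, he, rfl⟩)).preimage g.continuous

/-- The equations of the fibre product. -/
noncomputable def relSet : Set (LocallyConstant T R) :=
  Set.range fun e : {e : R // IsIdempotentElem e} =>
    algebraMap R (LocallyConstant T R) e.1 + ind R (isClopen_over g e.2) -
      2 * (algebraMap R (LocallyConstant T R) e.1 * ind R (isClopen_over g e.2))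

omit [CompactSpace T] [T2Space T] [TotallyDisconnectedSpace T] in
theorem isIdempotentElem_relSet : ∀ d ∈ relSet g, IsIdempotentElem d := by
  rintro _ ⟨⟨e, he⟩, rfl⟩
  have h1 := (he.map (algebraMap R (LocallyConstant T R))).eq
  have h2 := (isIdempotentElem_ind (R := R) (isClopen_over g he)).eq
  change _ * _ = _
  linear_combination (1 - 4 * ind R (isClopen_over g he) +
      4 * (ind R (isClopen_over g he) * ind R (isClopen_over g he))) * h1 +
    h2

/-- The ring realizing the fibre product. -/
abbrev Realize : Type u := LocallyConstant T R ⧸ Ideal.span (relSet g)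

theorem lcPoint_mem_zeroLocus_iff (x : PrimeSpectrum R × T) :
    lcPoint x ∈ zeroLocus (Ideal.span (relSet g) : Set (LocallyConstant T R)) ↔
      _root_.ConnectedComponents.mk x.1 = g x.2 := by
  rw [zeroLocus_span]
  have key : ∀ e (he : IsIdempotentElem e),
      (algebraMap R (LocallyConstant T R) e + ind R (isClopen_over g he) -
        2 * (algebraMap R (LocallyConstant T R) e * ind R (isClopen_over g he))) ∈ (lcPoint x).asIdeal ↔
      (e ∉ x.1.asIdeal ↔ x.2 ∈ over' g e) := by
    intro e he
    change (LocallyConstant.evalRingHom x.2 _ : R) ∈ x.1.asIdeal ↔ _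
    simp only [map_sub, map_add, map_mul, map_ofNat]
    change e + ind R (isClopen_over g he) x.2 - 2 * (e * ind R (isClopen_over g he) x.2) ∈ _ ↔ _
    by_cases hx : x.2 ∈ over' g e
    · rw [ind_apply_mem _ hx, show e + 1 - 2 * (e * 1) = 1 - e by ring]
      simp only [hx, iff_true]
      refine ⟨fun h1 h2 => x.1.2.one_notMem (by simpa using add_mem h1 h2), fun h1 => ?_⟩
      exact (x.1.2.mem_or_mem (show e * (1 - e) ∈ x.1.asIdeal by
        rw [mul_sub, mul_one, he.eq, sub_self]; exact zero_mem _)).resolve_left h1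
    · rw [ind_apply_notMem _ hx, mul_zero, mul_zero, add_zero, sub_zero]
      simp only [hx, iff_false, not_not]
  constructor
  · intro h
    obtain ⟨y, hy⟩ := ConnectedComponents.surjective_coe (g x.2)
    rw [← hy]
    refine PiZero.mk_eq_iff.2 fun Z hZ hyZ => ?_
    obtain ⟨e, he, rfl⟩ := PrimeSpectrum.isClopen_iff.1 hZ
    have h1 := (key e he).1 (h ⟨⟨e, he⟩, rfl⟩)
    exact h1.2 ⟨y, hyZ, hy⟩
  · rintro h _ ⟨⟨e, he⟩, rfl⟩
    refine (key e he).2 ?_
    rw [over', mem_preimage, ← h, PiZero.mk_mem_image_iff (PrimeSpectrum.isClopen_iff.2 ⟨e, he, rfl⟩)]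
    rfl

theorem isIndZariski_realize (hR : EtPBC.IsIndZariski A R) : EtPBC.IsIndZariski A (Realize g) :=
  have := isLocalization_quotient_idem (relSet g) (isIdempotentElem_relSet g)
  isIndZariski_localization (L := LocallyConstant T R)
    (Submonoid.closure ((fun d => 1 - d) '' relSet g)) (isIndZariski_locallyConstant hR)

theorem exists_realizeHomeo :
    ∃ h : PrimeSpectrum (Realize g) ≃ₜ {p : PrimeSpectrum R × T // _root_.ConnectedComponents.mk p.1 = g p.2},
      ∀ y, (h y).1.1 = PrimeSpectrum.comap (algebraMap R (Realize g)) y ∧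
        lcPoint (h y).1 = PrimeSpectrum.comap (algebraMap (LocallyConstant T R) (Realize g)) y := by
  let c := PrimeSpectrum.comap (algebraMap (LocallyConstant T R) (Realize g))
  have hc : IsClosedEmbedding c :=
    isClosedEmbedding_comap_of_surjective _ _ Ideal.Quotient.mk_surjective
  let E := (lcHomeo R T).symm
  have hrange : Set.range (E ∘ c) = {p | _root_.ConnectedComponents.mk p.1 = g p.2} := by
    rw [Set.range_comp, show Set.range c = zeroLocus (Ideal.span (relSet g) : Set _) from
      (range_comap_of_surjective _ _ Ideal.Quotient.mk_surjective).trans (by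
        rw [Ideal.mk_ker])]
    ext p
    rw [Homeomorph.image_eq_preimage_symm, mem_preimage, Homeomorph.symm_symm]
    exact lcPoint_mem_zeroLocus_iff g p
  refine ⟨((E.isClosedEmbedding.comp hc).isEmbedding.toHomeomorph).trans (Homeomorph.setCongr hrange),
    fun y => ⟨?_, ?_⟩⟩
  · change (E (c y)).1 = _
    rw [IsScalarTower.algebraMap_eq R (LocallyConstant T R) (Realize g), PrimeSpectrum.comap_comp_apply,
      ← comap_lcPoint (E (c y))]
    congr 1
    exact (lcHomeo R T).apply_symm_apply _
  · exact (lcHomeo R T).apply_symm_apply _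

theorem exists_realize_components :
    ∃ (e : _root_.ConnectedComponents (PrimeSpectrum (Realize g)) ≃ₜ T)
      (h : PrimeSpectrum (Realize g) ≃ₜ {p : PrimeSpectrum R × T // _root_.ConnectedComponents.mk p.1 = g p.2}),
      ∀ y, (h y).1 = (PrimeSpectrum.comap (algebraMap R (Realize g)) y,
        e (_root_.ConnectedComponents.mk y)) ∧
        lcPoint (h y).1 = PrimeSpectrum.comap (algebraMap (LocallyConstant T R) (Realize g)) y := by
  obtain ⟨h, hh⟩ := exists_realizeHomeo g
  obtain ⟨e, he⟩ := PiZero.exists_homeomorph_pullback g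
  let f := h.continuous.connectedComponentsMap
  have hfs : ∀ a, h.symm.continuous.connectedComponentsMap (f a) = a := by
    intro a
    obtain ⟨y, rfl⟩ := ConnectedComponents.surjective_coe a
    change _root_.ConnectedComponents.mk (h.symm (h y)) = _
    rw [h.symm_apply_apply]
  have hsf : ∀ a, f (h.symm.continuous.connectedComponentsMap a) = a := by
    intro a
    obtain ⟨y, rfl⟩ := ConnectedComponents.surjective_coe a
    change _root_.ConnectedComponents.mk (h (h.symm y)) = _
    rw [h.apply_symm_apply]
  let e₀ : _root_.ConnectedComponents (PrimeSpectrum (Realize g)) ≃ₜ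
      _root_.ConnectedComponents {p : PrimeSpectrum R × T // _root_.ConnectedComponents.mk p.1 = g p.2} :=
    { toFun := f
      invFun := h.symm.continuous.connectedComponentsMap
      left_inv := hfs
      right_inv := hsf
      continuous_toFun := h.continuous.connectedComponentsMap_continuous
      continuous_invFun := h.symm.continuous.connectedComponentsMap_continuous }
  refine ⟨e₀.trans e, h, fun y => ⟨Prod.ext (hh y).1 ?_, (hh y).2⟩⟩
  change (h y).1.2 = e (_root_.ConnectedComponents.mk (h y))
  rw [he]

end Realize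

end Groth.EtaleDeep.IndEt
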