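import Groth.Agent.EtaleDeep.IndEt.Etale
import Groth.Agent.AlgStBasic.SmoothDescent
import Groth.Prelude.Def_ProEtW

/-!
# Retractions of faithfully flat etale algebras, localizations as filtered colimits
-/

set_option autoImplicit false
set_option linter.style.haveILetI false

universe u

open CategoryTheory MvPolynomial TensorProduct

namespace Groth.EtaleDeep.IndEt

variable {A : Type u} [CommRing A]

/-- The two-element family `(E, F)`. -/
def BoolFam (E F : Type u) : Bool → Type u
  | true => E
  | false => F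

instance BoolFam.commRing (E F : Type u) [CommRing E] [CommRing F] :
    ∀ i, CommRing (BoolFam E F i)
  | true => inferInstanceAs (CommRing E)
  | false => inferInstanceAs (CommRing F)

noncomputable instance BoolFam.algebra (E F : Type u) [CommRing E] [CommRing F] [Algebra A E]
    [Algebra A F] : ∀ i, Algebra A (BoolFam E F i)
  | true => inferInstanceAs (Algebra A E)
  | false => inferInstanceAs (Algebra A F)

/-- A product of two etale algebras is etale. -/
theorem etale_prod (E F : Type u) [CommRing E] [CommRing F] [Algebra A E] [Algebra A F]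
    [hE : Algebra.Etale A E] [hF : Algebra.Etale A F] : Algebra.Etale A (E × F) := by
  have : ∀ i, Algebra.Etale A (BoolFam E F i) := fun i => match i with
    | true => hE
    | false => hF
  let e : (∀ i, BoolFam E F i) ≃ₐ[A] E × F :=
    AlgEquiv.ofBijective ((Pi.evalAlgHom A (BoolFam E F) true).prod
      (Pi.evalAlgHom A (BoolFam E F) false))
      ⟨fun x y h => funext fun i => match i with
        | true => congrArg Prod.fst h
        | false => congrArg Prod.snd h,
      fun x => ⟨fun i => match i with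
        | true => x.1
        | false => x.2, rfl⟩⟩
  exact Algebra.Etale.of_equiv e

/-- An etale algebra whose image contains `V(I)` gives a faithfully flat one by adding `A_f`
with `f ∈ I`. -/
theorem exists_faithfullyFlat_prod (E : Type u) [CommRing E] [Algebra A E] [Algebra.Etale A E]
    (I : Ideal A) (h : ∀ p : PrimeSpectrum A, I ≤ p.asIdeal →
      p ∈ Set.range (PrimeSpectrum.comap (algebraMap A E))) :
    ∃ f ∈ I, Module.FaithfullyFlat A (E × Localization.Away f) := by
  have hU : IsOpen (Set.range (PrimeSpectrum.comap (algebraMap A E))) :=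
    PrimeSpectrum.isOpenMap_comap_of_hasGoingDown_of_finitePresentation.isOpen_range
  obtain ⟨J, hJ⟩ := (PrimeSpectrum.isClosed_iff_zeroLocus_ideal _).1 hU.isClosed_compl
  have hcop : I ⊔ J = ⊤ := by
    rw [← PrimeSpectrum.zeroLocus_empty_iff_eq_top, PrimeSpectrum.zeroLocus_sup, ← hJ]
    exact Set.eq_empty_iff_forall_notMem.2 fun p hp => hp.2 (h p hp.1)
  obtain ⟨f, hf, g, hg, hfg⟩ := Submodule.mem_sup.1 (hcop ▸ Submodule.mem_top (x := (1 : A)))
  refine ⟨f, hf, ?_⟩
  have := etale_prod (A := A) E (Localization.Away f)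
  refine Module.FaithfullyFlat.of_comap_surjective fun p => ?_
  by_cases hp : p ∈ Set.range (PrimeSpectrum.comap (algebraMap A E))
  · obtain ⟨q, rfl⟩ := hp
    refine ⟨PrimeSpectrum.comap (RingHom.fst E (Localization.Away f)) q, ?_⟩
    rw [← PrimeSpectrum.comap_comp_apply]
    rfl
  · have hpJ : p ∈ PrimeSpectrum.zeroLocus (J : Set A) := hJ.le hp
    have hfp : f ∉ p.asIdeal := fun hfp => p.2.ne_top
      ((Ideal.eq_top_iff_one _).2 (hfg ▸ p.asIdeal.add_mem hfp (hpJ hg)))
    obtain ⟨q, rfl⟩ :=
      (PrimeSpectrum.localization_away_comap_range (Localization.Away f) f).ge hfp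
    refine ⟨PrimeSpectrum.comap (RingHom.snd E (Localization.Away f)) q, ?_⟩
    rw [← PrimeSpectrum.comap_comp_apply]
    rfl

/-- A map to `A` of the product, read on the first factor. -/
theorem exists_factor_fst {E : Type u} [CommRing E] [Algebra A E] {I : Ideal A} {f : A} (hf : f ∈ I)
    (r : (E × Localization.Away f) →ₐ[A] A) {R : Type u} [CommRing R] [Algebra A R]
    (h : ∀ e : A, 1 - e ∈ I → IsIdempotentElem e → algebraMap A R e = 1) :
    Nonempty (E →ₐ[A] R) := by
  let e : A := r (1, 0)
  have he : IsIdempotentElem e := by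
    change r (1, 0) * r (1, 0) = r (1, 0)
    rw [← map_mul]
    congr 1
    simp
  have he1 : 1 - e ∈ I := by
    obtain ⟨v, hv⟩ :=
      (IsLocalization.Away.algebraMap_isUnit (S := Localization.Away f) f).exists_right_inv
    have hsum : (1 : E × Localization.Away f) - (1, 0) = f • ((0, v) : E × Localization.Away f) := by
      refine Prod.ext ?_ ?_
      · simp
      · simp [Algebra.smul_def, hv]
    rw [← map_one r, ← map_sub, hsum, map_smul, smul_eq_mul]
    exact I.mul_mem_right _ hf
  have h1 : algebraMap A R e = 1 := h e he1 he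
  let φ : E →+* R :=
    { toFun := fun x => algebraMap A R (r (x, 0))
      map_one' := h1
      map_mul' := fun x y => by rw [← map_mul, ← map_mul]; simp
      map_zero' := by simp [show ((0, 0) : E × Localization.Away f) = 0 from rfl]
      map_add' := fun x y => by rw [← map_add, ← map_add]; simp }
  refine ⟨AlgHom.mk φ fun a => ?_⟩
  change algebraMap A R (r (algebraMap A E a, 0)) = algebraMap A R a
  have : ((algebraMap A E a, 0) : E × Localization.Away f) = a • ((1, 0) : E × Localization.Away f) :=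
    Prod.ext (by simp [Algebra.smul_def]) (by simp)
  rw [this, map_smul, smul_eq_mul, map_mul]
  change algebraMap A R a * algebraMap A R e = _
  rw [h1, mul_one]

theorem hasEtaleRetractions_quotient (h : ProEtW.HasEtaleRetractions A) (I : Ideal A) :
    ProEtW.HasEtaleRetractions (A ⧸ I) := by
  intro B _ _ hff het
  letI : Algebra A B := ((algebraMap (A ⧸ I) B).comp (algebraMap A (A ⧸ I))).toAlgebra
  have : IsScalarTower A (A ⧸ I) B := IsScalarTower.of_algebraMap_eq fun _ => rfl
  obtain ⟨Q, _, _, π, hQ, hπ, hker⟩ := Groth.AlgStBasic.SmoothDescent.exists_etale_lift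
    (P := A) (B := A ⧸ I) (C := B) Ideal.Quotient.mk_surjective
  obtain ⟨f, hf, hff'⟩ := exists_faithfullyFlat_prod (A := A) Q I (by
    intro p hp
    have hp' : p ∈ Set.range (PrimeSpectrum.comap (algebraMap A (A ⧸ I))) := by
      rw [Ideal.Quotient.algebraMap_eq,
        range_comap_of_surjective _ _ Ideal.Quotient.mk_surjective, Ideal.mk_ker]
      exact hp
    obtain ⟨pb, rfl⟩ := hp'
    obtain ⟨q, rfl⟩ := PrimeSpectrum.comap_surjective_of_faithfullyFlat (A := A ⧸ I) (B := B) pb
    refine ⟨PrimeSpectrum.comap π.toRingHom q, ?_⟩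
    rw [← PrimeSpectrum.comap_comp_apply, ← PrimeSpectrum.comap_comp_apply]
    congr 1
    exact π.comp_algebraMap)
  obtain ⟨r⟩ := h (Q × Localization.Away f) hff' (etale_prod Q _)
  obtain ⟨φ⟩ := exists_factor_fst hf r (R := A ⧸ I) fun e he _ =>
    sub_eq_zero.1 (by
      rw [← neg_sub, neg_eq_zero, ← map_one (algebraMap A (A ⧸ I)), ← map_sub]
      exact Ideal.Quotient.eq_zero_iff_mem.2 he)
  let e₁ : (Q ⧸ RingHom.ker π) ≃ₐ[A] B := Ideal.quotientKerAlgEquivOfSurjective hπ
  let ψ : (Q ⧸ RingHom.ker π) →ₐ[A] A ⧸ I := Ideal.Quotient.liftₐ _ φ fun x hx => by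
    have hle : (RingHom.ker (algebraMap A (A ⧸ I))).map (algebraMap A Q) ≤ RingHom.ker φ := by
      rw [Ideal.map_le_iff_le_comap]
      intro a ha
      exact (φ.commutes a).trans ha
    exact hle (hker.le hx)
  exact ⟨AlgHom.extendScalarsOfSurjective Ideal.Quotient.mk_surjective (ψ.comp e₁.symm.toAlgHom)⟩

/-- A localization as a filtered colimit of principal localizations. -/
theorem nonempty_pres_localization (S : Submonoid A) (B : Type u) [CommRing B] [Algebra A B]
    [IsLocalization S B] :
    Nonempty (Pres A B fun R _ _ => ∃ t ∈ S, IsLocalization.Away t R) := by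
  classical
  refine Factors.nonempty_pres ?_ (fun R _ _ ⟨t, _, ht⟩ =>
    IsLocalization.Away.finitePresentation t) (fun R R' _ _ _ _ e ⟨t, htS, ht⟩ =>
    ⟨t, htS, IsLocalization.isLocalization_of_algEquiv _ e⟩)
  intro n s b hb
  obtain ⟨⟨t, htS⟩, ht⟩ := IsLocalization.exist_integer_multiples_of_finite S b
  choose a ha using ht
  have hbl : ∀ l, algebraMap A B t * b l = algebraMap A B (a l) := fun l => by
    rw [ha l]; exact (Algebra.smul_def _ _).symm
  have hu : ∀ u ∈ S, IsUnit (algebraMap A B u) := fun u hu => IsLocalization.map_units B ⟨u, hu⟩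
  let L₀ := Localization.Away t
  let ψ₀ : L₀ →ₐ[A] B := IsLocalization.liftAlgHom (M := Submonoid.powers t) (f := Algebra.ofId A B)
    (fun y => by
      obtain ⟨m, hm⟩ := y.2
      exact hu _ (hm ▸ S.pow_mem htS m))
  let x₀ : Fin n → L₀ := fun l => IsLocalization.mk' L₀ (a l) ⟨t, Submonoid.mem_powers t⟩
  have hx₀ : ∀ l, ψ₀ (x₀ l) = b l := fun l => by
    refine (hu t htS).mul_right_injective ?_
    change algebraMap A B t * ψ₀ (x₀ l) = algebraMap A B t * b l
    rw [hbl, ← ψ₀.commutes, ← ψ₀.commutes, ← map_mul]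
    exact congrArg ψ₀ (IsLocalization.mk'_spec' L₀ (a l) ⟨t, Submonoid.mem_powers t⟩)
  have hr₀ : ∀ r ∈ s, ∃ u ∈ S, algebraMap A L₀ u * aeval x₀ r = 0 := by
    intro r hr
    obtain ⟨⟨c, m⟩, hcm⟩ := IsLocalization.surj (Submonoid.powers t) (aeval x₀ r)
    have hc : algebraMap A B c = 0 := by
      have h2 := congrArg ψ₀ hcm
      rw [map_mul, ψ₀.commutes, ψ₀.commutes, ← AlgHom.comp_apply, comp_aeval,
        show (fun l => ψ₀ (x₀ l)) = b from funext hx₀, hb r hr, zero_mul] at h2
      exact h2.symm
    obtain ⟨⟨u, huS⟩, huc⟩ := (IsLocalization.map_eq_zero_iff S B c).1 hc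
    refine ⟨u, huS, ?_⟩
    obtain ⟨v, hv⟩ := IsLocalization.map_units L₀ m
    rw [← Units.mul_left_eq_zero v, mul_assoc, hv, hcm, ← map_mul]
    exact (congrArg (algebraMap A L₀) huc).trans (map_zero _)
  choose u huS huz using hr₀
  let w : A := ∏ r : s, u r.1 r.2
  have hwS : w ∈ S := S.prod_mem fun r _ => huS r.1 r.2
  let L := Localization.Away (t * w)
  have htu : IsUnit (algebraMap A L t) := by
    have h2 := IsLocalization.Away.algebraMap_isUnit (S := L) (t * w)
    rw [map_mul] at h2
    exact isUnit_of_mul_isUnit_left h2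
  have hwu : IsUnit (algebraMap A L w) := by
    have h2 := IsLocalization.Away.algebraMap_isUnit (S := L) (t * w)
    rw [map_mul] at h2
    exact isUnit_of_mul_isUnit_right h2
  let θ : L₀ →ₐ[A] L := IsLocalization.liftAlgHom (M := Submonoid.powers t) (f := Algebra.ofId A L)
    (fun y => by
      obtain ⟨m, hm⟩ := y.2
      change IsUnit (algebraMap A L y.1)
      rw [← hm, map_pow]
      exact htu.pow m)
  let ψ : L →ₐ[A] B := IsLocalization.liftAlgHom (M := Submonoid.powers (t * w)) (f := Algebra.ofId A B)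
    (fun y => by
      obtain ⟨m, hm⟩ := y.2
      exact hu _ (hm ▸ S.pow_mem (S.mul_mem htS hwS) m))
  refine ⟨L, inferInstance, inferInstance, ⟨t * w, S.mul_mem htS hwS, inferInstance⟩, ψ,
    fun l => θ (x₀ l), fun r hr => ?_, fun l => ?_⟩
  · rw [← comp_aeval, AlgHom.comp_apply]
    have h2 := congrArg θ (huz r hr)
    rw [map_mul, θ.commutes, map_zero] at h2
    refine (IsUnit.mul_right_eq_zero ?_).1 h2
    exact isUnit_of_dvd_unit (map_dvd (algebraMap A L)
      (Finset.dvd_prod_of_mem (fun r : s => u r.1 r.2) (Finset.mem_univ ⟨r, hr⟩))) hwu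
  · have : ψ.comp θ = ψ₀ := Subsingleton.elim (h := IsLocalization.algHom_subsingleton
      (R := A) (S := L₀) (M := Submonoid.powers t)) _ _
    rw [← AlgHom.comp_apply, this, hx₀]

theorem hasEtaleRetractions_localization {B : Type u} [CommRing B] [Algebra A B]
    (S : Submonoid A) [IsLocalization S B] (I : Ideal A)
    (hB : Set.range (PrimeSpectrum.comap (algebraMap A B)) =
      {x | ∃ z : PrimeSpectrum A, z ∈ PrimeSpectrum.zeroLocus (R := A) I ∧ x ⤳ z})
    (hA : ProEtW.HasEtaleRetractions A) : ProEtW.HasEtaleRetractions B := by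
  intro C _ _ hff het
  obtain ⟨H⟩ := nonempty_pres_localization S B
  obtain ⟨i, E, _, _, hE, he⟩ := H.exists_etale_model C
  letI : Algebra (H.G i) B := (H.g i).toRingHom.toAlgebra
  obtain ⟨e⟩ := he
  obtain ⟨t, htS, ht⟩ := H.prop i
  letI : Algebra A E := ((algebraMap (H.G i) E).comp (algebraMap A (H.G i))).toAlgebra
  have : IsScalarTower A (H.G i) E := IsScalarTower.of_algebraMap_eq fun _ => rfl
  have : Algebra.Etale A (H.G i) := Algebra.Etale.of_isLocalizationAway t
  have : Algebra.Etale A E := Algebra.Etale.comp A (H.G i) E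
  have : IsScalarTower A (H.G i) B :=
    IsScalarTower.of_algebraMap_eq fun a => ((H.g i).commutes a).symm
  obtain ⟨f, hf, hff'⟩ := exists_faithfullyFlat_prod (A := A) E I (by
    intro p hp
    obtain ⟨pb, rfl⟩ : p ∈ Set.range (PrimeSpectrum.comap (algebraMap A B)) :=
      hB.ge ⟨p, hp, specializes_rfl⟩
    obtain ⟨q, rfl⟩ := PrimeSpectrum.comap_surjective_of_faithfullyFlat (A := B) (B := C) pb
    refine ⟨PrimeSpectrum.comap (e.symm.toAlgHom.toRingHom.comp
      (Algebra.TensorProduct.includeRight : E →ₐ[H.G i] B ⊗[H.G i] E).toRingHom) q, ?_⟩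
    rw [← PrimeSpectrum.comap_comp_apply, ← PrimeSpectrum.comap_comp_apply]
    congr 1
    refine RingHom.ext fun a => ?_
    change e.symm ((Algebra.TensorProduct.includeRight : E →ₐ[H.G i] B ⊗[H.G i] E)
      (algebraMap (H.G i) E (algebraMap A (H.G i) a))) = algebraMap B C (algebraMap A B a)
    rw [AlgHom.commutes, IsScalarTower.algebraMap_apply (H.G i) B (B ⊗[H.G i] E), AlgEquiv.commutes,
      ← IsScalarTower.algebraMap_apply A (H.G i) B])
  obtain ⟨r⟩ := hA (E × Localization.Away f) hff' (etale_prod E _)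
  obtain ⟨φ⟩ := exists_factor_fst hf r (R := B) fun e he1 he => by
    have hu : IsUnit (algebraMap A B e) := by
      rw [← not_not (a := IsUnit _), ← mem_nonunits_iff]
      intro hn
      obtain ⟨P, hP, heP⟩ := exists_max_ideal_of_mem_nonunits hn
      obtain ⟨z, hz, hsp⟩ := hB.le ⟨⟨P, hP.isPrime⟩, rfl⟩
      have hle : (PrimeSpectrum.comap (algebraMap A B) ⟨P, hP.isPrime⟩).asIdeal ≤ z.asIdeal :=
        (PrimeSpectrum.le_iff_specializes _ _).2 hsp
      exact z.2.ne_top ((Ideal.eq_top_iff_one _).2
        (by simpa using z.asIdeal.add_mem (hle heP) (hz he1)))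
    exact hu.mul_left_cancel (by rw [← map_mul, he.eq, mul_one])
  have hsub : Subsingleton (H.G i →ₐ[A] B) :=
    IsLocalization.algHom_subsingleton (M := Submonoid.powers t)
  let φ' : E →ₐ[H.G i] B := AlgHom.mk φ.toRingHom fun x => by
    exact AlgHom.congr_fun (Subsingleton.elim (φ.comp (IsScalarTower.toAlgHom A (H.G i) E)) (H.g i)) x
  exact ⟨(Algebra.TensorProduct.lift (Algebra.ofId B B) φ' fun _ _ => Commute.all _ _).comp
    e.toAlgHom⟩

end Groth.EtaleDeep.IndEt
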