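import Groth.Agent.EtaleDeep.IndEt.HenselLift
import Groth.Agent.EtaleBase.IntegralAlg

/-!
# Ind-etale algebras along universal homeomorphisms
-/

set_option autoImplicit false
set_option linter.style.haveILetI false

universe u

open TensorProduct PrimeSpectrum

namespace Groth.EtaleDeep.IndEt

/-- Integral algebras with exactly one point over every geometric point. -/
def IsHomeoExt (A B : Type u) [CommRing A] [CommRing B] [Algebra A B] : Prop :=
  Algebra.IsIntegral A B ∧ ∀ (Ω : Type u) [Field Ω] [IsAlgClosed Ω] [Algebra A Ω],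
    Nonempty (B →ₐ[A] Ω) ∧ Subsingleton (B →ₐ[A] Ω)

/-- Points of integral algebras through prescribed primes. -/
theorem exists_point {R S Ω : Type u} [CommRing R] [CommRing S] [Algebra R S]
    [Algebra.IsIntegral R S] [Field Ω] [IsAlgClosed Ω] [Algebra R Ω] (Q : Ideal S) [Q.IsPrime]
    (h : Q.comap (algebraMap R S) = RingHom.ker (algebraMap R Ω)) :
    ∃ χ : S →ₐ[R] Ω, RingHom.ker χ = Q := by
  let P : Ideal R := RingHom.ker (algebraMap R Ω)
  have hP : P.IsPrime := RingHom.ker_isPrime _
  have : Q.LiesOver P := ⟨h.symm⟩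
  let : Algebra (R ⧸ P) Ω := (Ideal.Quotient.lift P (algebraMap R Ω) fun a ha => ha).toAlgebra
  have : IsScalarTower R (R ⧸ P) Ω := .of_algebraMap_eq' rfl
  have hinj : Function.Injective (algebraMap (R ⧸ P) Ω) :=
    RingHom.lift_injective_of_ker_le_ideal P _ le_rfl
  have : FaithfulSMul (R ⧸ P) Ω := (faithfulSMul_iff_algebraMap_injective _ _).2 hinj
  have : Algebra.IsIntegral (R ⧸ P) (S ⧸ Q) := Algebra.IsIntegral.tower_top (R := R)
  let l : S ⧸ Q →ₐ[R ⧸ P] Ω := IsAlgClosed.lift
  have hl : RingHom.ker l.toRingHom = ⊥ := Ideal.eq_bot_of_comap_eq_bot (R := R ⧸ P) (by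
    ext a
    rw [Ideal.mem_comap, RingHom.mem_ker, Ideal.mem_bot]
    change l (algebraMap _ _ a) = 0 ↔ _
    rw [l.commutes, map_eq_zero_iff _ hinj])
  refine ⟨(l.restrictScalars R).comp (Ideal.Quotient.mkₐ R Q), Ideal.ext fun s => ?_⟩
  change l (Ideal.Quotient.mk Q s) = 0 ↔ _
  exact (map_eq_zero_iff l.toRingHom ((RingHom.injective_iff_ker_eq_bot _).2 hl)).trans
    Ideal.Quotient.eq_zero_iff_mem

variable {A B : Type u} [CommRing A] [CommRing B] [Algebra A B]

/-- The map from a base change given by a map of algebras. -/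
noncomputable def fromBc (B : Type u) [CommRing B] [Algebra A B] {E D : Type u} [CommRing E]
    [Algebra A E] [CommRing D] [Algebra A D] [Algebra B D] [IsScalarTower A B D]
    (ξ : E →ₐ[A] D) : B ⊗[A] E →ₐ[B] D :=
  Algebra.TensorProduct.lift (Algebra.ofId B D) ξ fun _ _ => Commute.all _ _

/-- The base change of a map of algebras. -/
noncomputable def bcHom (B : Type u) [CommRing B] [Algebra A B] {E F : Type u} [CommRing E]
    [Algebra A E] [CommRing F] [Algebra A F] (f : E →ₐ[A] F) : B ⊗[A] E →ₐ[B] B ⊗[A] F :=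
  Algebra.TensorProduct.map (AlgHom.id B B) f

section

variable {E F G D : Type u} [CommRing E] [Algebra A E] [CommRing F] [Algebra A F] [CommRing G]
  [Algebra A G] [CommRing D] [Algebra A D] [Algebra B D] [IsScalarTower A B D]

theorem fromBc_bcHom (ξ : F →ₐ[A] D) (f : E →ₐ[A] F) :
    (fromBc B ξ).comp (bcHom B f) = fromBc B (ξ.comp f) :=
  Algebra.TensorProduct.ext (Subsingleton.elim _ _) (AlgHom.ext fun x => by simp [fromBc, bcHom])

theorem bcHom_comp (g : F →ₐ[A] G) (f : E →ₐ[A] F) :
    (bcHom B g).comp (bcHom B f) = bcHom B (g.comp f) :=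
  Algebra.TensorProduct.ext (Subsingleton.elim _ _) (AlgHom.ext fun x => by simp [bcHom])

theorem bcHom_id : bcHom B (AlgHom.id A E) = AlgHom.id B _ :=
  Algebra.TensorProduct.ext (Subsingleton.elim _ _) (AlgHom.ext fun x => by simp [bcHom])

end

theorem IsHomeoExt.exists_point_over (hB : IsHomeoExt A B) {E : Type u} [CommRing E] [Algebra A E]
    (p : PrimeSpectrum E) :
    ∃! q : PrimeSpectrum (B ⊗[A] E),
      PrimeSpectrum.comap (Algebra.TensorProduct.includeRight : E →ₐ[A] B ⊗[A] E).toRingHom q = p := by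
  have := hB.1
  let Ω := AlgebraicClosure p.asIdeal.ResidueField
  let pt : E →ₐ[A] Ω := IsScalarTower.toAlgHom A E Ω
  obtain ⟨⟨ψ⟩, hsub⟩ := hB.2 Ω
  have hker : RingHom.ker pt = p.asIdeal := by
    ext x
    change algebraMap E Ω x = 0 ↔ _
    rw [IsScalarTower.algebraMap_apply E p.asIdeal.ResidueField Ω, map_eq_zero,
      Ideal.algebraMap_residueField_eq_zero]
  let L : B ⊗[A] E →ₐ[A] Ω := Algebra.TensorProduct.lift ψ pt fun _ _ => Commute.all _ _
  refine ⟨⟨RingHom.ker L, RingHom.ker_isPrime _⟩, ?_, fun q hq => ?_⟩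
  · refine PrimeSpectrum.ext (Ideal.ext fun x => ?_)
    change L (1 ⊗ₜ x) = 0 ↔ _
    rw [Algebra.TensorProduct.lift_tmul, map_one, one_mul]
    exact Ideal.ext_iff.1 hker x
  · letI : Algebra E (B ⊗[A] E) :=
      (Algebra.TensorProduct.includeRight : E →ₐ[A] B ⊗[A] E).toRingHom.toAlgebra
    have : Algebra.IsIntegral E (B ⊗[A] E) := by
      refine ⟨fun t => ?_⟩
      induction t using TensorProduct.induction_on with
      | zero => exact isIntegral_zero
      | tmul b e =>
        have h1 : IsIntegral E (b ⊗ₜ[A] (1 : E)) := by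
          obtain ⟨P, hP, hPb⟩ := Algebra.IsIntegral.isIntegral (R := A) b
          refine ⟨P.map (algebraMap A E), hP.map _, ?_⟩
          rw [Polynomial.eval₂_map]
          have h2 : (algebraMap E (B ⊗[A] E)).comp (algebraMap A E) =
              (Algebra.TensorProduct.includeLeft : B →ₐ[A] B ⊗[A] E).toRingHom.comp (algebraMap A B) :=
            ((Algebra.TensorProduct.includeRight : E →ₐ[A] B ⊗[A] E).comp_algebraMap).trans
              ((Algebra.TensorProduct.includeLeft : B →ₐ[A] B ⊗[A] E).comp_algebraMap).symm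
          rw [h2]
          change Polynomial.eval₂ _ ((Algebra.TensorProduct.includeLeft :
            B →ₐ[A] B ⊗[A] E).toRingHom b) P = 0
          rw [← Polynomial.hom_eval₂, hPb, map_zero]
        have h3 : b ⊗ₜ[A] e = (b ⊗ₜ[A] (1 : E)) * algebraMap E (B ⊗[A] E) e := by
          change _ = (b ⊗ₜ[A] (1 : E)) * ((1 : B) ⊗ₜ[A] e)
          simp
        rw [h3]
        exact h1.mul isIntegral_algebraMap
      | add x y hx hy => exact hx.add hy
    obtain ⟨χ, hχ⟩ := exists_point (R := E) (Ω := Ω) q.asIdeal ((congrArg PrimeSpectrum.asIdeal hq).trans hker.symm)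
    refine PrimeSpectrum.ext (hχ.symm.trans ?_)
    have h1 : ∀ b e, χ (b ⊗ₜ[A] e) = L (b ⊗ₜ[A] e) := by
      intro b e
      let χA : B →ₐ[A] Ω := AlgHom.mk (χ.toRingHom.comp Algebra.TensorProduct.includeLeftRingHom) fun a => by
        change χ (algebraMap A B a ⊗ₜ[A] (1 : E)) = _
        rw [show algebraMap A B a ⊗ₜ[A] (1 : E) = algebraMap E (B ⊗[A] E) (algebraMap A E a) by
          change _ = (1 : B) ⊗ₜ[A] algebraMap A E a
          rw [Algebra.algebraMap_eq_smul_one, Algebra.algebraMap_eq_smul_one, smul_tmul], χ.commutes]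
        exact (IsScalarTower.algebraMap_apply A E Ω a).symm
      have h3 : b ⊗ₜ[A] e = (b ⊗ₜ[A] (1 : E)) * algebraMap E (B ⊗[A] E) e := by
        change _ = (b ⊗ₜ[A] (1 : E)) * ((1 : B) ⊗ₜ[A] e)
        simp
      rw [Algebra.TensorProduct.lift_tmul]
      conv_lhs => rw [h3, map_mul, χ.commutes]
      rw [show χ (b ⊗ₜ[A] (1 : E)) = ψ b from AlgHom.congr_fun (hsub.elim χA ψ) b]
      rfl
    refine Ideal.ext fun t => ?_
    rw [RingHom.mem_ker, RingHom.mem_ker]
    suffices χ t = L t by rw [this]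
    induction t using TensorProduct.induction_on with
    | zero => simp
    | tmul b e => exact h1 b e
    | add x y hx hy => rw [map_add, map_add, hx, hy]

/-- Idempotents of the base change come from the base. -/
theorem IsHomeoExt.exists_idempotent (hB : IsHomeoExt A B) {E : Type u} [CommRing E] [Algebra A E]
    {e : B ⊗[A] E} (he : IsIdempotentElem e) :
    ∃ e₀ : E, IsIdempotentElem e₀ ∧ (1 : B) ⊗ₜ[A] e₀ = e := by
  have := hB.1
  let r : E →+* B ⊗[A] E := (Algebra.TensorProduct.includeRight : E →ₐ[A] B ⊗[A] E).toRingHom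
  let π := PrimeSpectrum.comap r
  have hinj : Function.Injective π := fun x y hxy =>
    (hB.exists_point_over (π y)).unique hxy rfl
  have hint : r.IsIntegral := by
    intro t
    induction t using TensorProduct.induction_on with
    | zero => exact RingHom.isIntegralElem_zero r
    | tmul b e' =>
      have h3 : b ⊗ₜ[A] e' = (b ⊗ₜ[A] (1 : E)) * r e' := by
        change _ = (b ⊗ₜ[A] (1 : E)) * ((1 : B) ⊗ₜ[A] e')
        simp
      rw [h3]
      refine RingHom.IsIntegralElem.mul r ?_ (RingHom.isIntegralElem_map (f := r))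
      obtain ⟨P, hP, hPb⟩ := Algebra.IsIntegral.isIntegral (R := A) b
      refine ⟨P.map (algebraMap A E), hP.map _, ?_⟩
      rw [Polynomial.eval₂_map]
      have h2 : r.comp (algebraMap A E) =
          (Algebra.TensorProduct.includeLeft : B →ₐ[A] B ⊗[A] E).toRingHom.comp (algebraMap A B) :=
        ((Algebra.TensorProduct.includeRight : E →ₐ[A] B ⊗[A] E).comp_algebraMap).trans
          ((Algebra.TensorProduct.includeLeft : B →ₐ[A] B ⊗[A] E).comp_algebraMap).symm
      rw [h2]
      change Polynomial.eval₂ _ ((Algebra.TensorProduct.includeLeft :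
        B →ₐ[A] B ⊗[A] E).toRingHom b) P = 0
      rw [← Polynomial.hom_eval₂, hPb, map_zero]
    | add x y hx hy => exact RingHom.IsIntegralElem.add r hx hy
  have hsurj : Function.Surjective π := fun p => (hB.exists_point_over p).exists
  have hclosed : IsClosedMap π := PrimeSpectrum.isClosedMap_comap_of_isIntegral r hint
  let S : Set (PrimeSpectrum (B ⊗[A] E)) := PrimeSpectrum.basicOpen e
  have hS : IsClopen S := PrimeSpectrum.isClopen_iff.2 ⟨e, he, rfl⟩
  have hSπ : IsClopen (π '' S) :=
    ⟨hclosed _ hS.1, by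
      rw [← isClosed_compl_iff, ← Set.image_compl_eq ⟨hinj, hsurj⟩]
      exact hclosed _ hS.compl.1⟩
  obtain ⟨e₀, he₀, heq⟩ := PrimeSpectrum.isClopen_iff.1 hSπ
  refine ⟨e₀, he₀, PrimeSpectrum.basicOpen_injOn_isIdempotentElem
    (he₀.map (Algebra.TensorProduct.includeRight : E →ₐ[A] B ⊗[A] E)) he ?_⟩
  refine TopologicalSpace.Opens.ext ?_
  change (PrimeSpectrum.basicOpen (r e₀) : Set _) = S
  rw [← PrimeSpectrum.comap_basicOpen r e₀]
  change π ⁻¹' (PrimeSpectrum.basicOpen e₀ : Set (PrimeSpectrum E)) = S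
  rw [← heq, hinj.preimage_image]

/-- Around a prime of an etale algebra over `B` there is an etale algebra over `A`. -/
theorem IsHomeoExt.exists_nbhd (hB : IsHomeoExt A B) {R : Type u} [CommRing R] [Algebra B R]
    [Algebra.Etale B R] (r : PrimeSpectrum R) :
    ∃ (E : Type u) (_ : CommRing E) (_ : Algebra A E), Algebra.Etale A E ∧
      ∃ (σ : R →ₐ[B] B ⊗[A] E) (q : PrimeSpectrum (B ⊗[A] E)),
        PrimeSpectrum.comap σ.toRingHom q = r := by
  have := hB.1
  letI : Algebra A R := ((algebraMap B R).comp (algebraMap A B)).toAlgebra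
  have : IsScalarTower A B R := IsScalarTower.of_algebraMap_eq fun _ => rfl
  let Ω := AlgebraicClosure r.asIdeal.ResidueField
  let χ : R →ₐ[A] Ω := IsScalarTower.toAlgHom A R Ω
  obtain ⟨-, hsub⟩ := hB.2 Ω
  obtain ⟨N, σ, hσ⟩ := EtaleBase.IntegralAlg.exists_section_integral (A := A) (B := B) (C := R) (Ω := Ω)
    (fun ψ => ⟨χ, hsub.elim _ _⟩) (some χ)
  let L := Algebra.TensorProduct.lift (χ.comp (IsScalarTower.toAlgHom A B R)) N.pt
    fun _ _ => Commute.all _ _
  refine ⟨N.R, inferInstance, inferInstance, inferInstance, σ,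
    ⟨RingHom.ker L, RingHom.ker_isPrime _⟩, PrimeSpectrum.ext (Ideal.ext fun x => ?_)⟩
  change L (σ x) = 0 ↔ _
  rw [hσ χ rfl x]
  change algebraMap R Ω x = 0 ↔ _
  rw [IsScalarTower.algebraMap_apply R r.asIdeal.ResidueField Ω, map_eq_zero,
    Ideal.algebraMap_residueField_eq_zero]

variable {D : Type u} [CommRing D] [Algebra A D] [Algebra B D] [IsScalarTower A B D]

/-- Maps from etale `B`-algebras to a w-contractible algebra factor through base changes. -/
theorem IsHomeoExt.exists_map (hB : IsHomeoExt A B) (hD : EtPBC.IsWContractible D) {R : Type u}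
    [CommRing R] [Algebra B R] [Algebra.Etale B R] (ρ : R →ₐ[B] D) :
    ∃ (E : Type u) (_ : CommRing E) (_ : Algebra A E), Algebra.Etale A E ∧
      ∃ (ξ : E →ₐ[A] D) (σ : R →ₐ[B] B ⊗[A] E), (fromBc B ξ).comp σ = ρ := by
  classical
  choose E iR iA hE σ q hq using fun r : PrimeSpectrum R => hB.exists_nbhd r
  let hopen : ∀ r, IsOpen (Set.range (PrimeSpectrum.comap (σ r).toRingHom)) := fun r => by
    have := hE r
    letI := (σ r).toRingHom.toAlgebra
    have : IsScalarTower B R (B ⊗[A] E r) :=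
      IsScalarTower.of_algebraMap_eq fun b => ((σ r).commutes b).symm
    have : Algebra.Etale R (B ⊗[A] E r) := Algebra.Etale.of_restrictScalars B _ _
    have : Algebra.FinitePresentation R (B ⊗[A] E r) := inferInstance
    have : Module.Flat R (B ⊗[A] E r) := Algebra.Smooth.flat R _
    exact (PrimeSpectrum.isOpenMap_comap_of_hasGoingDown_of_finitePresentation).isOpen_range
  obtain ⟨t, ht⟩ := isCompact_univ.elim_finite_subcover _ hopen
    fun r _ => Set.mem_iUnion.2 ⟨r, q r, hq r⟩
  let P := ∀ r : t, E r.1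
  have : ∀ r : t, Algebra.Etale A (E r.1) := fun r => hE r.1
  let e : B ⊗[A] P ≃ₐ[B] ∀ r : t, B ⊗[A] E r.1 :=
    Algebra.TensorProduct.piRight A B B fun r : t => E r.1
  let σP : R →ₐ[B] B ⊗[A] P := e.symm.toAlgHom.comp (Pi.algHom B _ fun r : t => σ r.1)
  letI := σP.toRingHom.toAlgebra
  have : IsScalarTower B R (B ⊗[A] P) :=
    IsScalarTower.of_algebraMap_eq fun b => (σP.commutes b).symm
  have : Algebra.Etale R (B ⊗[A] P) := Algebra.Etale.of_restrictScalars B _ _
  have : Module.Flat R (B ⊗[A] P) := Algebra.Smooth.flat R _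
  have : Module.FaithfullyFlat R (B ⊗[A] P) := by
    refine Module.FaithfullyFlat.of_comap_surjective fun p => ?_
    obtain ⟨r, hr, y, hy⟩ := Set.mem_iUnion₂.1 (ht (Set.mem_univ p))
    let π : B ⊗[A] P →ₐ[B] B ⊗[A] E r :=
      (Pi.evalAlgHom B (fun r : t => B ⊗[A] E r.1) ⟨r, hr⟩).comp e.toAlgHom
    refine ⟨PrimeSpectrum.comap π.toRingHom y, ?_⟩
    rw [← hy]
    refine PrimeSpectrum.ext (Ideal.ext fun x => ?_)
    change π (σP x) ∈ y.asIdeal ↔ σ r x ∈ y.asIdeal
    simp [π, σP]
  letI : Algebra R D := ρ.toRingHom.toAlgebra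
  obtain ⟨ret⟩ := hD (D ⊗[R] (B ⊗[A] P)) inferInstance inferInstance
  let g : B ⊗[A] P →ₐ[R] D := (ret.restrictScalars R).comp Algebra.TensorProduct.includeRight
  have hgB : ∀ b, g (algebraMap B (B ⊗[A] P) b) = algebraMap B D b := fun b => by
    rw [IsScalarTower.algebraMap_apply B R (B ⊗[A] P), g.commutes]
    exact ρ.commutes b
  let ξ : P →ₐ[A] D := AlgHom.mk
    (g.toRingHom.comp (Algebra.TensorProduct.includeRight : P →ₐ[A] B ⊗[A] P).toRingHom) fun a => by
      change g ((1 : B) ⊗ₜ[A] algebraMap A P a) = _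
      rw [Algebra.algebraMap_eq_smul_one (R := A) (A := P), ← smul_tmul,
        ← Algebra.algebraMap_eq_smul_one]
      exact (hgB _).trans (IsScalarTower.algebraMap_apply A B D a).symm
  refine ⟨P, inferInstance, inferInstance, inferInstance, ξ, σP, AlgHom.ext fun x => ?_⟩
  refine Eq.trans ?_ (g.commutes x)
  change fromBc B ξ (σP x) = g (σP x)
  generalize σP x = z
  induction z using TensorProduct.induction_on with
  | zero => simp
  | tmul b y =>
    have h : b ⊗ₜ[A] y = algebraMap B (B ⊗[A] P) b * ((1 : B) ⊗ₜ[A] y) := by simp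
    conv_rhs => rw [h, map_mul, hgB]
    simp [fromBc, ξ]
  | add z w hz hw => rw [map_add, map_add, hz, hw]

omit [Algebra B D] [IsScalarTower A B D] in
/-- Two maps into a base change agreeing on a point are equalized over `A`. -/
theorem IsHomeoExt.exists_equalize (hB : IsHomeoExt A B) [Algebra B D] [IsScalarTower A B D]
    {R : Type u} [CommRing R] [Algebra B R] [Algebra.Etale B R] {E : Type u} [CommRing E]
    [Algebra A E] [Algebra.Etale A E] (u v : R →ₐ[B] B ⊗[A] E) (ξ : E →ₐ[A] D)
    (h : (fromBc B ξ).comp u = (fromBc B ξ).comp v) :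
    ∃ (E' : Type u) (_ : CommRing E') (_ : Algebra A E'), Algebra.Etale A E' ∧
      ∃ (χ : E →ₐ[A] E') (ξ' : E' →ₐ[A] D), ξ'.comp χ = ξ ∧
        (bcHom B χ).comp u = (bcHom B χ).comp v := by
  obtain ⟨t, ht, ht1⟩ := Algebra.FormallyUnramified.iff_exists_tensorProduct.1
    (inferInstance : Algebra.FormallyUnramified B R)
  let m := Algebra.TensorProduct.lmul' B (S := R)
  have htmul : ∀ x : R ⊗[B] R, x * t = (m x ⊗ₜ 1) * t := by
    intro x
    induction x using TensorProduct.induction_on with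
    | zero => simp
    | tmul a b =>
      have h1 : ((1 : R) ⊗ₜ[B] b - b ⊗ₜ[B] (1 : R)) * t = 0 := ht b
      rw [sub_mul, sub_eq_zero] at h1
      calc (a ⊗ₜ[B] b) * t = (a ⊗ₜ[B] (1 : R)) * (((1 : R) ⊗ₜ[B] b) * t) := by
            rw [← mul_assoc]; simp
        _ = _ := by rw [h1, ← mul_assoc]; simp [m]
    | add x y hx hy => rw [add_mul, hx, hy, map_add, add_tmul, add_mul]
  let w : R ⊗[B] R →ₐ[B] B ⊗[A] E := Algebra.TensorProduct.lift u v fun _ _ => Commute.all _ _
  have hwe : IsIdempotentElem (w t) := by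
    refine IsIdempotentElem.map ?_ w
    change t * t = t
    rw [htmul t, show m t = 1 from ht1]
    exact one_mul t
  obtain ⟨e₀, he₀, heq⟩ := hB.exists_idempotent hwe
  have hξ : ξ e₀ = 1 := by
    have h1 : fromBc B ξ (w t) = 1 := by
      have h2 : (fromBc B ξ).comp w = ((fromBc B ξ).comp u).comp m := by
        refine Algebra.TensorProduct.ext (AlgHom.ext fun x => ?_) (AlgHom.ext fun x => ?_)
        · simp [w, m]
        · have := AlgHom.congr_fun h x
          simp [w, m] at this ⊢
          exact this.symm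
      refine (AlgHom.congr_fun h2 t).trans ?_
      change fromBc B ξ (u (m t)) = 1
      rw [show m t = 1 from ht1, map_one, map_one]
    rw [← heq] at h1
    simpa [fromBc] using h1
  have hunit : IsUnit (algebraMap E (Localization.Away e₀) e₀) :=
    IsLocalization.Away.algebraMap_isUnit e₀
  have hone : algebraMap E (Localization.Away e₀) e₀ = 1 :=
    hunit.mul_left_cancel ((he₀.map (algebraMap E _)).eq.trans (mul_one _).symm)
  have : Algebra.Etale E (Localization.Away e₀) := Algebra.Etale.of_isLocalizationAway e₀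
  have : Algebra.Etale A (Localization.Away e₀) := Algebra.Etale.comp A E _
  have hu : IsUnit (ξ.toRingHom e₀) := (congrArg IsUnit hξ).mpr isUnit_one
  refine ⟨Localization.Away e₀, inferInstance, inferInstance, inferInstance,
    IsScalarTower.toAlgHom A E _, IsLocalization.Away.liftAlgHom e₀ (f := ξ) hu,
    AlgHom.ext fun x => IsLocalization.Away.lift_eq (S := Localization.Away e₀) e₀ hu x,
    AlgHom.ext fun x => ?_⟩
  have h3 : w t * (u x - v x) = 0 := by
    have h4 : ((1 : R) ⊗ₜ[B] x - x ⊗ₜ[B] (1 : R)) * t = 0 := ht x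
    have h5 := congrArg w h4
    rw [map_mul, map_sub, map_zero] at h5
    simp only [w, Algebra.TensorProduct.lift_tmul, map_one, one_mul, mul_one] at h5
    linear_combination -h5
  have h6 := congrArg (bcHom B (IsScalarTower.toAlgHom A E (Localization.Away e₀))) h3
  rw [map_mul, map_sub, map_zero, ← heq] at h6
  simp only [bcHom, Algebra.TensorProduct.map_tmul, IsScalarTower.coe_toAlgHom', hone, map_one] at h6
  rw [← Algebra.TensorProduct.one_def, one_mul, sub_eq_zero] at h6
  exact h6

end Groth.EtaleDeep.IndEt
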