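import Groth.Agent.EtaleDeep.IndEt.UnivHomeo
import Groth.Agent.EtaleDeep.IndEt.Enlarge

/-!
# Lifting w-contractible algebras along universal homeomorphisms
-/

set_option autoImplicit false
set_option linter.style.haveILetI false

universe u

open TensorProduct PrimeSpectrum CategoryTheory

namespace Groth.EtaleDeep.IndEt

variable {A B : Type u} [CommRing A] [CommRing B] [Algebra A B]

/-- The universal ind-etale algebra under a given one. -/
theorem exists_etale_colim (D : Type u) [CommRing D] [Algebra A D] :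
    ∃ (C : Type u) (_ : CommRing C) (_ : Algebra A C) (φ : C →ₐ[A] D)
      (H : Pres A C (fun R _ _ => Algebra.Etale A R)),
      Lifts A φ ∧ ∀ (E : Type u) [CommRing E] [Algebra A E], Algebra.Etale A E →
        ∀ ξ : E →ₐ[A] D, ∃ s : E →ₐ[A] C, φ.comp s = ξ := by
  have := isFiltered_obj (A := A) D
  obtain ⟨C, _, _, g, hg, hsurj, heq, -⟩ := exists_colim (A := A)
    (P := fun R _ _ => Algebra.Etale A R) (J := Obj A D (fun R _ _ => Algebra.Etale A R))
    (fun k => k.Ring) (fun {i j} (u : Obj.Hom i j) => u.1) (fun i x => rfl) (fun u v x => rfl)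
    (fun k => k.prop)
  obtain ⟨φ, hφ⟩ := exists_desc (A := A) g hg hsurj heq (R := D) (fun k => k.hom)
    (fun {i j} (u : Obj.Hom i j) x => AlgHom.congr_fun u.2 x)
  let P : Pres A C (fun R _ _ => Algebra.Etale A R) :=
    { J := Obj A D (fun R _ _ => Algebra.Etale A R), G := fun k => k.Ring
      f := fun {i j} (u : Obj.Hom i j) => u.1
      f_id := fun i x => rfl, f_comp := fun u v x => rfl, g := g, g_f := hg, surj := hsurj,
      eq := heq, prop := fun k => k.prop }
  have hex : ∀ (E : Type u) [CommRing E] [Algebra A E], Algebra.Etale A E →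
      ∀ ξ : E →ₐ[A] D, ∃ s : E →ₐ[A] C, φ.comp s = ξ := by
    intro E _ _ hE ψ
    obtain ⟨k, e, he⟩ := exists_obj (A := A) E ψ
    exact ⟨(g k).comp e.toAlgHom, AlgHom.ext fun x => (hφ k (e x)).trans (he x)⟩
  refine ⟨C, inferInstance, inferInstance, φ, P, fun E _ _ hE => ⟨?_, fun ψ => hex E hE ψ⟩, hex⟩
  intro u v huv
  obtain ⟨i, -, u', hu'⟩ := P.exists_lift P.nonempty.some u
  obtain ⟨j, q, v', hv'⟩ := P.exists_lift i v
  let u'' : E →ₐ[A] j.Ring := (P.f q).comp u'
  have hu'' : (g j).comp u'' = u := AlgHom.ext fun x => (hg q _).trans (AlgHom.congr_fun hu' x)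
  have hψ : j.hom.comp u'' = j.hom.comp v' := AlgHom.ext fun x => by
    have h1 := hφ j (u'' x)
    have h2 := hφ j (v' x)
    rw [show g j (u'' x) = u x from AlgHom.congr_fun hu'' x] at h1
    rw [show g j (v' x) = v x from AlgHom.congr_fun hv' x] at h2
    exact h1.symm.trans ((AlgHom.congr_fun huv x).trans h2)
  have := j.prop
  obtain ⟨l, χ, hχ, hχuv⟩ := exists_coequalizer u'' v' j.hom hψ
  have hgl : ∀ x, g l (χ x) = g j x := fun x =>
    hg (show j ⟶ l from (⟨χ, hχ⟩ : Obj.Hom j l)) x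
  refine AlgHom.ext fun x => ?_
  rw [← hu'', ← hv']
  change g j (u'' x) = g j (v' x)
  rw [← hgl, ← hgl]
  exact congrArg (g l) (AlgHom.congr_fun hχuv x)

/-- Weakly etale w-contractible algebras descend along universal homeomorphisms. -/
theorem IsHomeoExt.exists_lift (hB : IsHomeoExt A B) (D : Type u) [CommRing D] [Algebra A D]
    [Algebra B D] [IsScalarTower A B D] [Algebra.WeaklyEtale B D] (hD : EtPBC.IsWContractible D) :
    ∃ (C : Type u) (_ : CommRing C) (_ : Algebra A C) (φ : C →ₐ[A] D),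
      EtPBC.IsIndEtale A C ∧ Lifts A φ ∧ Function.Bijective (fromBc B φ) := by
  obtain ⟨C, _, _, φ, H, hL, hex⟩ := exists_etale_colim (A := A) D
  refine ⟨C, inferInstance, inferInstance, φ, isIndEtale_iff.mpr ⟨H⟩, hL, ?_⟩
  obtain ⟨HD⟩ := isIndEtale_iff.mp (isIndEtale_of_isWContractible (R := B) hD)
  constructor
  · rw [injective_iff_map_eq_zero]
    intro z hz
    obtain ⟨j, z', rfl⟩ : ∃ j z', bcHom B (H.g j) z' = z := by
      clear hz
      induction z using TensorProduct.induction_on with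
      | zero => exact ⟨H.nonempty.some, 0, map_zero _⟩
      | tmul b c =>
        obtain ⟨j, x, rfl⟩ := H.surj c
        exact ⟨j, b ⊗ₜ x, by simp [bcHom]⟩
      | add x y hx hy =>
        obtain ⟨i, x, rfl⟩ := hx
        obtain ⟨j, y, rfl⟩ := hy
        exact ⟨IsFiltered.max i j, bcHom B (H.f (IsFiltered.leftToMax i j)) x +
          bcHom B (H.f (IsFiltered.rightToMax i j)) y, by
          rw [map_add, ← AlgHom.comp_apply, ← AlgHom.comp_apply, bcHom_comp, bcHom_comp,
            show (H.g _).comp (H.f (IsFiltered.leftToMax i j)) = H.g i from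
              AlgHom.ext fun a => H.g_f _ a,
            show (H.g _).comp (H.f (IsFiltered.rightToMax i j)) = H.g j from
              AlgHom.ext fun a => H.g_f _ a]⟩
    let ξ : H.G j →ₐ[A] D := φ.comp (H.g j)
    have := H.prop j
    have hz' : fromBc B ξ z' = 0 := by
      rw [← fromBc_bcHom, AlgHom.comp_apply]; exact hz
    obtain ⟨k, -, a, ha⟩ := HD.exists_lift HD.nonempty.some (fromBc B ξ)
    obtain ⟨k', v, hv⟩ := HD.zero k (a z') (by rw [← AlgHom.comp_apply, ha]; exact hz')
    have := HD.prop k'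
    obtain ⟨E, _, _, hE, ξE, σ, hσ⟩ := hB.exists_map hD (HD.g k')
    let w : B ⊗[A] H.G j →ₐ[B] B ⊗[A] E := σ.comp ((HD.f v).comp a)
    have hw : (fromBc B ξE).comp w = fromBc B ξ := by
      refine AlgHom.ext fun y => (AlgHom.congr_fun hσ _).trans ?_
      change HD.g k' (HD.f v (a y)) = _
      rw [HD.g_f]
      exact AlgHom.congr_fun ha y
    have : Algebra.Etale A (H.G j ⊗[A] E) := Algebra.Etale.comp A (H.G j) _
    let ξ₂ : H.G j ⊗[A] E →ₐ[A] D := Algebra.TensorProduct.lift ξ ξE fun _ _ => Commute.all _ _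
    let l : H.G j →ₐ[A] H.G j ⊗[A] E := Algebra.TensorProduct.includeLeft (S := A)
    let r : E →ₐ[A] H.G j ⊗[A] E := Algebra.TensorProduct.includeRight
    have hl : ξ₂.comp l = ξ := AlgHom.ext fun y => by simp [ξ₂, l]
    have hr : ξ₂.comp r = ξE := AlgHom.ext fun y => by simp [ξ₂, r]
    obtain ⟨E', _, _, hE', χ, ξ', hξ', huv⟩ := hB.exists_equalize (bcHom B l)
      ((bcHom B r).comp w) ξ₂ (by
        rw [← AlgHom.comp_assoc, fromBc_bcHom, fromBc_bcHom, hl, hr, hw])
    obtain ⟨s, hs⟩ := hex E' hE' ξ'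
    have hg : (s.comp χ).comp l = H.g j := (hL (H.G j) (H.prop j)).1 (by
      change φ.comp ((s.comp χ).comp l) = φ.comp (H.g j)
      rw [← AlgHom.comp_assoc, ← AlgHom.comp_assoc, hs, hξ', hl])
    have h0 : bcHom B χ (bcHom B l z') = 0 := by
      refine (AlgHom.congr_fun huv z').trans ?_
      change bcHom B χ (bcHom B r (σ (HD.f v (a z')))) = 0
      rw [hv, map_zero, map_zero, map_zero]
    rw [← hg, ← bcHom_comp, AlgHom.comp_apply, ← bcHom_comp, AlgHom.comp_apply, h0, map_zero]
  · intro d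
    obtain ⟨k, y, rfl⟩ := HD.surj d
    have := HD.prop k
    obtain ⟨E, _, _, hE, ξ, σ, hσ⟩ := hB.exists_map hD (HD.g k)
    obtain ⟨s, hs⟩ := hex E hE ξ
    refine ⟨bcHom B s (σ y), ?_⟩
    rw [← AlgHom.comp_apply, fromBc_bcHom, hs]
    exact AlgHom.congr_fun hσ y

/-- The lift in the form used for henselian lifts. -/
theorem IsHomeoExt.exists_wContractible_lift (hB : IsHomeoExt A B) (D : Type u) [CommRing D]
    [Algebra B D] [Algebra A D] [IsScalarTower A B D] [Algebra.WeaklyEtale B D]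
    (hD : EtPBC.IsWContractible D) :
    ∃ (C : Type u) (_ : CommRing C) (_ : Algebra A C) (_ : Algebra C D) (_ : IsScalarTower A C D),
      EtPBC.IsIndEtale A C ∧ EtPBC.IsWContractible C ∧
      Function.Bijective (fromBc B (IsScalarTower.toAlgHom A C D)) ∧
      Lifts C (Algebra.ofId C D) ∧
      ∀ e : C →ₐ[A] C, (∀ c, algebraMap C D (e c) = algebraMap C D c) → e = AlgHom.id A C := by
  obtain ⟨C, _, _, φ, hC, hlift, hbij⟩ := hB.exists_lift D hD
  letI : Algebra C D := φ.toRingHom.toAlgebra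
  have : IsScalarTower A C D := IsScalarTower.of_algebraMap_eq fun a => (φ.commutes a).symm
  have hφ : IsScalarTower.toAlgHom A C D = φ := AlgHom.ext fun _ => rfl
  have h1 : Lifts A (IsScalarTower.toAlgHom A C D) := hφ ▸ hlift
  have h2 := lifts_self hC h1
  exact ⟨C, inferInstance, inferInstance, inferInstance, inferInstance, hC,
    h2.isWContractible hD, hφ.symm ▸ hbij, h2,
    fun e he => (h1.bijective_indEtale hC).1 (AlgHom.ext he)⟩

/-- Base change along a universal homeomorphism preserves w-contractibility of weakly etale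
algebras. -/
theorem IsHomeoExt.isWContractible_tensor (hB : IsHomeoExt A B) {C₀ : Type u} [CommRing C₀]
    [Algebra A C₀] [Algebra.WeaklyEtale A C₀] (hC₀ : EtPBC.IsWContractible C₀) :
    EtPBC.IsWContractible (B ⊗[A] C₀) := by
  obtain ⟨D, _, _, hff, hind, hD⟩ := exists_wContractible_cover (B ⊗[A] C₀)
  have := weaklyEtale hind
  letI : Algebra B D := ((algebraMap (B ⊗[A] C₀) D).comp (algebraMap B (B ⊗[A] C₀))).toAlgebra
  letI : Algebra A D := ((algebraMap B D).comp (algebraMap A B)).toAlgebra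
  have : IsScalarTower B (B ⊗[A] C₀) D := IsScalarTower.of_algebraMap_eq fun _ => rfl
  have : IsScalarTower A B D := IsScalarTower.of_algebraMap_eq fun _ => rfl
  have : IsScalarTower A (B ⊗[A] C₀) D := IsScalarTower.of_algebraMap_eq fun a => by
    change algebraMap (B ⊗[A] C₀) D _ = _
    rw [← IsScalarTower.algebraMap_apply A B]
  have : Algebra.WeaklyEtale B D := Algebra.WeaklyEtale.trans B (B ⊗[A] C₀) D
  obtain ⟨C, _, _, φ, hC, hL, hbij⟩ := hB.exists_lift D hD
  let α : B ⊗[A] C₀ →ₐ[B] D := IsScalarTower.toAlgHom B (B ⊗[A] C₀) D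
  obtain ⟨κ, hκ⟩ := (hL.bijective_indEtale (isIndEtale_of_isWContractible (R := A) hC₀)).2
    ((α.restrictScalars A).comp Algebra.TensorProduct.includeRight)
  let Φ := AlgEquiv.ofBijective (fromBc B φ) hbij
  have hκ' : ∀ y, Φ.symm (algebraMap (B ⊗[A] C₀) D y) = bcHom B κ y := fun y => by
    rw [AlgEquiv.symm_apply_eq]
    change α y = (fromBc B φ) (bcHom B κ y)
    rw [← AlgHom.comp_apply (fromBc B φ), fromBc_bcHom]
    refine AlgHom.congr_fun (Algebra.TensorProduct.ext (Subsingleton.elim _ _) ?_) y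
    refine AlgHom.ext fun x => ?_
    have := AlgHom.congr_fun hκ x
    simp [fromBc, α] at this ⊢
    exact this.symm
  letI : Algebra C₀ C := κ.toRingHom.toAlgebra
  have : IsScalarTower A C₀ C := IsScalarTower.of_algebraMap_eq fun a => (κ.commutes a).symm
  have := weaklyEtale hC
  have : Algebra.WeaklyEtale C₀ C := Groth.EtaleAlgebra.weaklyEtale_of_tower A C₀ C
  have : Module.FaithfullyFlat C₀ C := by
    have := ‹Algebra.WeaklyEtale C₀ C›.flat
    refine Module.FaithfullyFlat.of_comap_surjective fun p => ?_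
    obtain ⟨q, hq⟩ := (hB.exists_point_over p).exists
    obtain ⟨y, hy⟩ := PrimeSpectrum.comap_surjective_of_faithfullyFlat (B := D) q
    refine ⟨PrimeSpectrum.comap φ.toRingHom y, ?_⟩
    rw [← hq, ← hy]
    refine PrimeSpectrum.ext (Ideal.ext fun x => ?_)
    change φ (κ x) ∈ y.asIdeal ↔ α ((1 : B) ⊗ₜ x) ∈ y.asIdeal
    rw [show φ (κ x) = α ((1 : B) ⊗ₜ x) from AlgHom.congr_fun hκ x]
  obtain ⟨s⟩ := hC₀ C inferInstance inferInstance
  intro E _ _ hffE hweE
  obtain ⟨r⟩ := hD (D ⊗[B ⊗[A] C₀] E) inferInstance inferInstance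
  let ret : D →+* B ⊗[A] C₀ :=
    ((bcHom B (s.restrictScalars A)).comp Φ.symm.toAlgHom).toRingHom
  have hret : ∀ y, ret (algebraMap (B ⊗[A] C₀) D y) = y := fun y => by
    change bcHom B (s.restrictScalars A) (Φ.symm (algebraMap (B ⊗[A] C₀) D y)) = y
    rw [hκ', ← AlgHom.comp_apply, bcHom_comp,
      show (s.restrictScalars A).comp κ = AlgHom.id A C₀ from AlgHom.ext fun x => s.commutes x,
      bcHom_id]
    rfl
  let g : E →ₐ[B ⊗[A] C₀] D :=
    (r.restrictScalars _).comp Algebra.TensorProduct.includeRight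
  exact ⟨AlgHom.mk (ret.comp g.toRingHom) fun y => by
    change ret (g (algebraMap _ E y)) = _
    rw [g.commutes]
    exact hret y⟩

end Groth.EtaleDeep.IndEt
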