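import Groth.Agent.EtaleDeep.IndEt.WContractible

/-!
# Localizations of w-contractible rings along finitely many equations
-/

set_option autoImplicit false
set_option linter.style.haveILetI false

universe u

open CategoryTheory TensorProduct PrimeSpectrum Topology

namespace Groth.EtaleDeep.IndEt

variable {A B : Type u} [CommRing A] [CommRing B] [Algebra A B]

theorem isIndEtale_prod {E F : Type u} [CommRing E] [CommRing F] [Algebra A E] [Algebra A F]
    (hE : EtPBC.IsIndEtale A E) (hF : EtPBC.IsIndEtale A F) : EtPBC.IsIndEtale A (E × F) := by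
  rw [isIndEtale_iff_factors]
  intro n s b hb
  obtain ⟨E₁, _, _, hE₁, ψ, x, hx, hxb⟩ := isIndEtale_iff_factors.1 hE n s (fun l => (b l).1)
    fun r hr => by
      rw [show MvPolynomial.aeval (fun l => (b l).1) r = (AlgHom.fst A E F) (MvPolynomial.aeval b r) from
        (MvPolynomial.comp_aeval_apply _ (AlgHom.fst A E F) _).symm, hb r hr, map_zero]
  obtain ⟨F₁, _, _, hF₁, χ, y, hy, hyb⟩ := isIndEtale_iff_factors.1 hF n s (fun l => (b l).2)
    fun r hr => by
      rw [show MvPolynomial.aeval (fun l => (b l).2) r = (AlgHom.snd A E F) (MvPolynomial.aeval b r) from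
        (MvPolynomial.comp_aeval_apply _ (AlgHom.snd A E F) _).symm, hb r hr, map_zero]
  refine ⟨E₁ × F₁, inferInstance, inferInstance, etale_prod E₁ F₁,
    (ψ.comp (AlgHom.fst A E₁ F₁)).prod (χ.comp (AlgHom.snd A E₁ F₁)), fun l => (x l, y l),
    fun r hr => ?_, fun l => Prod.ext (hxb l) (hyb l)⟩
  refine Prod.ext ?_ ?_
  · change AlgHom.fst A E₁ F₁ (MvPolynomial.aeval (fun l => (x l, y l)) r) = 0
    rw [MvPolynomial.comp_aeval_apply]
    exact hx r hr
  · change AlgHom.snd A E₁ F₁ (MvPolynomial.aeval (fun l => (x l, y l)) r) = 0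
    rw [MvPolynomial.comp_aeval_apply]
    exact hy r hr

theorem isIndEtale_localization (S : Submonoid A) [IsLocalization S B] : EtPBC.IsIndEtale A B :=
  isIndEtale_of_isIndZariski (isIndZariski_localization S isIndZariski_self)

/-- The points specializing into the zero locus of finitely many elements form a clopen set. -/
theorem isClopen_specializing (hw : ProEtW.IsWLocal (PrimeSpectrum A)) (E : Finset A) :
    IsClopen {x : PrimeSpectrum A | ∃ z ∈ zeroLocus (E : Set A), x ⤳ z} := by
  obtain ⟨_, _, _⟩ := PiZero.isProfinite_closedPoints hw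
  let Z : Set (ProEtW.closedPoints (PrimeSpectrum A)) := Subtype.val ⁻¹' zeroLocus (E : Set A)
  have hD : ∀ e : A, IsClopen (Subtype.val ⁻¹' (basicOpen e : Set (PrimeSpectrum A)) :
      Set (ProEtW.closedPoints (PrimeSpectrum A))) := fun e => by
    refine ⟨IsCompact.isClosed ?_, (basicOpen e).2.preimage continuous_subtype_val⟩
    rw [Topology.IsInducing.subtypeVal.isCompact_iff, Set.image_preimage_eq_inter_range,
      Subtype.range_coe_subtype]
    exact (isCompact_basicOpen e).inter_right hw.2.1
  have hZ : IsClopen Z := by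
    have heq : Z = ⋂ e ∈ E, (Subtype.val ⁻¹' (basicOpen e : Set (PrimeSpectrum A)))ᶜ := by
      ext x
      simp only [Z, Set.mem_preimage, mem_zeroLocus, Set.subset_def, Finset.mem_coe,
        Set.mem_iInter, Set.mem_compl_iff, SetLike.mem_coe, mem_basicOpen, not_not]
    rw [heq]
    exact isClopen_biInter_finset fun e _ => (hD e).compl
  have h := hZ.preimage (PiZero.continuous_retr hw)
  convert h using 1
  ext x
  constructor
  · rintro ⟨z, hz, hxz⟩
    change PiZero.retr hw x ∈ zeroLocus (E : Set A)
    rw [PiZero.retr_of_specializes hw hxz]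
    exact (PiZero.specializes_retr hw z).mem_closed (isClosed_zeroLocus _) hz
  · exact fun hx => ⟨_, hx, PiZero.specializes_retr hw x⟩

/-- A localization with clopen image inherits retractions. -/
theorem hasIndEtaleRetractions_of_clopen (S : Submonoid A) [IsLocalization S B]
    (h : ProEtW.HasIndEtaleRetractions A)
    (hW : IsClopen (Set.range (PrimeSpectrum.comap (algebraMap A B)))) :
    ProEtW.HasIndEtaleRetractions B := by
  intro C _ _ hff hC
  obtain ⟨f, hf, hWf⟩ := PrimeSpectrum.isClopen_iff.1 hW
  let F := Localization.Away (1 - f)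
  letI : Algebra A C := ((algebraMap B C).comp (algebraMap A B)).toAlgebra
  have : IsScalarTower A B C := IsScalarTower.of_algebraMap_eq fun _ => rfl
  have hCA : EtPBC.IsIndEtale A C := isIndEtale_trans (isIndEtale_localization S) hC
  have hFA : EtPBC.IsIndEtale A F := isIndEtale_localization (Submonoid.powers (1 - f))
  have hind := isIndEtale_prod hCA hFA
  have : Module.Flat A (C × F) := flat_of_isIndEtale hind
  have hff' : Module.FaithfullyFlat A (C × F) := by
    refine Module.FaithfullyFlat.of_comap_surjective fun p => ?_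
    by_cases hp : f ∈ p.asIdeal
    · have h1 : (1 - f) ∉ p.asIdeal := fun h1 => p.2.ne_top ((Ideal.eq_top_iff_one _).2 (by
        have := p.asIdeal.add_mem h1 hp
        rwa [sub_add_cancel] at this))
      obtain ⟨q, rfl⟩ := (PrimeSpectrum.localization_away_comap_range F (1 - f)).ge h1
      refine ⟨PrimeSpectrum.comap (RingHom.snd C F) q, ?_⟩
      rw [← PrimeSpectrum.comap_comp_apply]
      rfl
    · obtain ⟨b, rfl⟩ : p ∈ Set.range (PrimeSpectrum.comap (algebraMap A B)) := hWf ▸ hp
      obtain ⟨q, rfl⟩ := PrimeSpectrum.comap_surjective_of_faithfullyFlat (A := B) (B := C) b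
      refine ⟨PrimeSpectrum.comap (RingHom.fst C F) q, ?_⟩
      rw [← PrimeSpectrum.comap_comp_apply, ← PrimeSpectrum.comap_comp_apply]
      rfl
  obtain ⟨r⟩ := h (C × F) hff' hind
  let ι := algebraMap A B
  have hfB : IsUnit (ι f) := by
    by_contra hnu
    obtain ⟨M, hM, hfM⟩ := exists_max_ideal_of_mem_nonunits hnu
    exact (hWf.le ⟨⟨M, hM.isPrime⟩, rfl⟩ : f ∉ M.comap ι) hfM
  have h01 : ι (r (0, 1)) = 0 := by
    refine hfB.mul_right_eq_zero.1 ?_
    rw [← map_mul, show f * r (0, 1) = r (f • ((0 : C), (1 : F))) by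
      rw [map_smul, smul_eq_mul]]
    have h1 : algebraMap A F f = 0 := by
      have h2 : algebraMap A F (1 - f) * algebraMap A F f = 0 := by
        rw [← map_mul, sub_mul, one_mul, hf.eq, sub_self, map_zero]
      exact (IsLocalization.Away.algebraMap_isUnit (S := F) (1 - f)).mul_right_eq_zero.1 h2
    rw [Prod.smul_mk, smul_zero, Algebra.smul_def, h1, zero_mul,
      show ((0 : C), (0 : F)) = 0 from rfl, map_zero, map_zero]
  have h10 : ι (r (1, 0)) = 1 := by
    have h2 : r (1, 0) + r (0, 1) = 1 := by rw [← map_add, Prod.mk_add_mk, add_zero, zero_add]; exact map_one r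
    have h3 := congrArg ι h2
    rwa [map_add, h01, add_zero, map_one] at h3
  let φ₀ : C →+* B :=
    { toFun := fun c => ι (r (c, 0))
      map_one' := h10
      map_mul' := fun c d => by
        rw [← map_mul, ← map_mul, Prod.mk_mul_mk, mul_zero]
      map_zero' := by rw [show ((0 : C), (0 : F)) = 0 from rfl, map_zero, map_zero]
      map_add' := fun c d => by rw [← map_add, ← map_add, Prod.mk_add_mk, add_zero] }
  have hφ : φ₀.comp (algebraMap B C) = RingHom.id B := by
    refine IsLocalization.ringHom_ext S (RingHom.ext fun a => ?_)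
    change ι (r (algebraMap A C a, 0)) = ι a
    rw [show ((algebraMap A C a, (0 : F)) : C × F) = a • ((1 : C), (0 : F)) by
      rw [Prod.smul_mk, smul_zero, Algebra.smul_def, mul_one], map_smul, smul_eq_mul, map_mul, h10,
      mul_one]
  exact ⟨{ φ₀ with commutes' := fun b => RingHom.congr_fun hφ b }⟩

end Groth.EtaleDeep.IndEt
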