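import Groth.Agent.EtaleDeep.IndEt.WLocalStrict
import Groth.Agent.EtaleDeep.Olivier.Main

/-!
# Characterization of w-contractible rings
-/

set_option autoImplicit false
set_option linter.style.haveILetI false

universe u

open CategoryTheory TensorProduct PrimeSpectrum Topology

namespace Groth.EtaleDeep.IndEt

variable {A B : Type u} [CommRing A] [CommRing B] [Algebra A B]

/-- Identifying local rings passes to generizations. -/
theorem IdAt.of_le {q n : PrimeSpectrum B} (h : IdAt A n.asIdeal) (hle : q.asIdeal ≤ n.asIdeal) :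
    IdAt A q.asIdeal := by
  refine ⟨fun a c hc hca => ?_, fun b => ?_⟩
  · obtain ⟨a', s', hs', c', hc', e⟩ := h.2 c
    have ha' : a' ∉ q.asIdeal.comap (algebraMap A B) := by
      intro ha'
      have h1 : c' * (algebraMap A B s' * c - algebraMap A B a') ∈ q.asIdeal := by
        rw [e]; exact zero_mem _
      have h2 := (q.2.mem_or_mem h1).resolve_left fun h => hc' (hle h)
      have h3 : algebraMap A B s' * c ∈ q.asIdeal := (q.asIdeal.sub_mem_iff_left ha').1 h2
      exact (q.2.mem_or_mem h3).elim (fun h => hs' (hle h)) hc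
    obtain ⟨s, hs, hsa⟩ := h.1 (a' * a) c' hc' (by
      rw [map_mul]
      linear_combination (-algebraMap A B a) * e + c' * algebraMap A B s' * hca)
    refine ⟨s * a', fun h' => ?_, by rw [mul_assoc]; exact hsa⟩
    rcases (q.2.comap (algebraMap A B)).mem_or_mem h' with h'' | h''
    · exact hs (hle h'')
    · exact ha' h''
  · obtain ⟨a, s, hs, c, hc, e⟩ := h.2 b
    exact ⟨a, s, fun h' => hs (hle h'), c, fun h' => hc (hle h'), e⟩

theorem identifiesLocalRings_of_forall_maximal
    (h : ∀ n : Ideal B, n.IsMaximal → IdAt A n) : EtPBC.IdentifiesLocalRings A B := by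
  refine identifiesLocalRings_iff.2 fun q => ?_
  obtain ⟨n, hn, hle⟩ := q.asIdeal.exists_le_maximal q.2.ne_top
  exact IdAt.of_le (n := ⟨n, hn.isPrime⟩) (h n hn) hle

theorem bijective_localRingHom_iff (q : PrimeSpectrum B) :
    Function.Bijective (Localization.localRingHom (q.asIdeal.comap (algebraMap A B)) q.asIdeal
      (algebraMap A B) rfl) ↔ IdAt A q.asIdeal := by
  set p := q.asIdeal.comap (algebraMap A B)
  refine ⟨fun h => ?_, fun h => ?_⟩
  · refine ⟨fun a c hc hca => ?_, fun b => ?_⟩
    · have h1 : algebraMap B (Localization.AtPrime q.asIdeal) (algebraMap A B a) = 0 :=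
        (IsLocalization.map_eq_zero_iff q.asIdeal.primeCompl _ _).2 ⟨⟨c, hc⟩, hca⟩
      rw [← Localization.localRingHom_to_map p q.asIdeal (algebraMap A B) rfl,
        map_eq_zero_iff _ h.1, IsLocalization.map_eq_zero_iff p.primeCompl] at h1
      obtain ⟨⟨s, hs⟩, hsa⟩ := h1
      exact ⟨s, hs, hsa⟩
    · obtain ⟨y, hy⟩ := h.2 (algebraMap B (Localization.AtPrime q.asIdeal) b)
      obtain ⟨a, ⟨s, hs⟩, rfl⟩ := IsLocalization.exists_mk'_eq p.primeCompl y
      have h2 := congrArg (Localization.localRingHom p q.asIdeal (algebraMap A B) rfl)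
        (IsLocalization.mk'_spec (Localization.AtPrime p) a (⟨s, hs⟩ : p.primeCompl))
      rw [map_mul, hy, Localization.localRingHom_to_map, Localization.localRingHom_to_map,
        ← map_mul, IsLocalization.eq_iff_exists q.asIdeal.primeCompl] at h2
      obtain ⟨⟨c, hc⟩, hcc⟩ := h2
      exact ⟨a, s, hs, c, hc, by rw [mul_sub, mul_comm (algebraMap A B s)]; exact sub_eq_zero.2 hcc⟩
  · refine ⟨(injective_iff_map_eq_zero _).2 fun y hy => ?_, fun z => ?_⟩
    · obtain ⟨a, s, rfl⟩ := IsLocalization.exists_mk'_eq p.primeCompl y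
      rw [Localization.localRingHom_mk', IsLocalization.mk'_eq_zero_iff] at hy
      obtain ⟨⟨c, hc⟩, hca⟩ := hy
      obtain ⟨t, ht, hta⟩ := h.1 a c hc hca
      exact (IsLocalization.mk'_eq_zero_iff a s).2 ⟨⟨t, ht⟩, hta⟩
    · obtain ⟨b, ⟨d, hd⟩, rfl⟩ := IsLocalization.exists_mk'_eq q.asIdeal.primeCompl z
      obtain ⟨a₁, s₁, hs₁, c₁, hc₁, e₁⟩ := h.2 b
      obtain ⟨a₂, s₂, hs₂, c₂, hc₂, e₂⟩ := h.2 d
      have ha₂ : a₂ ∉ p := by
        intro ha
        have h1 : c₂ * (algebraMap A B s₂ * d - algebraMap A B a₂) ∈ q.asIdeal := by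
          rw [e₂]; exact zero_mem _
        have h3 := (q.asIdeal.sub_mem_iff_left ha).1 ((q.2.mem_or_mem h1).resolve_left hc₂)
        exact (q.2.mem_or_mem h3).elim hs₂ hd
      refine ⟨IsLocalization.mk' (Localization.AtPrime p) (a₁ * s₂)
        (⟨a₂ * s₁, fun hm => (p.primeCompl.mul_mem ha₂ hs₁) hm⟩ : p.primeCompl), ?_⟩
      rw [Localization.localRingHom_mk', IsLocalization.mk'_eq_iff_eq,
        IsLocalization.eq_iff_exists q.asIdeal.primeCompl]
      refine ⟨⟨c₁ * c₂, fun hm => (q.2.mem_or_mem hm).elim hc₁ hc₂⟩, ?_⟩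
      simp only [map_mul]
      linear_combination (-algebraMap A B a₂ * c₂) * e₁ + (algebraMap A B a₁ * c₁) * e₂
        + 0

/-- A weakly etale algebra identifies local rings at maximal ideals over strictly henselian points. -/
theorem idAt_of_weaklyEtale [Algebra.WeaklyEtale A B] (n : PrimeSpectrum B)
    (hsh : EtCoh.IsStrictlyHenselianLocalRing
      (Localization.AtPrime (n.asIdeal.comap (algebraMap A B)))) : IdAt A n.asIdeal := by
  rw [← bijective_localRingHom_iff]
  set p := n.asIdeal.comap (algebraMap A B)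
  obtain ⟨_, _⟩ := hsh
  let φ := Localization.localRingHom p n.asIdeal (algebraMap A B) rfl
  have : IsLocalHom φ := Localization.isLocalHom_localRingHom p n.asIdeal (algebraMap A B) rfl
  letI : Algebra (Localization.AtPrime p) (Localization.AtPrime n.asIdeal) := φ.toAlgebra
  have : IsScalarTower A (Localization.AtPrime p) (Localization.AtPrime n.asIdeal) :=
    IsScalarTower.of_algebraMap_eq fun a => by
      rw [IsScalarTower.algebraMap_apply A B (Localization.AtPrime n.asIdeal)]
      exact (Localization.localRingHom_to_map p n.asIdeal (algebraMap A B) rfl a).symm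
  have : Algebra.WeaklyEtale A (Localization.AtPrime p) :=
    weaklyEtale_of_isIndZariski (isIndZariski_localization p.primeCompl isIndZariski_self)
  have : Algebra.WeaklyEtale B (Localization.AtPrime n.asIdeal) :=
    weaklyEtale_of_isIndZariski (isIndZariski_localization n.asIdeal.primeCompl isIndZariski_self)
  have : Algebra.WeaklyEtale A (Localization.AtPrime n.asIdeal) :=
    Algebra.WeaklyEtale.trans A B _
  have : Algebra.WeaklyEtale (Localization.AtPrime p) (Localization.AtPrime n.asIdeal) :=
    Groth.EtaleAlgebra.weaklyEtale_of_tower A _ _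
  have : IsLocalHom (algebraMap (Localization.AtPrime p) (Localization.AtPrime n.asIdeal)) :=
    ‹IsLocalHom φ›
  exact Olivier.bijective_of_weaklyEtale (A := Localization.AtPrime p)
    (B := Localization.AtPrime n.asIdeal)

theorem hasEtaleRetractions_of_indEtale {A : Type u} [CommRing A]
    (h : ProEtW.HasIndEtaleRetractions A) : ProEtW.HasEtaleRetractions A := fun E _ _ hff hE =>
  h E hff (isIndEtale_iff_factors.2 fun n s b hb =>
    ⟨E, inferInstance, inferInstance, hE, AlgHom.id A E, b, hb, fun _ => rfl⟩)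

theorem isWContractible_iff_indEtale {A : Type u} [CommRing A] :
    (EtPBC.IsWContractible A → ProEtW.HasIndEtaleRetractions A) ∧
    (ProEtW.HasIndEtaleRetractions A →
      ProEtW.IsWLocal (PrimeSpectrum A) ∧
        ExtremallyDisconnected (_root_.ConnectedComponents (PrimeSpectrum A)) ∧
        ∀ (m : Ideal A) [m.IsMaximal],
          EtCoh.IsStrictlyHenselianLocalRing (Localization.AtPrime m)) := by
  refine ⟨fun h B _ _ hff hB => h B hff (weaklyEtale hB), fun h => ?_⟩
  have hZ : ProEtW.HasIndZariskiRetractions A := fun B _ _ hff hB =>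
    h B hff (isIndEtale_of_isIndZariski hB)
  obtain ⟨hw, hed⟩ := wLocal_of_hasIndZariskiRetractions hZ
  exact ⟨hw, hed, fun m _ => isStrictlyHenselianLocalRing m (hasEtaleRetractions_of_indEtale h)⟩

theorem isWContractible_of_wLocal {A : Type u} [CommRing A]
    (hw : ProEtW.IsWLocal (PrimeSpectrum A))
    [ExtremallyDisconnected (_root_.ConnectedComponents (PrimeSpectrum A))]
    (hsh : ∀ (m : Ideal A) [m.IsMaximal],
      EtCoh.IsStrictlyHenselianLocalRing (Localization.AtPrime m)) : EtPBC.IsWContractible A := by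
  intro B _ _ _ hB
  obtain ⟨J, hJ⟩ := (PrimeSpectrum.isClosed_iff_zeroLocus_ideal _).1 hw.2.1
  obtain ⟨D, _, _, _, _, hD, hwD, hmap, hbij⟩ :=
    exists_wLocal_section (B := B) hw J hJ.symm Olivier.incomparable_of_weaklyEtale
  have := weaklyEtale_of_isIndZariski hD
  have : Algebra.WeaklyEtale A D := Algebra.WeaklyEtale.trans A B D
  refine retraction_of_bijective (bijective_of_identifiesLocalRings
    (identifiesLocalRings_of_forall_maximal fun n hn => ?_) hw hwD hmap hbij)
  have hm : (n.comap (algebraMap A D)).IsMaximal :=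
    (PrimeSpectrum.isClosed_singleton_iff_isMaximal _).1
      (hmap.2 ⟨n, hn.isPrime⟩ ((PrimeSpectrum.isClosed_singleton_iff_isMaximal _).2 hn))
  exact idAt_of_weaklyEtale ⟨n, hn.isPrime⟩ (hsh _)

end Groth.EtaleDeep.IndEt
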