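import Groth.Agent.EtaleDeep.IndEt.Realize

/-!
# Maps identifying local rings between w-local rings
-/

set_option autoImplicit false
set_option linter.style.haveILetI false

universe u

open Topology TopologicalSpace Set PrimeSpectrum
open Groth.EtaleDeep

namespace Groth.EtaleDeep.IndEt

variable {A B : Type u} [CommRing A] [CommRing B] [Algebra A B]

theorem isWLocal_of_homeomorph {X Y : Type u} [TopologicalSpace X] [TopologicalSpace Y]
    (h : X ≃ₜ Y) (hY : ProEtW.IsWLocal Y) : ProEtW.IsWLocal X := by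
  have := hY.1
  have hpt : ∀ x, IsClosed ({x} : Set X) ↔ IsClosed ({h x} : Set Y) := fun x => by
    rw [← Set.image_singleton, h.isClosed_image]
  have hsp : ∀ x y, x ⤳ y ↔ h x ⤳ h y := fun x y => h.isInducing.specializes_iff.symm
  refine ⟨Groth.EtaleDeep.spectralSpace_of_isClosedEmbedding h.isClosedEmbedding, ?_, fun x => ?_⟩
  · rw [show {x : X | IsClosed ({x} : Set X)} = h ⁻¹' {y | IsClosed ({y} : Set Y)} from Set.ext hpt]
    exact hY.2.1.preimage h.continuous
  · obtain ⟨y, ⟨hy, hxy⟩, huniq⟩ := hY.2.2 (h x)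
    refine ⟨h.symm y, ⟨(hpt _).2 (by rwa [h.apply_symm_apply]),
      (hsp _ _).2 (by rwa [h.apply_symm_apply])⟩, fun z hz => ?_⟩
    rw [← huniq (h z) ⟨(hpt z).1 hz.1, (hsp x z).1 hz.2⟩, h.symm_apply_apply]

theorem isSpectralMap_comap {R S : Type u} [CommRing R] [CommRing S] (φ : R →+* S) :
    IsSpectralMap (PrimeSpectrum.comap φ) := by
  refine ⟨PrimeSpectrum.continuous_comap φ, fun U ho hc => ?_⟩
  obtain ⟨s, hs, rfl⟩ := eq_finite_iUnion_of_isTopologicalBasis_of_isCompact_open _
    PrimeSpectrum.isTopologicalBasis_basic_opens U hc ho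
  rw [Set.preimage_iUnion₂]
  exact hs.isCompact_biUnion fun r _ => isCompact_basicOpen (φ r)

theorem bijective_of_identifiesLocalRings (h1 : EtPBC.IdentifiesLocalRings A B)
    (h2 : ProEtW.IsWLocal (PrimeSpectrum A)) (h3 : ProEtW.IsWLocal (PrimeSpectrum B))
    (h4 : ProEtW.IsWLocalMap (PrimeSpectrum.comap (algebraMap A B)))
    (h5 : Function.Bijective
      (PrimeSpectrum.continuous_comap (algebraMap A B)).connectedComponentsMap) :
    Function.Bijective (algebraMap A B) := by
  set f := PrimeSpectrum.comap (algebraMap A B)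
  have hid := identifiesLocalRings_iff.1 h1
  have hf : ∀ y, (PrimeSpectrum.continuous_comap (algebraMap A B)).connectedComponentsMap
      (_root_.ConnectedComponents.mk y) = _root_.ConnectedComponents.mk (f y) := fun y => rfl
  have hex : ∀ m : PrimeSpectrum A, IsClosed ({m} : Set (PrimeSpectrum A)) →
      ∃ m' : PrimeSpectrum B, f m' = m ∧
        ∀ q : PrimeSpectrum B, f q ⤳ m → q ⤳ m' := by
    intro m hm
    obtain ⟨d, hd⟩ := h5.2 (_root_.ConnectedComponents.mk m)
    obtain ⟨y, hy, rfl⟩ := PiZero.exists_closed_mk_eq h3 d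
    have hym : f y = m := PiZero.eq_of_mk_eq h2 (h4.2 y hy) hm ((hf y).symm.trans hd)
    refine ⟨y, hym, fun q hq => ?_⟩
    have hr := PiZero.specializes_retr h3 q
    have h6 : f (PiZero.retr h3 q) = m :=
      (PiZero.eq_retr h2 (h4.2 _ (PiZero.isClosed_retr h3 q))
        (hr.map (PrimeSpectrum.continuous_comap _))).trans (PiZero.eq_retr h2 hm hq).symm
    have h7 : PiZero.retr h3 q = y := PiZero.eq_of_mk_eq h3 (PiZero.isClosed_retr h3 q) hy
      (h5.1 (by rw [hf, hf, h6, hym]))
    rwa [h7] at hr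
  have hmax : ∀ I : Ideal A, I ≠ ⊤ → ∃ m : PrimeSpectrum A, I ≤ m.asIdeal ∧ ∃ m' : PrimeSpectrum B,
      f m' = m ∧ ∀ q : PrimeSpectrum B, f q ⤳ m → q ⤳ m' := fun I hI => by
    obtain ⟨M, hM, hle⟩ := Ideal.exists_le_maximal I hI
    exact ⟨⟨M, hM.isPrime⟩, hle, hex _ ((PrimeSpectrum.isClosed_singleton_iff_isMaximal _).2 hM)⟩
  constructor
  · refine (injective_iff_map_eq_zero _).2 fun a ha => ?_
    by_contra ha0
    let I : Ideal A := Ideal.torsionOf A A a
    obtain ⟨m, hIm, m', rfl, -⟩ := hmax I (fun htop => ha0 (by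
      have : (1 : A) ∈ I := htop ▸ Submodule.mem_top
      simpa [I, Ideal.mem_torsionOf_iff] using this))
    obtain ⟨s, hs, hsa⟩ := (hid m').1 a 1 m'.2.one_notMem (by rw [one_mul, ha])
    exact hs (hIm (by rw [Ideal.mem_torsionOf_iff]; simpa using hsa))
  · intro b
    by_contra hb
    let J : Ideal A :=
      { carrier := {s | ∃ a, algebraMap A B s * b = algebraMap A B a}
        zero_mem' := ⟨0, by simp⟩
        add_mem' := by
          rintro s t ⟨a, ha⟩ ⟨a', ha'⟩
          exact ⟨a + a', by rw [map_add, map_add, add_mul, ha, ha']⟩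
        smul_mem' := by
          rintro r s ⟨a, ha⟩
          exact ⟨r * a, by rw [smul_eq_mul, map_mul, map_mul, mul_assoc, ha]⟩ }
    obtain ⟨m, hJm, m', rfl, huniq⟩ := hmax J (fun htop => hb (by
      obtain ⟨a, ha⟩ := (htop ▸ Submodule.mem_top : (1 : A) ∈ J)
      exact ⟨a, by rw [← ha, map_one, one_mul]⟩))
    obtain ⟨a, s, hs, c, hc, hca⟩ := (hid m').2 b
    let S : Submonoid B := (f m').asIdeal.primeCompl.map (algebraMap A B).toMonoidHom
    obtain ⟨t, ht, d, hd⟩ : ∃ t, t ∉ (f m').asIdeal ∧ ∃ d, algebraMap A B t = c * d := by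
      by_contra hcon
      push Not at hcon
      obtain ⟨q, hq, hcq, hqS⟩ := Ideal.exists_le_prime_disjoint (Ideal.span {c}) S
        (Set.disjoint_left.2 fun x hx ⟨t, ht, htx⟩ => by
          obtain ⟨d, hd⟩ := Ideal.mem_span_singleton.1 hx
          exact hcon t ht d (htx.trans hd))
      have hle : q.comap (algebraMap A B) ≤ (f m').asIdeal := fun x hx => by
        by_contra hxm
        exact Set.disjoint_left.1 hqS hx ⟨x, hxm, rfl⟩
      have hq' := huniq ⟨q, hq⟩ ((le_iff_specializes _ _).1 hle)
      exact hc ((le_iff_specializes _ _).2 hq' (hcq (Ideal.mem_span_singleton_self c)))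
    have h9 : t * s ∈ J := ⟨t * a, by
      rw [map_mul, map_mul, hd]
      linear_combination d * hca⟩
    exact ((f m').2.mem_or_mem (hJm h9)).elim ht hs

/-- The idempotent of a clopen set of components. -/
noncomputable def idem {U : Set (_root_.ConnectedComponents (PrimeSpectrum B))} (hU : IsClopen U) : B :=
  (PrimeSpectrum.isClopen_iff.1 (hU.preimage ConnectedComponents.continuous_coe)).choose

theorem isIdempotentElem_idem {U : Set (_root_.ConnectedComponents (PrimeSpectrum B))}
    (hU : IsClopen U) : IsIdempotentElem (idem hU) :=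
  (PrimeSpectrum.isClopen_iff.1 (hU.preimage ConnectedComponents.continuous_coe)).choose_spec.1

theorem idem_notMem {U : Set (_root_.ConnectedComponents (PrimeSpectrum B))} (hU : IsClopen U)
    (q : PrimeSpectrum B) : idem hU ∉ q.asIdeal ↔ _root_.ConnectedComponents.mk q ∈ U :=
  (Set.ext_iff.1
    (PrimeSpectrum.isClopen_iff.1 (hU.preimage ConnectedComponents.continuous_coe)).choose_spec.2 q).symm

theorem eq_of_forall_idem {b b' : B}
    (h : ∀ t, ∃ (U : Set (_root_.ConnectedComponents (PrimeSpectrum B))) (hU : IsClopen U),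
      t ∈ U ∧ b * idem hU = b' * idem hU) : b = b' := by
  let I : Ideal B := Ideal.torsionOf B B (b - b')
  have : I = ⊤ := by
    by_contra hI
    obtain ⟨M, hM, hle⟩ := Ideal.exists_le_maximal I hI
    obtain ⟨U, hU, htU, hb⟩ := h (_root_.ConnectedComponents.mk ⟨M, hM.isPrime⟩)
    refine (idem_notMem hU ⟨M, hM.isPrime⟩).2 htU (hle ?_)
    rw [Ideal.mem_torsionOf_iff, smul_eq_mul, mul_sub, mul_comm, hb, mul_comm, sub_self]
  have h1 : (1 : B) ∈ I := this ▸ Submodule.mem_top
  rwa [Ideal.mem_torsionOf_iff, one_smul, sub_eq_zero] at h1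

variable (f : LocallyConstant (_root_.ConnectedComponents (PrimeSpectrum B)) A)

theorem exists_lcVal : ∃ b : B, ∀ t, ∃ (U : Set (_root_.ConnectedComponents (PrimeSpectrum B)))
    (hU : IsClopen U), t ∈ U ∧ (∀ x ∈ U, f x = f t) ∧
      b * idem hU = algebraMap A B (f t) * idem hU := by
  classical
  let hfib : ∀ a, IsClopen (f ⁻¹' {a}) := fun a => f.isLocallyConstant.isClopen_fiber a
  refine ⟨∑ a ∈ f.range_finite.toFinset, algebraMap A B a * idem (hfib a),
    fun t => ⟨f ⁻¹' {f t}, hfib _, rfl, fun x hx => hx, ?_⟩⟩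
  rw [Finset.sum_mul, Finset.sum_eq_single (f t)]
  · rw [mul_assoc, (isIdempotentElem_idem (hfib _)).eq]
  · intro a _ hne
    rw [mul_assoc]
    have h0 : idem (hfib a) * idem (hfib (f t)) = 0 := by
      refine IsIdempotentElem.eq_zero_of_isNilpotent
        ((isIdempotentElem_idem (hfib a)).mul (isIdempotentElem_idem (hfib (f t))))
        (nilpotent_iff_mem_prime.2 fun P hP => ?_)
      by_contra hn
      have h1 := (idem_notMem (hfib a) ⟨P, hP⟩).1 fun hh => hn (P.mul_mem_right _ hh)
      have h2 := (idem_notMem (hfib (f t)) ⟨P, hP⟩).1 fun hh => hn (P.mul_mem_left _ hh)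
      exact hne ((h1 : f _ = a).symm.trans h2)
    rw [h0, mul_zero]
  · intro h
    exact absurd (f.range_finite.mem_toFinset.2 ⟨t, rfl⟩) h

/-- The element of `B` glued from a locally constant function. -/
noncomputable def lcVal : B := (exists_lcVal (B := B) f).choose

theorem lcVal_spec (t : _root_.ConnectedComponents (PrimeSpectrum B)) :
    ∃ (U : Set (_root_.ConnectedComponents (PrimeSpectrum B))) (hU : IsClopen U), t ∈ U ∧
      (∀ x ∈ U, f x = f t) ∧ lcVal f * idem hU = algebraMap A B (f t) * idem hU :=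
  (exists_lcVal (B := B) f).choose_spec t

theorem idem_inter {U V : Set (_root_.ConnectedComponents (PrimeSpectrum B))} (hU : IsClopen U)
    (hV : IsClopen V) : idem (hU.inter hV) = idem hU * idem hV := by
  refine basicOpen_injOn_isIdempotentElem (isIdempotentElem_idem _)
    ((isIdempotentElem_idem hU).mul (isIdempotentElem_idem hV)) (TopologicalSpace.Opens.ext (Set.ext fun q => ?_))
  change idem (hU.inter hV) ∉ q.asIdeal ↔ idem hU * idem hV ∉ q.asIdeal
  rw [idem_notMem, q.2.mul_mem_iff_mem_or_mem, not_or, idem_notMem, idem_notMem]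
  rfl

theorem lcVal_eq {b : B}
    (h : ∀ t, ∃ (U : Set (_root_.ConnectedComponents (PrimeSpectrum B))) (hU : IsClopen U), t ∈ U ∧
      b * idem hU = algebraMap A B (f t) * idem hU) : lcVal f = b := by
  refine eq_of_forall_idem fun t => ?_
  obtain ⟨U, hU, htU, -, hb⟩ := lcVal_spec f t
  obtain ⟨V, hV, htV, hb'⟩ := h t
  refine ⟨U ∩ V, hU.inter hV, ⟨htU, htV⟩, ?_⟩
  rw [idem_inter hU hV, ← mul_assoc, hb, mul_left_comm b, hb']
  ring

variable (A B) in
/-- Locally constant functions on the components map to the ring. -/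
noncomputable def lcHom : LocallyConstant (_root_.ConnectedComponents (PrimeSpectrum B)) A →ₐ[A] B where
  toFun := lcVal
  map_one' := lcVal_eq _ fun t => ⟨univ, isClopen_univ, trivial, by simp⟩
  map_mul' f g := lcVal_eq _ fun t => by
    obtain ⟨U, hU, htU, -, hf⟩ := lcVal_spec f t
    obtain ⟨V, hV, htV, -, hg⟩ := lcVal_spec g t
    refine ⟨U ∩ V, hU.inter hV, ⟨htU, htV⟩, ?_⟩
    rw [idem_inter hU hV, LocallyConstant.coe_mul, Pi.mul_apply, map_mul]
    linear_combination lcVal g * idem hV * hf + algebraMap A B (f t) * idem hU * hg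
  map_zero' := lcVal_eq _ fun t => ⟨univ, isClopen_univ, trivial, by simp⟩
  map_add' f g := lcVal_eq _ fun t => by
    obtain ⟨U, hU, htU, -, hf⟩ := lcVal_spec f t
    obtain ⟨V, hV, htV, -, hg⟩ := lcVal_spec g t
    refine ⟨U ∩ V, hU.inter hV, ⟨htU, htV⟩, ?_⟩
    rw [idem_inter hU hV, LocallyConstant.coe_add, Pi.add_apply, map_add]
    linear_combination idem hV * hf + idem hU * hg
  commutes' a := lcVal_eq _ fun t => ⟨univ, isClopen_univ, trivial, by simp⟩

theorem mk_eq_of_lcHom (q : PrimeSpectrum B) :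
    lcPoint (PrimeSpectrum.comap (algebraMap A B) q, _root_.ConnectedComponents.mk q) =
      PrimeSpectrum.comap (lcHom A B).toRingHom q := by
  refine PrimeSpectrum.ext (Ideal.ext fun f => ?_)
  obtain ⟨U, hU, htU, -, hb⟩ := lcVal_spec f (_root_.ConnectedComponents.mk q)
  have hu := (idem_notMem hU q).2 htU
  change algebraMap A B (f _) ∈ q.asIdeal ↔ lcVal f ∈ q.asIdeal
  exact ⟨fun h => (q.2.mem_or_mem (hb ▸ q.asIdeal.mul_mem_right (idem hU) h)).resolve_right hu,
    fun h => (q.2.mem_or_mem (hb ▸ q.asIdeal.mul_mem_right (idem hU) h)).resolve_right hu⟩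

theorem exists_realize_equiv (h1 : EtPBC.IdentifiesLocalRings A B)
    (h2 : ProEtW.IsWLocal (PrimeSpectrum A)) (h3 : ProEtW.IsWLocal (PrimeSpectrum B))
    (h4 : ProEtW.IsWLocalMap (PrimeSpectrum.comap (algebraMap A B))) :
    ∃ (_ : CompactSpace (_root_.ConnectedComponents (PrimeSpectrum B)))
      (_ : T2Space (_root_.ConnectedComponents (PrimeSpectrum B)))
      (_ : TotallyDisconnectedSpace (_root_.ConnectedComponents (PrimeSpectrum B)))
      (g : C(_root_.ConnectedComponents (PrimeSpectrum B), _root_.ConnectedComponents (PrimeSpectrum A))),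
      Nonempty (Realize g ≃ₐ[A] B) := by
  have := h3.1
  let g : C(_root_.ConnectedComponents (PrimeSpectrum B), _root_.ConnectedComponents (PrimeSpectrum A)) :=
    ⟨(PrimeSpectrum.continuous_comap (algebraMap A B)).connectedComponentsMap,
      Continuous.connectedComponentsMap_continuous _⟩
  have hker : Ideal.span (relSet g) ≤ RingHom.ker (lcHom A B) := by
    rw [Ideal.span_le]
    intro d hd
    have hd' := (isIdempotentElem_relSet g d hd).map (lcHom A B)
    refine IsIdempotentElem.eq_zero_of_isNilpotent hd' (nilpotent_iff_mem_prime.2 fun P hP => ?_)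
    have h6 : lcPoint (PrimeSpectrum.comap (algebraMap A B) ⟨P, hP⟩,
        _root_.ConnectedComponents.mk (⟨P, hP⟩ : PrimeSpectrum B)) ∈
        zeroLocus (Ideal.span (relSet g) : Set (LocallyConstant _ A)) :=
      (lcPoint_mem_zeroLocus_iff g _).2 rfl
    rw [mk_eq_of_lcHom] at h6
    exact h6 (Ideal.subset_span hd)
  let φ : Realize g →ₐ[A] B := Ideal.Quotient.liftₐ _ (lcHom A B) fun x hx => hker hx
  letI : Algebra (Realize g) B := φ.toRingHom.toAlgebra
  have : IsScalarTower A (Realize g) B :=
    IsScalarTower.of_algebraMap_eq fun a => (φ.commutes a).symm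
  have hC := isIndZariski_realize g (isIndZariski_self (A := A))
  obtain ⟨e, h, hh⟩ := exists_realize_components g
  have hw := PiZero.isWLocal_pullback g h2
  have hcompat : ∀ y : PrimeSpectrum B,
      e (_root_.ConnectedComponents.mk (PrimeSpectrum.comap φ.toRingHom y)) =
        _root_.ConnectedComponents.mk y := by
    intro y
    obtain ⟨h7, h8⟩ := hh (PrimeSpectrum.comap φ.toRingHom y)
    have h9 : (h (PrimeSpectrum.comap φ.toRingHom y)).1 =
        (PrimeSpectrum.comap (algebraMap A B) y, _root_.ConnectedComponents.mk y) := by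
      refine injective_lcPoint ?_
      rw [h8, mk_eq_of_lcHom, ← PrimeSpectrum.comap_comp_apply]
      congr 1
    exact (congrArg Prod.snd h7).symm.trans (congrArg Prod.snd h9)
  have hbij : Function.Bijective
      (PrimeSpectrum.continuous_comap (algebraMap (Realize g) B)).connectedComponentsMap := by
    have : (PrimeSpectrum.continuous_comap (algebraMap (Realize g) B)).connectedComponentsMap =
        e.symm := funext fun d => by
      obtain ⟨y, rfl⟩ := ConnectedComponents.surjective_coe d
      exact (e.symm_apply_eq.2 (hcompat y).symm).symm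
    rw [this]
    exact e.symm.bijective
  have hmap : ProEtW.IsWLocalMap (PrimeSpectrum.comap (algebraMap (Realize g) B)) := by
    refine ⟨isSpectralMap_comap _, fun y hy => ?_⟩
    have h10 : IsClosed ({h (PrimeSpectrum.comap φ.toRingHom y)} : Set _) := by
      refine (PiZero.isClosed_singleton_pullback_iff g).2 ?_
      rw [(hh _).1]
      change IsClosed ({PrimeSpectrum.comap (algebraMap A (Realize g))
        (PrimeSpectrum.comap φ.toRingHom y)} : Set (PrimeSpectrum A))
      rw [← PrimeSpectrum.comap_comp_apply]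
      rw [show φ.toRingHom.comp (algebraMap A (Realize g)) = algebraMap A B from φ.comp_algebraMap]
      exact h4.2 y hy
    have h11 := h10.preimage h.continuous
    rwa [show h ⁻¹' {h (PrimeSpectrum.comap φ.toRingHom y)} = {PrimeSpectrum.comap φ.toRingHom y} from
      Set.ext fun z => h.injective.eq_iff] at h11
  have hfinal := bijective_of_identifiesLocalRings
    (identifiesLocalRings_cancel (identifiesLocalRings_of_isIndZariski hC) h1)
    (isWLocal_of_homeomorph h hw.1) h3 hmap hbij
  exact ⟨inferInstance, inferInstance, inferInstance, g, ⟨AlgEquiv.ofBijective φ hfinal⟩⟩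

theorem isIndZariski_of_identifiesLocalRings_wLocal (h1 : EtPBC.IdentifiesLocalRings A B)
    (h2 : ProEtW.IsWLocal (PrimeSpectrum A)) (h3 : ProEtW.IsWLocal (PrimeSpectrum B))
    (h4 : ProEtW.IsWLocalMap (PrimeSpectrum.comap (algebraMap A B))) :
    EtPBC.IsIndZariski A B := by
  obtain ⟨_, _, _, g, ⟨e⟩⟩ := exists_realize_equiv h1 h2 h3 h4
  exact isIndZariski_of_equiv e (isIndZariski_realize g isIndZariski_self)

end Groth.EtaleDeep.IndEt
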