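import Groth.Agent.EtaleDeep.IndEt.Over

/-!
# w-local covers with strictly henselian local rings at closed points
-/

set_option autoImplicit false
set_option linter.style.haveILetI false

universe u

open CategoryTheory TensorProduct PrimeSpectrum Topology

namespace Groth.EtaleDeep.IndEt

attribute [local instance] Algebra.TensorProduct.rightAlgebra

theorem flat_of_isIndEtale {A B : Type u} [CommRing A] [CommRing B] [Algebra A B]
    (h : EtPBC.IsIndEtale A B) : Module.Flat A B :=
  flat_of_pres (isIndEtale_iff.mp h).some fun j => by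
    have := (isIndEtale_iff.mp h).some.prop j
    exact Algebra.Smooth.flat A _

theorem exists_wLocal_strictHens_single (A : Type u) [CommRing A] :
    ∃ (C : Type u) (_ : CommRing C) (_ : Algebra A C) (I : Ideal C),
      Module.FaithfullyFlat A C ∧ EtPBC.IsIndEtale A C ∧ ProEtW.IsWLocal (PrimeSpectrum C) ∧
      PrimeSpectrum.zeroLocus (R := C) I = ProEtW.closedPoints (PrimeSpectrum C) ∧
      PrimeSpectrum.comap (algebraMap A C) '' ProEtW.closedPoints (PrimeSpectrum C) = Set.univ ∧
      ∀ (m : Ideal C) [m.IsMaximal],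
        EtCoh.IsStrictlyHenselianLocalRing (Localization.AtPrime m) := by
  have hW : ProEtW.IsWLocal (PrimeSpectrum (WLoc A)) := isWLocal_wLoc
  obtain ⟨I₀, hI₀⟩ := (PrimeSpectrum.isClosed_iff_zeroLocus_ideal _).1 hW.2.1
  obtain ⟨C', _, _, hff, hind, hret⟩ := exists_closure (WLoc A)
  have hinc := incomparable_of_isIndEtale hind
  obtain ⟨C, _, _, _, _, hZ, -, hw, hmap, hcl, hbij⟩ := exists_wLocal_over I₀ hI₀.symm hinc
  letI : Algebra A C := ((algebraMap (WLoc A) C).comp (algebraMap A (WLoc A))).toAlgebra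
  have : IsScalarTower A (WLoc A) C := ⟨fun a w c => by
    have h1 : a • w = algebraMap A (WLoc A) a * w := Algebra.smul_def a w
    change (a • w) • c = algebraMap A C a * (w • c)
    rw [Algebra.smul_def, Algebra.smul_def, h1, map_mul, mul_assoc]
    rfl⟩
  have hind' : EtPBC.IsIndEtale A C :=
    isIndEtale_trans (isIndEtale_of_isIndZariski isIndZariski_wLoc)
      (isIndEtale_trans hind (isIndEtale_of_isIndZariski hZ))
  have himg : PrimeSpectrum.comap (algebraMap A C) '' ProEtW.closedPoints (PrimeSpectrum C) =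
      Set.univ := by
    refine Set.eq_univ_of_forall fun p => ?_
    obtain ⟨w, hwc, hwp⟩ := bijOn_closedPoints_wLoc.surjOn (Set.mem_univ p)
    obtain ⟨c', hc'⟩ := PrimeSpectrum.comap_surjective_of_faithfullyFlat (A := WLoc A) (B := C') w
    obtain ⟨c, hc, hcc'⟩ := hbij.surjOn
      ((mem_zeroLocus_map_iff_closed I₀ hI₀.symm).2 (by rw [hc']; exact hwc))
    refine ⟨c, hc, ?_⟩
    rw [IsScalarTower.algebraMap_eq A (WLoc A) C, PrimeSpectrum.comap_comp_apply,
      IsScalarTower.algebraMap_eq (WLoc A) C' C, PrimeSpectrum.comap_comp_apply, hcc', hc', hwp]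
  refine ⟨C, inferInstance, inferInstance, I₀.map (algebraMap (WLoc A) C), ?_, hind', hw, ?_, himg,
    fun m hm => ?_⟩
  · have := flat_of_isIndEtale hind'
    exact Module.FaithfullyFlat.of_comap_surjective fun p => by
      obtain ⟨c, -, hc⟩ := himg.ge (Set.mem_univ p)
      exact ⟨c, hc⟩
  · rw [hcl]
    ext c
    exact mem_zeroLocus_map_iff_closed I₀ hI₀.symm
  · let c : PrimeSpectrum C := ⟨m, hm.isPrime⟩
    let c' : PrimeSpectrum C' := PrimeSpectrum.comap (algebraMap C' C) c
    have hc : c ∈ ProEtW.closedPoints (PrimeSpectrum C) :=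
      (PrimeSpectrum.isClosed_singleton_iff_isMaximal c).2 hm
    have hc' : c'.asIdeal.IsMaximal := (PrimeSpectrum.isClosed_singleton_iff_isMaximal c').1
      (zeroLocus_map_subset_closedPoints I₀ hI₀.symm hinc (hbij.mapsTo hc))
    exact isStrictlyHenselianLocalRing_of_ringEquiv
      (RingEquiv.ofBijective _ (identifiesLocalRings_of_isIndZariski hZ c))
      (@isStrictlyHenselianLocalRing C' _ c'.asIdeal hc' hret)

theorem exists_wLocal_strictHens (A B : Type u) [CommRing A] [CommRing B] [Algebra A B]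
    (h : ProEtW.AlgebraicResidueExtensions A B) :
    ∃ (C D : Type u) (_ : CommRing C) (_ : CommRing D) (_ : Algebra A C) (_ : Algebra B D)
      (_ : Algebra C D) (_ : Algebra A D) (_ : IsScalarTower A C D) (_ : IsScalarTower A B D),
      Module.FaithfullyFlat A C ∧ EtPBC.IsIndEtale A C ∧ Module.FaithfullyFlat B D ∧
      EtPBC.IsIndEtale B D ∧ ProEtW.IsWLocal (PrimeSpectrum C) ∧ ProEtW.IsWLocal (PrimeSpectrum D) ∧
      ProEtW.IsWLocalMap (PrimeSpectrum.comap (algebraMap C D)) ∧
      ProEtW.closedPoints (PrimeSpectrum D) =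
        PrimeSpectrum.comap (algebraMap C D) ⁻¹' ProEtW.closedPoints (PrimeSpectrum C) ∧
      PrimeSpectrum.comap (algebraMap A C) '' ProEtW.closedPoints (PrimeSpectrum C) = Set.univ ∧
      PrimeSpectrum.comap (algebraMap B D) '' ProEtW.closedPoints (PrimeSpectrum D) = Set.univ ∧
      ∀ (m : Ideal C) [m.IsMaximal],
        EtCoh.IsStrictlyHenselianLocalRing (Localization.AtPrime m) := by
  obtain ⟨C, _, _, I, hffC, hindC, hwC, hI, himgC, hsh⟩ := exists_wLocal_strictHens_single A
  obtain ⟨D, _, _, _, _, hZ, -, hw, hmap, hcl, hbij⟩ :=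
    exists_wLocal_over (B := B ⊗[A] C) I hI
      (incomparable_of_algebraicResidue (algebraicResidue_tensor h))
  letI : Algebra A D := ((algebraMap C D).comp (algebraMap A C)).toAlgebra
  letI : Algebra B D :=
    ((algebraMap (B ⊗[A] C) D).comp (algebraMap B (B ⊗[A] C))).toAlgebra
  have : IsScalarTower A C D := IsScalarTower.of_algebraMap_eq fun _ => rfl
  have : IsScalarTower B (B ⊗[A] C) D := IsScalarTower.of_algebraMap_eq fun _ => rfl
  have : IsScalarTower A B D := IsScalarTower.of_algebraMap_eq fun a => by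
    change algebraMap C D (algebraMap A C a) =
      algebraMap (B ⊗[A] C) D (algebraMap B (B ⊗[A] C) (algebraMap A B a))
    rw [IsScalarTower.algebraMap_apply C (B ⊗[A] C) D,
      ← IsScalarTower.algebraMap_apply A B (B ⊗[A] C)]
    exact congrArg _ ((Algebra.TensorProduct.includeRight : C →ₐ[A] B ⊗[A] C).commutes a)
  have hindD : EtPBC.IsIndEtale B D :=
    isIndEtale_trans (isIndEtale_baseChange B hindC) (isIndEtale_of_isIndZariski hZ)
  have himgD : PrimeSpectrum.comap (algebraMap B D) '' ProEtW.closedPoints (PrimeSpectrum D) =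
      Set.univ := by
    refine Set.eq_univ_of_forall fun q => ?_
    obtain ⟨m, hm, hmq⟩ := himgC.ge (Set.mem_univ (PrimeSpectrum.comap (algebraMap A B) q))
    obtain ⟨Q, hQ₁, hQ₂⟩ := exists_prime_over_tensor q m (congrArg PrimeSpectrum.asIdeal hmq).symm
    obtain ⟨d, hd, hdQ⟩ := hbij.surjOn ((mem_zeroLocus_map_iff_closed I hI).2 (by
      rw [show PrimeSpectrum.comap (algebraMap C (B ⊗[A] C)) Q = m from hQ₂]; exact hm))
    refine ⟨d, hd, ?_⟩
    rw [IsScalarTower.algebraMap_eq B (B ⊗[A] C) D, PrimeSpectrum.comap_comp_apply, hdQ]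
    exact hQ₁
  refine ⟨C, D, inferInstance, inferInstance, inferInstance, inferInstance, inferInstance,
    inferInstance, inferInstance, inferInstance, hffC, hindC, ?_, hindD, hwC, hw, hmap, hcl,
    himgC, himgD, hsh⟩
  have := flat_of_isIndEtale hindD
  exact Module.FaithfullyFlat.of_comap_surjective fun q => by
    obtain ⟨d, -, hd⟩ := himgD.ge (Set.mem_univ q)
    exact ⟨d, hd⟩

end Groth.EtaleDeep.IndEt
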