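import Groth.Agent.EtaleDeep.IndEt.WLocalEq
import Groth.Agent.SpectralTopology.SpectralLimit

/-!
# The w-localization of a ring
-/

set_option autoImplicit false
set_option linter.style.haveILetI false

universe u

open Topology TopologicalSpace Set PrimeSpectrum
open Groth.EtaleDeep Groth.SpectralTopology

namespace Groth.EtaleDeep.IndEt

variable (A : Type u) [CommRing A]

/-- `Spec A` with the constructible topology. -/
abbrev CT : Type u := WithConstructibleTopology (PrimeSpectrum A)

variable {A}

/-- The point of `CT A`. -/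
abbrev CT.pt (t : CT A) : PrimeSpectrum A := WithTopology.ofTopology t

/-- A prime as a point of `CT A`. -/
abbrev CT.of (p : PrimeSpectrum A) : CT A := WithTopology.toTopology _ p

theorem isClopen_ctBasicOpen (a : A) : IsClopen {t : CT A | a ∉ (CT.pt t).asIdeal} := by
  refine ⟨?_, (basicOpen a).2.preimage continuous_ofTopology_spectral⟩
  exact isClosed_preimage_ofTopology
    (Groth.SpectralTopology.isClosed_ct (basicOpen a).2 (isCompact_basicOpen a))

instance totallySeparated_CT : TotallySeparatedSpace (CT A) := by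
  rw [totallySeparatedSpace_iff_exists_isClopen]
  intro s t hst
  by_contra hcon
  push Not at hcon
  refine hst (WithTopology.ofTopology_injective _ (PrimeSpectrum.ext (Ideal.ext fun a => ⟨?_, ?_⟩)))
  · intro h
    by_contra h'
    exact hcon _ (isClopen_ctBasicOpen a).compl (fun hh => hh h) (fun hh => hh h')
  · intro h
    by_contra h'
    exact hcon _ (isClopen_ctBasicOpen a) h' (fun hh => hh h)

variable (A) in
/-- Locally constant functions taking at every point a value not vanishing there. -/
def wSet : Submonoid (LocallyConstant (CT A) A) where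
  carrier := {f | ∀ t, f t ∉ (CT.pt t).asIdeal}
  one_mem' t := (CT.pt t).2.one_notMem
  mul_mem' hf hg t h := ((CT.pt t).2.mem_or_mem h).elim (hf t) (hg t)

variable (A) in
/-- The w-localization. -/
abbrev WLoc : Type u := Localization (wSet A)

theorem isIndZariski_wLoc : EtPBC.IsIndZariski A (WLoc A) :=
  isIndZariski_localization (L := LocallyConstant (CT A) A) (wSet A)
    (isIndZariski_locallyConstant isIndZariski_self)

theorem disjoint_wSet_iff (x : PrimeSpectrum A) (t : CT A) :
    Disjoint (wSet A : Set (LocallyConstant (CT A) A)) ((lcPoint (x, t)).asIdeal : Set _) ↔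
      x.asIdeal ≤ (CT.pt t).asIdeal := by
  constructor
  · intro h a hax
    by_contra hat
    have hU := isClopen_ctBasicOpen a
    let f : LocallyConstant (CT A) A :=
      algebraMap A _ a * ind A hU + ind A hU.compl
    have hf : f ∈ wSet A := fun s => by
      change algebraMap A (LocallyConstant (CT A) A) a s * ind A hU s + ind A hU.compl s ∉ _
      by_cases hs : s ∈ {t : CT A | a ∉ (CT.pt t).asIdeal}
      · rw [ind_apply_mem hU hs, ind_apply_notMem hU.compl (fun hh => hh hs)]
        simpa using hs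
      · rw [ind_apply_notMem hU hs, ind_apply_mem hU.compl hs]
        simpa using (CT.pt s).2.one_notMem
    refine Set.disjoint_left.1 h hf ?_
    change algebraMap A (LocallyConstant (CT A) A) a t * ind A hU t + ind A hU.compl t ∈ x.asIdeal
    rw [ind_apply_mem hU hat, ind_apply_notMem hU.compl (fun hh => hh hat)]
    simpa using hax
  · intro h
    exact Set.disjoint_left.2 fun f hf hfx => hf t (h hfx)

/-- The two coordinates of a point of the w-localization. -/
noncomputable def wCoord (q : PrimeSpectrum (WLoc A)) : PrimeSpectrum A × CT A :=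
  (lcHomeo A (CT A)).symm (PrimeSpectrum.comap (algebraMap (LocallyConstant (CT A) A) (WLoc A)) q)

theorem lcPoint_wCoord (q : PrimeSpectrum (WLoc A)) :
    lcPoint (wCoord q) = PrimeSpectrum.comap (algebraMap (LocallyConstant (CT A) A) (WLoc A)) q :=
  (lcHomeo A (CT A)).apply_symm_apply _

theorem wCoord_fst (q : PrimeSpectrum (WLoc A)) :
    (wCoord q).1 = PrimeSpectrum.comap (algebraMap A (WLoc A)) q := by
  rw [← comap_lcPoint (wCoord q), lcPoint_wCoord, ← PrimeSpectrum.comap_comp_apply,
    ← IsScalarTower.algebraMap_eq]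

theorem isEmbedding_wCoord : IsEmbedding (wCoord (A := A)) :=
  (lcHomeo A (CT A)).symm.isEmbedding.comp
    (localization_comap_isEmbedding (WLoc A) (wSet A))

theorem range_wCoord : Set.range (wCoord (A := A)) = {p | p.1.asIdeal ≤ (CT.pt p.2).asIdeal} := by
  ext ⟨x, t⟩
  constructor
  · rintro ⟨q, hq⟩
    have h2 : lcPoint (x, t) ∈
        Set.range (PrimeSpectrum.comap (algebraMap (LocallyConstant (CT A) A) (WLoc A))) :=
      ⟨q, by rw [← hq, lcPoint_wCoord]⟩
    rw [localization_comap_range (WLoc A) (wSet A)] at h2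
    exact (disjoint_wSet_iff x t).1 h2
  · intro h
    obtain ⟨q, hq⟩ := (localization_comap_range (WLoc A) (wSet A)).ge ((disjoint_wSet_iff x t).2 h)
    exact ⟨q, injective_lcPoint (by rw [lcPoint_wCoord]; exact hq)⟩

theorem exists_wCoord (x : PrimeSpectrum A) (t : CT A) (h : x.asIdeal ≤ (CT.pt t).asIdeal) :
    ∃ q, wCoord q = (x, t) := range_wCoord.ge h

theorem wCoord_le (q : PrimeSpectrum (WLoc A)) :
    (wCoord q).1.asIdeal ≤ (CT.pt (wCoord q).2).asIdeal := range_wCoord.le ⟨q, rfl⟩

theorem specializes_wCoord_iff {q q' : PrimeSpectrum (WLoc A)} :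
    q ⤳ q' ↔ (wCoord q).1 ⤳ (wCoord q').1 ∧ (wCoord q).2 = (wCoord q').2 := by
  rw [← isEmbedding_wCoord.isInducing.specializes_iff, specializes_prod,
    specializes_iff_eq (X := CT A)]

theorem isClosed_singleton_wCoord_iff {q : PrimeSpectrum (WLoc A)} :
    IsClosed ({q} : Set (PrimeSpectrum (WLoc A))) ↔ (wCoord q).1 = CT.pt (wCoord q).2 := by
  rw [PiZero.isClosed_singleton_iff]
  constructor
  · intro h
    obtain ⟨q', hq'⟩ := exists_wCoord (CT.pt (wCoord q).2) (wCoord q).2 le_rfl
    have hsp : q ⤳ q' := by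
      rw [specializes_wCoord_iff, hq']
      exact ⟨(le_iff_specializes _ _).1 (wCoord_le q), rfl⟩
    have h2 := congrArg (fun z => (wCoord z).1) (h q' hsp)
    simp only [hq'] at h2
    exact h2.symm
  · intro h q' hsp
    obtain ⟨h1, h2⟩ := specializes_wCoord_iff.1 hsp
    refine isEmbedding_wCoord.injective (Prod.ext ?_ h2.symm)
    refine PrimeSpectrum.ext (le_antisymm ?_ ((le_iff_specializes _ _).2 h1))
    rw [h, h2]
    exact wCoord_le q'

theorem isWLocal_wLoc : ProEtW.IsWLocal (PrimeSpectrum (WLoc A)) := by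
  refine ⟨inferInstance, ?_, fun q => ?_⟩
  · refine isOpen_compl_iff.1 (isOpen_iff_forall_mem_open.2 fun q hq => ?_)
    have hne : ¬ (CT.pt (wCoord q).2).asIdeal ≤ (wCoord q).1.asIdeal := fun hle =>
      hq (isClosed_singleton_wCoord_iff.2 (PrimeSpectrum.ext (le_antisymm (wCoord_le q) hle)))
    obtain ⟨a, hat, hax⟩ := SetLike.not_le_iff_exists.1 hne
    refine ⟨wCoord ⁻¹' ((basicOpen a : Set (PrimeSpectrum A)) ×ˢ {t : CT A | a ∉ (CT.pt t).asIdeal}ᶜ),
      ?_, ((basicOpen a).2.prod (isClopen_ctBasicOpen a).compl.2).preimage isEmbedding_wCoord.continuous,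
      hax, fun h => h hat⟩
    rintro q' ⟨h1, h2⟩ hcl
    have h3 := isClosed_singleton_wCoord_iff.1 hcl
    exact h2 (show a ∉ (CT.pt (wCoord q').2).asIdeal by rw [← h3]; exact h1)
  · obtain ⟨q', hq'⟩ := exists_wCoord (CT.pt (wCoord q).2) (wCoord q).2 le_rfl
    refine ⟨q', ⟨isClosed_singleton_wCoord_iff.2 (by rw [hq']), ?_⟩, fun z hz => ?_⟩
    · rw [specializes_wCoord_iff, hq']
      exact ⟨(le_iff_specializes _ _).1 (wCoord_le q), rfl⟩
    · refine isEmbedding_wCoord.injective ?_
      have h2 := (specializes_wCoord_iff.1 hz.2).2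
      rw [hq']
      exact Prod.ext ((isClosed_singleton_wCoord_iff.1 hz.1).trans (by rw [← h2])) h2.symm

theorem bijOn_closedPoints_wLoc :
    Set.BijOn (PrimeSpectrum.comap (algebraMap A (WLoc A)))
      (ProEtW.closedPoints (PrimeSpectrum (WLoc A))) Set.univ := by
  refine ⟨fun _ _ => trivial, fun q hq q' hq' h => ?_, fun p _ => ?_⟩
  · rw [← wCoord_fst, ← wCoord_fst] at h
    refine isEmbedding_wCoord.injective (Prod.ext h (WithTopology.ofTopology_injective _ ?_))
    exact (isClosed_singleton_wCoord_iff.1 hq).symm.trans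
      (h.trans (isClosed_singleton_wCoord_iff.1 hq'))
  · obtain ⟨q, hq⟩ := exists_wCoord p (CT.of p) le_rfl
    exact ⟨q, isClosed_singleton_wCoord_iff.2 (by rw [hq]), by rw [← wCoord_fst, hq]⟩

theorem faithfullyFlat_wLoc : Module.FaithfullyFlat A (WLoc A) := by
  have := (weaklyEtale_of_isIndZariski (isIndZariski_wLoc (A := A))).flat
  refine Module.FaithfullyFlat.of_comap_surjective fun p => ?_
  obtain ⟨q, -, hq⟩ := bijOn_closedPoints_wLoc.surjOn (Set.mem_univ p)
  exact ⟨q, hq⟩

section Universal

variable {B : Type u} [CommRing B] [Algebra A B] (hB : ProEtW.IsWLocal (PrimeSpectrum B))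

include hB in
theorem exists_wMap : ∃ φ : WLoc A →ₐ[A] B,
    ProEtW.IsWLocalMap (PrimeSpectrum.comap φ.toRingHom) := by
  have := hB.1
  obtain ⟨_, _, _⟩ := PiZero.isProfinite_closedPoints hB
  obtain ⟨e, he⟩ := PiZero.exists_homeomorph_closedPoints hB
  let c : ProEtW.closedPoints (PrimeSpectrum B) → CT A :=
    fun z => CT.of (PrimeSpectrum.comap (algebraMap A B) z.1)
  have hc : Continuous c := by
    have hι : Continuous[_, constructibleTopology (PrimeSpectrum B)]
        (Subtype.val : ProEtW.closedPoints (PrimeSpectrum B) → PrimeSpectrum B) := by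
      refine continuous_generateFrom_iff.2 ?_
      rintro s (⟨ho, -⟩ | ⟨hcl, hcc⟩)
      · exact ho.preimage continuous_subtype_val
      · have hK : IsCompact (Subtype.val ⁻¹' sᶜ : Set (ProEtW.closedPoints (PrimeSpectrum B))) :=
          hB.2.1.isClosedEmbedding_subtypeVal.isCompact_preimage hcc
        have h2 := hK.isClosed
        rwa [Set.preimage_compl, isClosed_compl_iff] at h2
    exact @Continuous.comp _ (PrimeSpectrum B) _ _ (constructibleTopology (PrimeSpectrum B)) _ _ _
      (@Continuous.comp (PrimeSpectrum B) (PrimeSpectrum A) _ (constructibleTopology (PrimeSpectrum B))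
        (constructibleTopology (PrimeSpectrum A)) _ _ _ (WithTopology.continuous_toTopology _)
        (Groth.SpectralTopology.continuous_ct (isSpectralMap_comap (algebraMap A B)))) hι
  let τ : C(_root_.ConnectedComponents (PrimeSpectrum B), CT A) :=
    ⟨c ∘ e.symm, hc.comp e.symm.continuous⟩
  have hτ : ∀ z : ProEtW.closedPoints (PrimeSpectrum B),
      τ (_root_.ConnectedComponents.mk z.1) = c z := fun z => by
    change c (e.symm _) = _
    rw [← he, e.symm_apply_apply]
  let ψ : LocallyConstant (CT A) A →ₐ[A] B := (lcHom A B).comp (LocallyConstant.comapₐ A τ)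
  have hψq : ∀ q : PrimeSpectrum B, PrimeSpectrum.comap ψ.toRingHom q =
      lcPoint (PrimeSpectrum.comap (algebraMap A B) q, τ (_root_.ConnectedComponents.mk q)) := by
    intro q
    have h1 := mk_eq_of_lcHom (A := A) q
    refine PrimeSpectrum.ext (Ideal.ext fun f => ?_)
    have h2 := SetLike.ext_iff.1 (congrArg PrimeSpectrum.asIdeal h1) (LocallyConstant.comapₐ A τ f)
    exact h2.symm.trans Iff.rfl
  have hunit : ∀ f : wSet A, IsUnit (ψ f) := by
    intro f
    by_contra hu
    obtain ⟨M, hM, hfM⟩ := exists_max_ideal_of_mem_nonunits (mem_nonunits_iff.2 hu)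
    have hz : (⟨M, hM.isPrime⟩ : PrimeSpectrum B) ∈ ProEtW.closedPoints (PrimeSpectrum B) :=
      (PrimeSpectrum.isClosed_singleton_iff_isMaximal _).2 hM
    have h3 : (f : LocallyConstant (CT A) A) ∈ (PrimeSpectrum.comap ψ.toRingHom ⟨M, hM.isPrime⟩).asIdeal :=
      hfM
    rw [hψq, hτ ⟨_, hz⟩] at h3
    exact f.2 (c ⟨_, hz⟩) h3
  let φ : WLoc A →ₐ[A] B := IsLocalization.liftAlgHom (M := wSet A) (f := ψ) hunit
  have hφ : φ.toRingHom.comp (algebraMap (LocallyConstant (CT A) A) (WLoc A)) = ψ.toRingHom :=
    IsLocalization.lift_comp _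
  refine ⟨φ, isSpectralMap_comap _, fun z hz => isClosed_singleton_wCoord_iff.2 ?_⟩
  have h4 : lcPoint (wCoord (PrimeSpectrum.comap φ.toRingHom z)) =
      lcPoint (PrimeSpectrum.comap (algebraMap A B) z, τ (_root_.ConnectedComponents.mk z)) := by
    rw [lcPoint_wCoord, ← PrimeSpectrum.comap_comp_apply, hφ, hψq]
  rw [injective_lcPoint h4, hτ ⟨z, hz⟩]

theorem wMap_unique (φ φ' : WLoc A →ₐ[A] B)
    (hφ : ProEtW.IsWLocalMap (PrimeSpectrum.comap φ.toRingHom))
    (hφ' : ProEtW.IsWLocalMap (PrimeSpectrum.comap φ'.toRingHom))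
    (hB : ProEtW.IsWLocal (PrimeSpectrum B)) : φ = φ' := by
  have := hB.1
  let ψ := φ.comp (IsScalarTower.toAlgHom A (LocallyConstant (CT A) A) (WLoc A))
  let ψ' := φ'.comp (IsScalarTower.toAlgHom A (LocallyConstant (CT A) A) (WLoc A))
  -- the second coordinate is determined
  have key : ∀ (χ : WLoc A →ₐ[A] B), ProEtW.IsWLocalMap (PrimeSpectrum.comap χ.toRingHom) →
      ∀ q : PrimeSpectrum B, lcPoint (PrimeSpectrum.comap (algebraMap A B) q,
          CT.of (PrimeSpectrum.comap (algebraMap A B) (PiZero.retr hB q))) =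
        PrimeSpectrum.comap (χ.toRingHom.comp (algebraMap (LocallyConstant (CT A) A) (WLoc A))) q := by
    intro χ hχ q
    rw [PrimeSpectrum.comap_comp_apply, ← lcPoint_wCoord]
    congr 1
    have hfst : ∀ y, (wCoord (PrimeSpectrum.comap χ.toRingHom y)).1 =
        PrimeSpectrum.comap (algebraMap A B) y := fun y => by
      rw [wCoord_fst, ← PrimeSpectrum.comap_comp_apply]
      congr 1
      exact χ.comp_algebraMap
    have hcl := isClosed_singleton_wCoord_iff.1 (hχ.2 _ (PiZero.isClosed_retr hB q))
    rw [hfst] at hcl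
    have hsp := ((PiZero.specializes_retr hB q).map
      (PrimeSpectrum.continuous_comap χ.toRingHom))
    refine Prod.ext (hfst q).symm (WithTopology.ofTopology_injective _ ?_)
    rw [(specializes_wCoord_iff.1 hsp).2]
    exact hcl
  have hpt : ∀ q : PrimeSpectrum B,
      PrimeSpectrum.comap ψ.toRingHom q = PrimeSpectrum.comap ψ'.toRingHom q := fun q =>
    (key φ hφ q).symm.trans (key φ' hφ' q)
  have hidem : ∀ u : LocallyConstant (CT A) A, IsIdempotentElem u → ψ u = ψ' u := fun u hu =>
    basicOpen_injOn_isIdempotentElem (hu.map ψ) (hu.map ψ')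
      (TopologicalSpace.Opens.ext (Set.ext fun q =>
        not_congr (SetLike.ext_iff.1 (congrArg PrimeSpectrum.asIdeal (hpt q)) u)))
  refine AlgHom.coe_ringHom_injective (IsLocalization.ringHom_ext (wSet A) (RingHom.ext fun f => ?_))
  change ψ f = ψ' f
  refine eq_of_forall_idem fun t => ?_
  obtain ⟨q, rfl⟩ := ConnectedComponents.surjective_coe t
  let s : CT A := CT.of (PrimeSpectrum.comap (algebraMap A B) (PiZero.retr hB q))
  have hV : IsClopen {r | f r = f s} := f.isLocallyConstant.isClopen_fiber _
  let χ := ind A hV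
  have hχ : IsIdempotentElem χ := isIdempotentElem_ind hV
  have hfχ : f * χ = algebraMap A _ (f s) * χ := LocallyConstant.ext fun r => by
    change f r * ind A hV r = algebraMap A (LocallyConstant (CT A) A) (f s) r * ind A hV r
    by_cases hr : r ∈ {r | f r = f s}
    · rw [show f r = f s from hr]; simp
    · simp [ind_apply_notMem hV hr]
  have hclopen : IsClopen (_root_.ConnectedComponents.mk ''
      (basicOpen (ψ χ) : Set (PrimeSpectrum B))) :=
    PiZero.isClopen_image_mk (PrimeSpectrum.isClopen_iff.2 ⟨_, hχ.map ψ, rfl⟩)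
  have hid : idem hclopen = ψ χ := by
    refine basicOpen_injOn_isIdempotentElem (isIdempotentElem_idem _) (hχ.map ψ)
      (TopologicalSpace.Opens.ext (Set.ext fun r => ?_))
    exact (idem_notMem hclopen r).trans
      (PiZero.mk_mem_image_iff (PrimeSpectrum.isClopen_iff.2 ⟨_, hχ.map ψ, rfl⟩))
  refine ⟨_, hclopen, ?_, ?_⟩
  · refine ⟨q, ?_, rfl⟩
    change χ ∉ (PrimeSpectrum.comap ψ.toRingHom q).asIdeal
    rw [show PrimeSpectrum.comap ψ.toRingHom q = _ from (key φ hφ q).symm]
    exact (ind_notMem_lcPoint hV).2 rfl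
  · rw [hid, ← map_mul, hfχ, map_mul, hidem χ hχ, ← map_mul ψ', hfχ, map_mul, AlgHom.commutes,
      AlgHom.commutes]

end Universal

theorem extremallyDisconnected_of_homeomorph {X Y : Type*} [TopologicalSpace X] [TopologicalSpace Y]
    (e : X ≃ₜ Y) [ExtremallyDisconnected X] : ExtremallyDisconnected Y := by
  refine ⟨fun U hU => ?_⟩
  rw [← e.isOpen_preimage, e.preimage_closure]
  exact ExtremallyDisconnected.open_closure _ (hU.preimage e.continuous)

variable (A)

theorem exists_wLocal_extrDisc :
    ∃ (B : Type u) (_ : CommRing B) (_ : Algebra A B),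
      Module.FaithfullyFlat A B ∧ EtPBC.IsIndZariski A B ∧ ProEtW.IsWLocal (PrimeSpectrum B) ∧
        ExtremallyDisconnected (_root_.ConnectedComponents (PrimeSpectrum B)) := by
  let P := _root_.ConnectedComponents (PrimeSpectrum (WLoc A))
  letI : TopologicalSpace P := inferInstanceAs (TopologicalSpace (_root_.ConnectedComponents _))
  let T := StoneCech (WithTopology P ⊥)
  have : DiscreteTopology (WithTopology P ⊥) := ⟨by
    rw [eq_bot_iff]
    intro s _
    exact (WithTopology.isOpen_iff _).2 trivial⟩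
  have : ExtremallyDisconnected T := CompactT2.Projective.extremallyDisconnected StoneCech.projective
  have hcont : Continuous fun p : WithTopology P ⊥ => p.ofTopology := continuous_of_discreteTopology
  let g : C(T, P) := ⟨stoneCechExtend hcont, continuous_stoneCechExtend hcont⟩
  obtain ⟨e, h, hh⟩ := exists_realize_components g
  have hZ : EtPBC.IsIndZariski A (Realize g) := isIndZariski_realize g isIndZariski_wLoc
  refine ⟨Realize g, inferInstance, inferInstance, ?_, hZ,
    isWLocal_of_homeomorph h (PiZero.isWLocal_pullback g isWLocal_wLoc).1, ?_⟩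
  · have := (weaklyEtale_of_isIndZariski hZ).flat
    refine Module.FaithfullyFlat.of_comap_surjective fun p => ?_
    obtain ⟨q, -, rfl⟩ := bijOn_closedPoints_wLoc.surjOn (Set.mem_univ p)
    let pq : WithTopology P ⊥ := WithTopology.toTopology _ (_root_.ConnectedComponents.mk q)
    have hg : g (stoneCechUnit pq) = _root_.ConnectedComponents.mk q :=
      congrFun (stoneCechExtend_extends hcont) pq
    refine ⟨h.symm ⟨(q, stoneCechUnit pq), hg.symm⟩, ?_⟩
    have h2 := (hh (h.symm ⟨(q, stoneCechUnit pq), hg.symm⟩)).1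
    rw [h.apply_symm_apply] at h2
    have hAR : algebraMap A (Realize g) =
        (algebraMap (WLoc A) (Realize g)).comp (algebraMap A (WLoc A)) := RingHom.ext fun a => by
      have h3 : algebraMap A (LocallyConstant T (WLoc A)) a =
          algebraMap (WLoc A) (LocallyConstant T (WLoc A)) (algebraMap A (WLoc A) a) :=
        LocallyConstant.ext fun t => rfl
      rw [RingHom.comp_apply, ← Ideal.Quotient.mk_algebraMap, ← Ideal.Quotient.mk_algebraMap, h3]
    rw [hAR, PrimeSpectrum.comap_comp_apply]
    exact congrArg _ (congrArg Prod.fst h2).symm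
  · exact extremallyDisconnected_of_homeomorph e.symm

end Groth.EtaleDeep.IndEt
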